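import Cfsg.Agent.Lib.ACT.SOLV2
import Cfsg.Agent.Lib.ACT.AFF
import Cfsg.Agent.Lib.ACT.GD2
import Cfsg.Agent.Lib.ACT.MX1

/-! Weakly adjacent conjugates of the centraliser of a standard subgroup. See `plans/COMP.md`. -/

set_option autoImplicit false
set_option linter.unusedVariables false

namespace CfsgLib.ACT

open Subgroup Cfsg CfsgLib.Tech CfsgLib.PComp
open CfsgLib.LBal (RC)
open scoped commutatorElement

universe u

variable {G : Type u} [Group G] [Finite G]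

variable {𝒬 : Set (Subgroup G)}


omit [Finite G] in
theorem PT.symm {A B P T : Subgroup G} [Finite G] (h : PT A B P T) : PT B A T P := ⟨h.sT, h.sP, le_ct_comm.1 h.cent, fun e => h.ne (card_eq_one.1 (by rw [← h.card, e, card_bot])), h.card.symm⟩

namespace SK

variable (h : SK 𝒬) {A B P T : Subgroup G}
include h

theorem bp_eq (hA : A ∈ 𝒬) (hB : B ∈ 𝒬) {a : G} (ha : a ∈ A) (hb : a ∈ B) (h2 : Two a) (h1 : a ≠ 1) :
    A = B := by
  by_contra hne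
  exact h1 ((h.ti A hA B hB hne).eq_one ⟨ha, hb⟩ h2)

theorem cx_le (hA : A ∈ 𝒬) {a : G} (ha : a ∈ A) (h2 : orderOf a = 2) : Cx a ≤ Nm A := fun g hg => mem_normalizer_iff_cj.2 (h.bp_eq (h.conj A hA g) hA (by
    rw [← show g * a * g⁻¹ = a from mul_inv_eq_iff_eq_mul.2 (mem_centralizer_singleton_iff.1 hg)]
    exact conj_mem_cj.2 ha) ha (two_of_sq (sq_of_ord h2)) (ne_one_of_ord h2))

theorem wadj_symm (hA : A ∈ 𝒬) (hB : B ∈ 𝒬) (hw : WAdj A B) : WAdj B A := by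
  obtain ⟨hne, a, ha, h2, hn⟩ := hw
  obtain ⟨b, hb, b2, hc⟩ := exists_inv_fixed (two_of_sq (sq_of_ord h2)).zpowers (zpowers_le.2 hn) fun k => by
    obtain ⟨b, hb, -, -, b2, -⟩ := h.rk B hB
    exact k b hb b2
  exact ⟨hne.symm, b, hb, b2, h.cx_le hA ha h2 (mem_centralizer_singleton_iff.2
    (mem_centralizer_iff.1 hc a (mem_zpowers a)).symm)⟩

theorem bp_syl (hA : A ∈ 𝒬) (hB : B ∈ 𝒬) (hP : IsSylowIn 2 P A) (hT : IsPGroup 2 T) (hle : T ≤ B) :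
    Nat.card T ≤ Nat.card P := by
  obtain ⟨g, rfl⟩ := h.trans A hA B hB
  rw [← card_cj g P]
  exact (hP.cj g).card_le hT hle

theorem bp_ex (hB : B ∈ 𝒬) (sP : IsSylowIn 2 P (A ⊓ Nm B)) (sT : IsSylowIn 2 T (B ⊓ Nm A))
    (hc : P ≤ Ct T) : ∃ R, IsSylowIn 2 R A ∧ T ≤ Nm R ∧ P ≤ R ∧
      ∀ t ∈ T, orderOf t = 2 → ∀ r ∈ R, r * t = t * r → r ∈ P := by
  obtain ⟨R, hR, h1, h2⟩ := exists_syl_norm (A := A) (two_sup sP.pgroup sT.pgroup
    ((le_ct_comm.1 hc).trans (ct_le_nm P))) (sup_le (sP.le.trans (inf_le_left.trans le_normalizer))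
      (sT.le.trans inf_le_right))
  have h3 : P ≤ R := le_trans (le_inf le_sup_left (sP.le.trans inf_le_left)) h2
  refine ⟨R, hR, le_sup_right.trans h1, h3, fun t ht t2 r hr e => ?_⟩
  rw [← sP.eq_of_le (Q := R ⊓ Nm B) (hR.pgroup.to_le inf_le_left) (le_inf h3 (sP.le.trans inf_le_right))
    (inf_le_inf_right _ hR.le)]
  exact ⟨hr, h.cx_le hB (sT.le ht).1 t2 (mem_centralizer_singleton_iff.2 e)⟩

theorem bp_card (hA : A ∈ 𝒬) (hB : B ∈ 𝒬) (sP : IsSylowIn 2 P (A ⊓ Nm B)) (sT : IsSylowIn 2 T (B ⊓ Nm A))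
    (hc : P ≤ Ct T) : Nat.card T ≤ Nat.card P := by
  obtain ⟨R, hR, h1, h2, h3⟩ := h.bp_ex hB sP sT hc
  rcases h2.eq_or_lt with rfl | hlt
  · exact h.bp_syl hA hB hR sT.pgroup (sT.le.trans inf_le_left)
  obtain ⟨r, -, -, -, -, h4, -, h5, h6⟩ := step0 hR.pgroup sT.pgroup h1 hlt hc h3
  refine Nat.card_le_card_of_injective (fun t : T => (⟨⁅r, (t : G)⁆, h4 _ t.2⟩ : P)) fun t t' e => ?_
  have e' : ⁅r, (t : G)⁆ = ⁅r, (t' : G)⁆ := congrArg Subtype.val e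
  have := h5 _ t.2 _ (mul_mem (inv_mem t.2) t'.2)
  rw [mul_inv_cancel_left, ← e', left_eq_mul] at this
  exact Subtype.ext (inv_mul_eq_one.1 (h6 _ (mul_mem (inv_mem t.2) t'.2) this))

theorem exists_pt (hA : A ∈ 𝒬) (hB : B ∈ 𝒬) (hw : WAdj A B) : ∃ P T, PT A B P T := by
  have n1 : ∀ {A B : Subgroup G}, A ⊓ Nm B ≤ Nm (B ⊓ Nm A) := fun {A B} x hx =>
    bas_nm_inf hx.2 (le_normalizer (le_normalizer hx.1))
  obtain ⟨S, hS⟩ := exists_isSylowIn 2 ((A ⊓ Nm B) ⊔ (B ⊓ Nm A))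
  have sP := hS.inf_of_le_normalizer (N := A ⊓ Nm B) (sup_le le_normalizer n1)
  have sT := hS.inf_of_le_normalizer (N := B ⊓ Nm A) (sup_le n1 le_normalizer)
  rw [inf_eq_right.2 (le_sup_left : A ⊓ Nm B ≤ _)] at sP
  rw [inf_eq_right.2 (le_sup_right : B ⊓ Nm A ≤ _)] at sT
  have hc : S ⊓ (A ⊓ Nm B) ≤ Ct (S ⊓ (B ⊓ Nm A) : Subgroup G) := fun p hp => mem_centralizer_iff.2 fun t ht =>
    (commutatorElement_eq_one_iff_mul_comm.1 ((h.ti A hA B hB hw.1).eq_one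
      (comm_mem_inf hp.2.1 ht.2.1 hp.2.2 ht.2.2) (two_of_mem hS.pgroup
        (mul_mem (mul_mem (mul_mem hp.1 ht.1) (inv_mem hp.1)) (inv_mem ht.1))))).symm
  refine ⟨_, _, sP, sT, hc, fun e => ?_, le_antisymm (h.bp_card hB hA sT sP (le_ct_comm.1 hc))
    (h.bp_card hA hB sP sT hc)⟩
  obtain ⟨-, b, hb, b2, hn⟩ := h.wadj_symm hA hB hw
  have := sT.card_le (two_of_sq (sq_of_ord b2)).zpowers (zpowers_le.2 ⟨hb, hn⟩)
  rw [e, card_bot, Nat.card_zpowers, b2] at this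
  omega

theorem ab_of_not_le (hA : A ∈ 𝒬) (hB : B ∈ 𝒬) (hne : A ≠ B) (hp : PT A B P T) (hn : ¬ A ≤ Nm B) :
    Ab T ∧ ¬ (Rk2 T ∧ NE T) := by
  obtain ⟨K, hK, rfl, hN⟩ := h.hasK A hA
  have ho : NoInv (K ⊓ B) := fun j hj j2 => hn (le_trans (fun a ha => mem_centralizer_singleton_iff.2
    (mem_centralizer_iff.1 ha j hj.1).symm) (h.cx_le hB hj.2 j2))
  have tB : T ≤ B := hp.sT.le.trans inf_le_left
  have tK : T ≤ Nm K := hp.sT.le.trans (inf_le_right.trans hN)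
  have lc : LC K T (K ⊓ Nm B) := by
    refine ⟨hK, hp.sT.pgroup, hp.ne, tK, ho.eq_bot (hp.sT.pgroup.to_le inf_le_left)
      fun x hx => ⟨hx.2, tB hx.1⟩, inf_le_left, fun k => ?_, fun u hu u2 => inf_le_inf_left _ (h.cx_le hB (tB hu) u2),
      ho.mono (commutator_le.2 fun a ha t ht => comm_mem_inf ha.1 (tB ht) ha.2 (tK ht)), fun k hk hk' => ?_⟩
    · obtain ⟨t, ht, t2⟩ := s2_inv hp.sT.pgroup hp.ne
      refine h.ti _ hA B hB hne t ⟨mem_ct_of_noInv hK ho (tK ht) fun l hl => ?_, tB ht⟩ t2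
      rw [inf_comm]
      exact comm_mem_inf (tB ht) hl (tK ht) (k hl).2
    · exact (h.ti B hB _ (h.conj B hB k) fun e => hk' ⟨hk, mem_normalizer_iff_cj.2 e.symm⟩).eq_bot
        (hp.sT.pgroup.to_le inf_le_left) (inf_le_inf tB (cj_mono k tB))
  exact ⟨lc.aff.1, fun k => lc.kill k.1 k.2⟩

theorem core_le (hA : A ∈ 𝒬) (hB : B ∈ 𝒬) (hp : PT A B P T) (hr : Rk2 T) : opOf 2 A ≤ Nm B := by
  obtain ⟨a, ha, b, hb, a2, b2, hab, hc⟩ := hr
  have tB : T ≤ B := hp.sT.le.trans inf_le_left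
  have tO : T ≤ Nm (opOf 2 A) := hp.sT.le.trans (inf_le_right.trans (normalizer_le_normalizer_opOf A))
  have h3 : orderOf (a * b) = 2 := ord_two (by
    calc a * b * (a * b) = a * (b * a) * b := by group
      _ = a * a * (b * b) := by rw [← hc]; group
      _ = 1 := by rw [sq_of_ord a2, sq_of_ord b2, one_mul]) fun e => hab (by
      rw [eq_inv_of_mul_eq_one_left e, inv_eq_of_mul_eq_one_right (sq_of_ord b2)])
  exact le_of_four (noInv_opOf A) a2 b2 hab hc (tO ha) (tO hb) (inf_le_right.trans (h.cx_le hB (tB ha) a2))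
    (inf_le_right.trans (h.cx_le hB (tB hb) b2)) (inf_le_right.trans (h.cx_le hB (tB (mul_mem ha hb)) h3))

theorem bp_disj (hA : A ∈ 𝒬) (hB : B ∈ 𝒬) (hne : A ≠ B) (hp : PT A B P T) : A ⊓ T = ⊥ :=
  (h.ti A hA B hB hne).eq_bot (hp.sT.pgroup.to_le inf_le_right)
    (inf_le_inf_left _ (hp.sT.le.trans inf_le_left))

theorem bp_gr (hA : A ∈ 𝒬) (hB : B ∈ 𝒬) (hne : A ≠ B) (hp : PT A B P T) :
    ∃ R, IsSylowIn 2 R A ∧ GR R P T := by
  obtain ⟨R, hR, h1, h2, h3⟩ := h.bp_ex hB hp.sP hp.sT hp.cent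
  exact ⟨R, hR, hR.pgroup, hp.sT.pgroup, h1,
    le_bot_iff.1 ((inf_le_inf_right _ hR.le).trans (h.bp_disj hA hB hne hp).le), h2, hp.cent, h3, hp.card, hp.ne⟩

theorem bp_sylT (hA : A ∈ 𝒬) (hB : B ∈ 𝒬) (hp : PT A B P T) (hs : IsSylowIn 2 T B) : IsSylowIn 2 P A := by
  obtain ⟨R, hR⟩ := exists_isSylowIn 2 A
  exact hR.of_card_le hp.sP.pgroup (hp.sP.le.trans inf_le_left)
    (hp.card ▸ h.bp_syl hB hA hs hR.pgroup hR.le)

theorem bp_gd (hA : A ∈ 𝒬) (hB : B ∈ 𝒬) (hne : A ≠ B) (hp : PT A B P T) (hs : ¬ IsSylowIn 2 P A)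
    (hP : El P) (hT : El T) (h4 : 4 ≤ Nat.card T) : GD A P T := by
  have pA : P ≤ A := hp.sP.le.trans inf_le_left
  have tB : T ≤ B := hp.sT.le.trans inf_le_left
  have tA : T ≤ Nm A := hp.sT.le.trans inf_le_right
  have hd := h.bp_disj hA hB hne hp
  have hW := hP.sup hT hp.cent
  have inf : ∀ w ∈ P ⊔ T, w ∈ A → w ∈ P := fun w hw ha => by
    obtain ⟨p, hp', t, ht, rfl⟩ := (mem_sup_nm ((le_ct_comm.1 hp.cent).trans (ct_le_nm P))).1 hw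
    have : t ∈ A ⊓ T := ⟨(mul_mem_cancel_left (pA hp')).1 ha, ht⟩
    rw [hd, mem_bot] at this
    rwa [this, mul_one]
  have key : ∀ {C X : Subgroup G}, C ∈ 𝒬 → X ≤ C → X ≤ P ⊔ T → ∀ n ∈ Nm (P ⊔ T), cj n X ⊓ P ≠ ⊥ →
      cj n C = A ∧ cj n X ≤ P := fun {C X} hC h1 h2 n hn h3 => by
    obtain ⟨y, hy, y1⟩ := ne_bot_iff_exists_ne_one.1 h3 |>.imp (fun y hy => hy) |> fun ⟨y, k⟩ =>
      (⟨y.1, y.2, fun e => k (Subtype.ext e)⟩ : ∃ y ∈ cj n X ⊓ P, y ≠ 1)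
    have e := h.bp_eq (h.conj C hC n) hA (cj_mono n h1 hy.1) (pA hy.2) (two_of_sq (hP _ hy.2)) y1
    exact ⟨e, fun x hx => inf x (ll_cj_le h2 hn hx) (e ▸ cj_mono n h1 hx)⟩
  refine ⟨hP, hT, hp.card, h4, hp.cent, pA, tA, hd, fun t ht t1 => hp.sP.of_le (fun p hp' => ⟨pA hp',
    mem_centralizer_singleton_iff.2 (mem_centralizer_iff.1 (hp.cent hp') t ht).symm⟩)
    (inf_le_inf_left _ (h.cx_le hB (tB ht) (ord_two (hT _ ht) t1))), fun t ht t1 x hx hn e => ?_,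
    fun n hn k => ?_, fun n hn k => ?_, fun n hn k => ?_, ?_, hs⟩
  · refine mem_centralizer_iff.2 fun t' ht' => (commutatorElement_eq_one_iff_mul_comm.1
      ((h.ti A hA B hB hne).eq_one_of_sq (comm_mem_inf hx (tB ht')
        (h.cx_le hB (tB ht) (ord_two (hT _ ht) t1) (mem_centralizer_singleton_iff.2 e)) (tA ht')) (hW _ ?_))).symm
    exact mul_mem (conj_mem_of_mem_normalizer hn (mem_sup_right ht')) (inv_mem (mem_sup_right ht'))
  · exact mem_normalizer_iff_cj.1 (mem_normalizer_of_cj_le (key hA pA le_sup_left n hn k).2)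
  · exact eq_of_le_of_card_ge (key hB tB le_sup_right n hn k).2 (by rw [card_cj, hp.card])
  · exact mem_normalizer_iff_cj.2 (key hA pA le_sup_left n hn (by rw [k, inf_idem]; exact hp.symm.ne)).1
  · obtain ⟨R, hR, hg⟩ := h.bp_gr hB hA hne.symm hp.symm
    obtain ⟨r, h1, h2, -, h3, -⟩ := hg.step fun e => hs (h.bp_sylT hA hB hp (e ▸ hR))
    exact ⟨r, sup_comm T P ▸ (hg.ela hP h1 h3 h2).1⟩

theorem part (hA : A ∈ 𝒬) (hB : B ∈ 𝒬) (hne : A ≠ B) (hp : PT A B P T)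
    (hs : ¬ IsSylowIn 2 P A) : Concl A ∨ ∃ R, IsSylowIn 2 R A ∧ TB R P T := by
  obtain ⟨R, hR, hg⟩ := h.bp_gr hA hB hne hp
  have hPR : P ≠ R := fun e => hs (e ▸ hR)
  have tA : T ≤ Nm A := hp.sT.le.trans inf_le_right
  have hd := h.bp_disj hA hB hne hp
  obtain ⟨-, -, -, -, -, -, -, -, aT, -, ⟨e⟩⟩ := hg.step hPR
  by_cases hr : Rk2 T
  · have hT : El T := by
      by_contra k
      exact (h.ab_of_not_le hA hB hne hp fun k' => hs (inf_eq_left.2 k' ▸ hp.sP)).2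
        ⟨hr, ne_of_not_el hg.twoT k⟩
    obtain ⟨R', hR', hg', h1, k | k | ⟨A', x, k⟩⟩ := gd (h.bp_gd hA hB hne hp hs (hg.elP hPR hT) hT hr.four_le)
    · exact Or.inl (concl_E hR' tA hd hg' k hT hr.four_le h1)
    · exact Or.inr ⟨R', hR', k⟩
    · exact Or.inl (concl_D hR' tA hd k)
  · left
    obtain ⟨t, rfl⟩ := aT.cyclic hg.twoT hr
    obtain ⟨p, hp', ho⟩ : ∃ p : G, P = zpowers p ∧ orderOf p = orderOf t := by
      refine ⟨e ⟨t, mem_zpowers t⟩, le_antisymm (fun x hx => ?_) (zpowers_le.2 (e _).2), ?_⟩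
      · obtain ⟨k, hk⟩ := (e.symm ⟨x, hx⟩).2
        refine ⟨k, ?_⟩
        have : (⟨t, mem_zpowers t⟩ : zpowers t) ^ k = e.symm ⟨x, hx⟩ := Subtype.ext hk
        show (e ⟨t, mem_zpowers t⟩ : G) ^ k = x
        rw [← Subgroup.coe_zpow, ← map_zpow, this, MulEquiv.apply_symm_apply]
      · rw [Subgroup.orderOf_coe, MulEquiv.orderOf_eq, ← Subgroup.orderOf_coe]
    subst hp'
    have rk := (h.rk A hA).syl hR
    by_cases t2 : orderOf t = 2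
    · obtain ⟨n, ρ, h1, -, h2, -⟩ := dih2 (z := p) hR.pgroup t2 (hg.nrm (mem_zpowers t)) (fun k => by
        have : t ∈ R ⊓ zpowers t := ⟨k, mem_zpowers t⟩
        rw [hg.disj, mem_bot] at this
        exact ne_one_of_ord t2 this) (fun s hs e => bas_zp (ho.trans t2) (hg.fix t (mem_zpowers t) t2 s hs e)) rk
      exact concl_dih hR h2 h1
    · have h4 : 4 ≤ orderOf p := by
        obtain ⟨k, hk⟩ := isPGroup_zpowers_iff.1 hg.twoT
        rw [ho, hk]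
        rw [hk] at t2
        rcases k with _ | _ | k
        · exact absurd (by rw [orderOf_eq_one_iff.1 hk, zpowers_one_eq_bot]) hg.ne
        · exact absurd rfl t2
        · exact Nat.pow_le_pow_right (n := 2) (by norm_num) (show 2 ≤ k + 1 + 1 by omega)
      obtain ⟨s, hs⟩ := hg.dih hPR h4 rk
      exact concl_dih hR hs (by omega)

omit h in
theorem bp_dec {R : Subgroup G} (hR : IsSylowIn 2 R A) (hn : T ≤ Nm A) (hd : A ⊓ T = ⊥) (tb : TB R P T) {x : G}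
    (hx : x ∈ A) (h2 : x * x = 1) : x ∈ opOf 2 A ⊔ P := by
  have rO : R ≤ Nm (opOf 2 A) := hR.le.trans (le_normalizer_opOf A)
  obtain ⟨o, ho, r, hr, rfl⟩ := (mem_sup_nm rO).1 (core_B hR hn hd tb x hx (two_of_sq h2))
  refine mul_mem (mem_sup_left ho) (mem_sup_right ((tb.om r hr).1 ((noInv_opOf A).eq_one ?_
    (two_of_mem hR.pgroup (mul_mem hr hr)))))
  have : r * r = (o * (r * o * r⁻¹))⁻¹ := by
    rw [eq_inv_iff_mul_eq_one]
    calc _ = r * r * (o * r * (o * r)) * (r * r)⁻¹ := by group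
      _ = 1 := by rw [h2]; group
  rw [this]
  exact inv_mem (mul_mem ho (conj_mem_of_mem_normalizer (rO hr) ho))

theorem bp_bad (hc : ∀ A ∈ 𝒬, ¬ Concl A) (hA : A ∈ 𝒬) (hB : B ∈ 𝒬) (hne : A ≠ B) (hp : PT A B P T)
    (hs : ¬ IsSylowIn 2 P A) :
    (opOf 2 A ≤ Nm B ∧ ∀ a ∈ A, orderOf a = 2 → a ∈ Nm B) ∧ Bad A B := by
  obtain ⟨R, hR, tb⟩ := (h.part hA hB hne hp hs).resolve_left (hc A hA)
  obtain ⟨R', hR', tb'⟩ := (h.part hB hA hne.symm hp.symm fun k => hs (h.bp_sylT hA hB hp k)).resolve_left (hc B hB)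
  have tA : T ≤ Nm A := hp.sT.le.trans inf_le_right
  have pB : P ≤ Nm B := hp.sP.le.trans inf_le_right
  have hd := h.bp_disj hA hB hne hp
  have o1 := h.core_le hA hB hp (tb.elT.rk2 tb.four)
  have o2 := h.core_le hB hA hp.symm (tb'.elT.rk2 tb'.four)
  refine ⟨⟨o1, fun a ha a2 => sup_le o1 pB (bp_dec hR tA hd tb ha (sq_of_ord a2))⟩, ⟨hne, ?_⟩,
    fun b hb b2 R₀ hR₀ hn r hr => ?_⟩
  · obtain ⟨a, ha, a2⟩ := s2_inv hp.sP.pgroup hp.symm.ne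
    exact ⟨a, (hp.sP.le ha).1, a2, pB ha⟩
  obtain ⟨o, ho, h1⟩ := exists_cj_of_inv (X := ⊥) (R := T) (R' := zpowers b) IsPGroup.of_bot (noInv_opOf B) bot_le
    tb.gr.twoT (hp.sT.le.trans (inf_le_left.trans (le_normalizer_opOf B))) (two_of_sq (sq_of_ord b2)).zpowers
    (zpowers_le.2 (bp_dec hR' pB (h.bp_disj hB hA hne.symm hp.symm) tb' hb (sq_of_ord b2))) bot_le bot_le
  have ht : o * b * o⁻¹ ∈ T := h1 (conj_mem_cj.2 (mem_zpowers b))
  have hR₁ := hR₀.cj_of_mem_normalizer (o2 ho.1)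
  obtain ⟨o', ho', h2⟩ := exists_cj_of_inv (X := zpowers (o * b * o⁻¹)) (R := R) (R' := cj o R₀)
    (tb.gr.twoT.to_le (zpowers_le.2 ht)) (noInv_opOf A)
    (zpowers_le.2 (normalizer_le_normalizer_opOf A (tA ht))) hR.pgroup (hR.le.trans (le_normalizer_opOf A))
    hR₁.pgroup (fun x hx => core_B hR tA hd tb x (hR₁.le hx) (two_of_mem hR₁.pgroup hx))
    (zpowers_le.2 (tb.gr.nrm ht)) (zpowers_le.2 (by rw [Nm, ← cj_normalizer]; exact conj_mem_cj.2 hn))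
  have h3 : o' * o * r * (o' * o)⁻¹ ∈ R := by
    rw [← cj_mul] at h2
    exact h2 (conj_mem_cj.2 hr)
  have h4 : o' * o * b * (o' * o)⁻¹ ∈ T := by
    have := mem_centralizer_iff.1 ho'.2 _ (mem_zpowers (o * b * o⁻¹))
    rw [show o' * o * b * (o' * o)⁻¹ = o' * (o * b * o⁻¹) * o'⁻¹ by group, ← this, mul_inv_cancel_right]
    exact ht
  generalize o' * o = k at h3 h4
  constructor
  · have h5 := tb.comm _ h3 _ h4
    have h6 := (tb.om _ (tb.gr.le h5)).2 h5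
    rwa [← conjugate_commutatorElement, conj_mul, conj_eq_one_iff] at h6
  · intro e
    have h6 := (tb.om _ h3).2 (tb.gr.fix _ h4 ((ord_conj k b).trans b2) _ h3 (by rw [conj_mul, conj_mul, e]))
    rwa [conj_mul, conj_eq_one_iff] at h6

theorem eg (hc : ∀ A ∈ 𝒬, ¬ Concl A) (hA : A ∈ 𝒬) (hB : B ∈ 𝒬) (hne : A ≠ B) (hp : PT A B P T)
    (hs : ¬ IsSylowIn 2 P A) : ∃ q, EG 𝒬 q ∧ Bad A B := by
  obtain ⟨R, hR, tb⟩ := (h.part hA hB hne hp hs).resolve_left (hc A hA)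
  have tA : T ≤ Nm A := hp.sT.le.trans inf_le_right
  have tr : ∀ C ∈ 𝒬, ∀ R', IsSylowIn 2 R' C → ∃ k, cj k A = C ∧ cj k R = R' := fun C hC R' hR' => by
    obtain ⟨g, rfl⟩ := h.trans A hA C hC
    obtain ⟨c, hc, rfl⟩ := (hR.cj g).exists_cj_eq hR'
    exact ⟨c * g, by rw [cj_mul, cj_eq_of_mem hc], cj_mul _ _ _⟩
  have ne : ∀ C ∈ 𝒬, ∀ R', IsSylowIn 2 R' C → Rk2 R' ∧ NE R' := fun C hC R' hR' => by
    refine ⟨(h.rk C hC).syl hR', ne_of_not_el hR'.pgroup fun k => ?_⟩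
    obtain ⟨g, -, rfl⟩ := tr C hC R' hR'
    exact tb.ne (le_antisymm tb.gr.le fun r hr => (tb.om r hr).1 (s2_el_of_cj k le_rfl r hr))
  have main : ∀ C ∈ 𝒬, ∀ D ∈ 𝒬, WAdj C D → (opOf 2 C ≤ Nm D ∧ ∀ a ∈ C, orderOf a = 2 → a ∈ Nm D) ∧
      (Adj C D ∨ Bad C D) := fun C hC D hD hw => by
    obtain ⟨P', T', hp'⟩ := h.exists_pt hC hD hw
    by_cases k : IsSylowIn 2 P' C
    · have h1 : C ≤ Nm D := by
        by_contra k'
        exact (h.ab_of_not_le hC hD hw.1 hp' k').2 (ne D hD _ (h.bp_sylT hD hC hp'.symm k))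
      have h2 : D ≤ Nm C := by
        by_contra k'
        exact (h.ab_of_not_le hD hC hw.1.symm hp'.symm k').2 (ne C hC _ k)
      exact ⟨⟨(opOf_le C).trans h1, fun a ha _ => h1 ha⟩, Or.inl ⟨hw.1, h1, h2⟩⟩
    · exact (h.bp_bad hc hC hD hw.1 hp' k).imp id Or.inr
  refine ⟨Nat.card T, ⟨h.conj, h.trans, h.ti, tb.four, fun C hC R' hR' => ?_, fun C hC R' hR' x hx h2 => ?_,
    fun C hC D hD hw => (main C hC D hD hw).1, fun C hC D hD hw => (main C hC D hD hw).2⟩,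
    (h.bp_bad hc hA hB hne hp hs).2⟩
  · obtain ⟨g, -, rfl⟩ := tr C hC R' hR'
    refine ⟨cj g P, cj_mono g tb.gr.le, by rw [card_cj, hp.card], fun e => tb.ne (cj_injective g e), ?_, ?_, ?_⟩
    · rintro _ ⟨r, hr, rfl⟩
      show g * r * g⁻¹ * (g * r * g⁻¹) = 1 ↔ g * r * g⁻¹ ∈ cj g P
      rw [conj_mul, conj_eq_one_iff, conj_mem_cj]
      exact tb.om r hr
    · rw [Ct, ← cj_centralizer]; exact cj_mono g tb.cen
    · rintro _ ⟨r, hr, rfl⟩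
      show g * r * g⁻¹ * (g * r * g⁻¹) ∈ cj g P
      rw [conj_mul, conj_mem_cj]
      exact tb.sq r hr
  · obtain ⟨g, rfl, rfl⟩ := tr C hC R' hR'
    obtain ⟨y, hy, rfl⟩ := hx
    rw [← map_conj_opOf, ← cj_sup]
    refine mem_map_of_mem _ (core_B hR tA (h.bp_disj hA hB hne hp) tb y hy ?_)
    simpa [mul_assoc] using h2.conj g⁻¹

end SK

end CfsgLib.ACT
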