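import Cfsg.Agent.Lib.ACT.Defs2

/-! Vocabulary for the second half of the component theorem.  See `plans/COMP.md`. -/

set_option autoImplicit false

namespace CfsgLib.ACT

open Subgroup Cfsg CfsgLib.Tech CfsgLib.PComp
open scoped commutatorElement

variable {G : Type*} [Group G]

/-- the conjugacy class of the centraliser of a standard subgroup -/
structure SK (𝒬 : Set (Subgroup G)) : Prop where
  simple : IsSimpleGroup G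
  nse : NSE G
  conj : ∀ A ∈ 𝒬, ∀ g : G, cj g A ∈ 𝒬
  trans : ∀ A ∈ 𝒬, ∀ B ∈ 𝒬, ∃ g : G, cj g A = B
  ti : ∀ A ∈ 𝒬, ∀ B ∈ 𝒬, A ≠ B → NoInv (A ⊓ B)
  hasK : HasK 𝒬
  rk : ∀ A ∈ 𝒬, Rk2 A

/-- commuting Sylow subgroups of `A ⊓ Nm B` and `B ⊓ Nm A` -/
structure PT (A B P T : Subgroup G) : Prop where
  sP : IsSylowIn 2 P (A ⊓ Nm B)
  sT : IsSylowIn 2 T (B ⊓ Nm A)
  cent : P ≤ Ct T
  ne : T ≠ ⊥
  card : Nat.card P = Nat.card T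

/-- two frames with the same `R` whose points act on each other as elations -/
structure Sq (𝒬 : Set (Subgroup G)) (q : ℕ) (Q Q₁ Q₃ R V V₁ V₃ : Subgroup G) : Prop where
  f₁ : Fr 𝒬 q Q Q₁ R V V₁
  f₃ : Fr 𝒬 q Q Q₃ R V V₃
  comm : ∀ a ∈ V₁, ∀ b ∈ V₃, ⁅a, b⁆ ∈ V
  ne : ∀ a ∈ V₁, ∀ b ∈ V₃, a ≠ 1 → b ≠ 1 → ⁅a, b⁆ ≠ 1

/-- the splitting `E = (V ⊔ V₁) × C` -/
structure Sp (R Q₁ V V₁ E C : Subgroup G) : Prop where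
  le : C ≤ E
  cR : C ≤ Ct R
  cR₁ : ∀ R₁, IsSylowIn 2 R₁ Q₁ → E ≤ Nm R₁ → C ≤ Ct R₁
  disj : C ⊓ (V ⊔ V₁) = ⊥
  dec : ∀ e ∈ E, ∃ w ∈ V ⊔ V₁, ∃ c ∈ C, e = w * c
  cos : ∀ r ∈ R, ∀ s ∈ R, r ∉ V → s ∉ V →
    ∃ n ∈ Ct C, n ∈ Nm R ∧ n ∈ Nm (V ⊔ V₁) ∧ n * r * n⁻¹ * s⁻¹ ∈ V

/-- no two involutions of members generate a dihedral group of order eight -/
def NoViol (𝒬 : Set (Subgroup G)) : Prop := ∀ A B a b, ¬ Viol 𝒬 A B a b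

end CfsgLib.ACT
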