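import Cfsg.Agent.Lib.ACT.Defs3
import Cfsg.Agent.Lib.ACT.FAM
import Cfsg.Agent.Lib.ACT.GRa

/-! The endgame of type (B): points and frames. See `plans/COMP.md`. -/

set_option autoImplicit false

namespace CfsgLib.ACT

open Subgroup Cfsg CfsgLib.Tech CfsgLib.PComp
open CfsgLib.LBal (RC)
open scoped commutatorElement

universe u

variable {G : Type u} [Group G] [Finite G]

variable {𝒬 : Set (Subgroup G)}

omit [Finite G] in
theorem eg0_ord (g x : G) : orderOf (g * x * g⁻¹) = orderOf x :=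
  orderOf_injective (MulAut.conj g).toMonoidHom (MulAut.conj g).injective x

omit [Finite G] in
theorem eg0_nm (g : G) {x : G} {A : Subgroup G} (h : x ∈ Nm A) : g * x * g⁻¹ ∈ Nm (cj g A) := by
  rw [Nm, ← cj_normalizer]; exact conj_mem_cj.2 h

theorem eg0_comm {A B R : Subgroup G} (h : NoInv (A ⊓ B)) (hR : IsPGroup 2 R) {a b : G} (ha : a ∈ R) (hb : b ∈ R)
    (ha' : a ∈ A) (hb' : b ∈ B) (na : a ∈ Nm B) (nb : b ∈ Nm A) : a * b = b * a :=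
  commutatorElement_eq_one_iff_mul_comm.1 (h.eq_one (comm_mem_inf ha' hb' na nb)
    (two_of_mem hR (mul_mem (mul_mem (mul_mem ha hb) (inv_mem ha)) (inv_mem hb))))

omit [Finite G] in
theorem I2_le (A : Subgroup G) : I2 A ≤ A := (closure_le _).2 fun _ hx => hx.1

theorem mem_I2 {A : Subgroup G} {x : G} (hx : x ∈ A) (h2 : x * x = 1) : x ∈ I2 A := by
  by_cases e : x = 1
  · exact e ▸ one_mem _
  · exact subset_closure ⟨hx, ord_two h2 e⟩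

omit [Finite G] in
theorem cj_I2 (g : G) (A : Subgroup G) : cj g (I2 A) = I2 (cj g A) := by
  have k : ∀ (g : G) (A : Subgroup G), cj g (I2 A) ≤ I2 (cj g A) := fun g A =>
    map_le_iff_le_comap.2 ((closure_le _).2 fun x hx =>
      Subgroup.subset_closure (k := {x | x ∈ cj g A ∧ orderOf x = 2}) ⟨conj_mem_cj.2 hx.1, (eg0_ord g x).trans hx.2⟩)
  refine le_antisymm (k g A) ?_
  have := cj_mono g (k g⁻¹ (cj g A))
  rwa [cj_cj_inv, cj_inv_cj] at this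

theorem Pt.eq_of_le {q : ℕ} {A B V V' : Subgroup G} (h : Pt q A V) (h' : Pt q B V') (hle : V ≤ V') : V = V' :=
  eq_of_le_of_card_ge hle (h'.card.trans h.card.symm).le

/-- counting: a homomorphism `R → V` with small kernel is onto -/
theorem surj_of_card {R V K : Subgroup G} (φ : G → G) (mul : ∀ x ∈ R, ∀ y ∈ R, φ (x * y) = φ x * φ y)
    (mem : ∀ x ∈ R, φ x ∈ V) (ker : ∀ x ∈ R, φ x = 1 → x ∈ K) (hc : Nat.card K * Nat.card V ≤ Nat.card R) :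
    ∀ v ∈ V, ∃ r ∈ R, φ r = v := by
  let ψ : R →* G := MonoidHom.mk' (fun x => φ x) fun x y => mul x x.2 y y.2
  have h1 : Nat.card ψ.ker ≤ Nat.card K := Nat.card_le_card_of_injective
    (fun x => ⟨x.1.1, ker _ x.1.2 x.2⟩) fun x y e => Subtype.ext (Subtype.ext (congrArg (·.1) e))
  have h2 := ψ.ker.card_mul_index
  rw [index_ker] at h2
  have h3 : ψ.range = V := eq_of_le_of_card_ge (by rintro _ ⟨x, rfl⟩; exact mem x x.2)
    (Nat.le_of_mul_le_mul_left (hc.trans (h2 ▸ Nat.mul_le_mul_right _ h1)) Nat.card_pos)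
  intro v hv
  obtain ⟨x, e⟩ := h3.ge hv
  exact ⟨x, x.2, e⟩

/-- equivariant commuting Sylow subgroups of a family of subgroups normalising each other -/
theorem exists_syls {𝒞 : Set (Subgroup G)} (hn : ∀ A ∈ 𝒞, ∀ B ∈ 𝒞, A ≤ Nm B)
    (hti : ∀ A ∈ 𝒞, ∀ B ∈ 𝒞, A ≠ B → NoInv (A ⊓ B)) {X : Subgroup G} (hX : IsPGroup 2 X)
    (hp : ∀ x ∈ X, ∀ A ∈ 𝒞, cj x A ∈ 𝒞) :
    ∃ f : Subgroup G → Subgroup G, (∀ A ∈ 𝒞, IsSylowIn 2 (f A) A ∧ X ⊓ A ≤ f A) ∧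
      (∀ x ∈ X, ∀ A ∈ 𝒞, cj x (f A) = f (cj x A)) ∧ ∀ A ∈ 𝒞, ∀ B ∈ 𝒞, A ≠ B → f A ≤ Ct (f B) := by
  have hΓ : X ≤ Nm (sSup 𝒞) := fun x hx => mem_normalizer_of_cj_le (by
    rw [sSup_eq_iSup, cj, Subgroup.map_iSup]
    refine iSup_le fun A => ?_
    rw [Subgroup.map_iSup]
    exact iSup_le fun hA => le_iSup₂_of_le (cj x A) (hp x hx A hA) le_rfl)
  obtain ⟨R, hR, h1, h2⟩ := exists_syl_norm hX hΓ
  refine ⟨fun A => R ⊓ A, fun A hA => ⟨?_, le_inf ((inf_le_inf_left X (le_sSup hA)).trans h2) inf_le_right⟩,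
    fun x hx A _ => by rw [cj_inf, mem_normalizer_iff_cj.1 (h1 hx)], fun A hA B hB hne a ha b hb => ?_⟩
  · have := hR.inf_of_le_normalizer (sSup_le fun B hB => hn B hB A hA)
    rwa [inf_eq_right.2 (le_sSup hA)] at this
  · exact (eg0_comm (hti A hA B hB hne) hR.pgroup ha.1 hb.1 ha.2 hb.2 (hn A hA B hB ha.2) (hn B hB A hA hb.2)).symm

omit [Finite G] in
theorem Pt.cj {q : ℕ} {A V : Subgroup G} (h : Pt q A V) (g : G) : Pt q (cj g A) (cj g V) := by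
  refine ⟨cj_mono g h.le, fun x hx => ?_, (card_cj g V).trans h.card⟩
  have := h.el _ (mem_cj.1 hx)
  calc x * x = g * (g⁻¹ * x * g * (g⁻¹ * x * g)) * g⁻¹ := by group
    _ = 1 := by rw [this]; group

omit [Finite G] in
theorem Bad.cj {A B : Subgroup G} (h : Bad A B) (g : G) : Bad (cj g A) (cj g B) := by
  obtain ⟨⟨h1, a, ha, oa, na⟩, h2⟩ := h
  refine ⟨⟨fun e => h1 (cj_injective g e), _, conj_mem_cj.2 ha, (eg0_ord g a).trans oa, eg0_nm g na⟩,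
    fun b hb ob R hR nb r hr => ?_⟩
  have k := hR.cj g⁻¹
  rw [cj_inv_cj] at k
  obtain ⟨h3, h4⟩ := h2 _ (by simpa using mem_cj.1 hb) ((eg0_ord g⁻¹ b).trans ob) _ k (eg0_nm g⁻¹ nb) _
    (conj_mem_cj.2 hr)
  rw [← conjugate_commutatorElement, conj_mul] at h3
  rw [conj_mul, conj_mul, conj_mul] at h4
  exact ⟨conj_eq_one_iff.1 h3, fun e => conj_eq_one_iff.1 (h4 (by rw [e]))⟩

omit [Finite G] in
theorem dd_conj (hc : ∀ A ∈ 𝒬, ∀ g : G, cj g A ∈ 𝒬) {d : G} (hd : d ∈ DD 𝒬) (g : G) :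
    g * d * g⁻¹ ∈ DD 𝒬 := by
  obtain ⟨h1, A, hA, h2⟩ := hd
  exact ⟨(eg0_ord g d).trans h1, _, hc A hA g, conj_mem_cj.2 h2⟩

namespace EG

variable {q : ℕ} (h : EG 𝒬 q) {A B : Subgroup G}
include h

theorem eq_of_mem (hA : A ∈ 𝒬) (hB : B ∈ 𝒬) {a : G} (ha : a ∈ A) (hb : a ∈ B) (h2 : Two a)
    (h1 : a ≠ 1) : A = B := by
  by_contra hne
  exact h1 ((h.ti A hA B hB hne).eq_one ⟨ha, hb⟩ h2)

theorem cj_eq (hA : A ∈ 𝒬) (hB : B ∈ 𝒬) {a g : G} (ha : a ∈ A) (h2 : orderOf a = 2)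
    (hg : g * a * g⁻¹ ∈ B) : cj g A = B := by
  exact h.eq_of_mem (h.conj A hA g) hB (conj_mem_cj.2 ha) hg ((two_of_sq (sq_of_ord h2)).conj g)
    (ne_one_of_ord ((ord_conj g a).trans h2))

theorem cx_le (hA : A ∈ 𝒬) {a : G} (ha : a ∈ A) (h2 : orderOf a = 2) : Cx a ≤ Nm A := by
  intro g hg
  exact mem_normalizer_iff_cj.2 (h.cj_eq hA hA ha h2 (by
    rwa [mem_centralizer_singleton_iff.1 hg, mul_inv_cancel_right]))

theorem exists_pt (hA : A ∈ 𝒬) {R : Subgroup G} (hR : IsSylowIn 2 R A) : ∃ V, Pt q A V ∧ V ≤ R ∧ V ≠ R ∧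
    (∀ r ∈ R, r * r = 1 ↔ r ∈ V) ∧ R ≤ Ct V ∧ ∀ r ∈ R, r * r ∈ V := by
  obtain ⟨V, h1, h2, h3, h4, h5⟩ := h.pt A hA R hR
  exact ⟨V, ⟨h1.trans hR.le, fun x hx => (h4 x (h1 hx)).2 hx, h2⟩, h1, h3, h4, h5⟩

theorem pt_rk {V : Subgroup G} (hV : Pt q A V) : Rk2 V := hV.el.rk2 (hV.card ▸ h.four)

theorem pt_inv {V : Subgroup G} (hV : Pt q A V) : ∃ v ∈ V, orderOf v = 2 :=
  let ⟨a, ha, _, _, oa, _⟩ := h.pt_rk hV
  ⟨a, ha, oa⟩

theorem pt_not_noInv {V : Subgroup G} (hV : Pt q A V) : ¬ NoInv V := fun k =>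
  let ⟨a, ha, oa⟩ := h.pt_inv hV
  k a ha oa

theorem not_noInv (hA : A ∈ 𝒬) : ¬ NoInv A := fun k => by
  obtain ⟨R, hR⟩ := exists_isSylowIn 2 A
  obtain ⟨V, hV, -⟩ := h.exists_pt hA hR
  exact h.pt_not_noInv hV (k.mono hV.le)

theorem nm_pt_le (hA : A ∈ 𝒬) {V : Subgroup G} (hV : Pt q A V) : Nm V ≤ Nm A := fun g hg => by
  obtain ⟨v, hv, ov⟩ := h.pt_inv hV
  exact mem_normalizer_iff_cj.2 (h.cj_eq hA hA (hV.le hv) ov (hV.le (conj_mem_of_mem_normalizer hg hv)))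

theorem wadj_symm (hA : A ∈ 𝒬) (hB : B ∈ 𝒬) (hw : WAdj A B) : WAdj B A := by
  obtain ⟨h1, a, ha, oa, na⟩ := hw
  obtain ⟨b, hb, ob, cb⟩ := exists_inv_fixed (two_of_sq (sq_of_ord oa)).zpowers ((zpowers_le).2 na) (h.not_noInv hB)
  exact ⟨h1.symm, b, hb, ob, h.cx_le hA ha oa (mem_centralizer_singleton_iff.2 (cb a (mem_zpowers a)).symm)⟩

theorem wadj_of_comm (hB : B ∈ 𝒬) (hne : A ≠ B) {a b : G} (ha : a ∈ A) (hb : b ∈ B)
    (oa : orderOf a = 2) (ob : orderOf b = 2) (hc : a * b = b * a) : WAdj A B := by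
  exact ⟨hne, a, ha, oa, h.cx_le hB hb ob (mem_centralizer_singleton_iff.2 hc)⟩

/-- a point of a weakly adjacent member normalises -/
theorem pt_le_nm (hA : A ∈ 𝒬) (hB : B ∈ 𝒬) (hw : WAdj A B) {a : G} (ha : a ∈ A) (h2 : a * a = 1) : a ∈ Nm B := by
  by_cases e : a = 1
  · exact e ▸ one_mem _
  · exact (h.weak A hA B hB hw).2 a ha (ord_two h2 e)

/-- a Sylow subgroup is not elementary abelian -/
theorem exists_four (hA : A ∈ 𝒬) {R : Subgroup G} (hR : IsSylowIn 2 R A) : ∃ r ∈ R, r * r ≠ 1 := by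
  obtain ⟨V, -, h1, h2, h3, -⟩ := h.exists_pt hA hR
  obtain ⟨r, hr, hV⟩ := SetLike.exists_of_lt (lt_of_le_of_ne h1 h2)
  exact ⟨r, hr, fun e => hV ((h3 r hr).1 e)⟩

theorem card_le (hA : A ∈ 𝒬) {X : Subgroup G} (hX : El X) (hle : X ≤ A) : Nat.card X ≤ q := by
  obtain ⟨R, hR, k⟩ := exists_isSylowIn_ge hX.two hle
  obtain ⟨V, hV, -, -, h3, -⟩ := h.exists_pt hA hR
  exact hV.card ▸ card_le_of_le fun x hx => (h3 x (k hx)).1 (hX x hx)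

theorem pt_syl (hA : A ∈ 𝒬) {V R : Subgroup G} (hV : Pt q A V) (hR : IsSylowIn 2 R A)
    (hn : V ≤ Nm R) :
    V ≤ R ∧ (∀ r ∈ R, r * r = 1 ↔ r ∈ V) ∧ R ≤ Ct V ∧ ∀ r ∈ R, r * r ∈ V := by
  have k := hR.le_of_normalizes hV.el.two hV.le hn
  obtain ⟨V', hV', h1, -, h3, h4⟩ := h.exists_pt hA hR
  obtain rfl : V = V' := hV.eq_of_le hV' fun x hx => (h3 x (k hx)).1 (hV.el x hx)
  exact ⟨h1, h3, h4⟩

theorem nm_syl_le (hA : A ∈ 𝒬) {V R : Subgroup G} (hV : Pt q A V) (hR : IsSylowIn 2 R A) (hle : V ≤ R) :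
    Nm R ≤ Nm V := fun g hg => mem_normalizer_of_forall fun v hv =>
  ((h.pt_syl hA hV hR (hle.trans le_normalizer)).2.1 _ (conj_mem_of_mem_normalizer hg (hle hv))).1
    (PDApp.conj_sq (hV.el v hv) g)

/-- an involution of `A` that normalises a point of `A` lies in it -/
theorem mem_pt (hA : A ∈ 𝒬) {V : Subgroup G} (hV : Pt q A V) {a : G} (ha : a ∈ A) (h2 : a * a = 1)
    (hn : a ∈ Nm V) : a ∈ V := by
  obtain ⟨R, hR, k⟩ := exists_isSylowIn_ge (two_sup hV.el.two (two_of_sq h2).zpowers (zpowers_le.2 hn))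
    (sup_le hV.le (zpowers_le.2 ha))
  exact ((h.pt_syl hA hV hR ((le_sup_left.trans k).trans le_normalizer)).2.1 a
    (k (mem_sup_right (mem_zpowers a)))).1 h2

theorem pt_eq (hA : A ∈ 𝒬) {V V' : Subgroup G} (hV : Pt q A V) (hV' : Pt q A V') (hc : V ≤ Nm V') :
    V = V' := by
  exact hV.eq_of_le hV' fun x hx => h.mem_pt hA hV' (hV.le hx) (hV.el x hx) (hc hx)

theorem exists_mul_mem (hA : A ∈ 𝒬) {V : Subgroup G} (hV : Pt q A V) {x : G} (hx : x ∈ A)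
    (h2 : x * x = 1) : ∃ v ∈ V, v * x ∈ opOf 2 A := by
  obtain ⟨R, hR, k⟩ := exists_isSylowIn_ge hV.el.two hV.le
  have n := hR.le.trans (le_normalizer_opOf (p := 2) A)
  obtain ⟨o, ho, r, hr, rfl⟩ := (mem_sup_nm n).1 (h.core A hA R hR x hx (two_of_sq h2))
  have h3 := conj_mem_of_mem_normalizer (n hr) ho
  have h4 : r * r = 1 := (noInv_opOf A).eq_one (by
    rw [show r * r = (o * (r * o * r⁻¹))⁻¹ * (o * r * (o * r)) by group, h2, mul_one]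
    exact inv_mem (mul_mem ho h3)) (two_of_mem hR.pgroup (mul_mem hr hr))
  refine ⟨r, ((h.pt_syl hA hV hR (k.trans le_normalizer)).2.1 r hr).1 h4, ?_⟩
  rwa [show r * (o * r) = r * o * r⁻¹ * (r * r) by group, h4, mul_one]

theorem mem_sup_pt (hA : A ∈ 𝒬) {V : Subgroup G} (hV : Pt q A V) {x : G} (hx : x ∈ A)
    (h2 : x * x = 1) : x ∈ opOf 2 A ⊔ V := by
  obtain ⟨v, hv, k⟩ := h.exists_mul_mem hA hV hx h2
  simpa using mul_mem (inv_mem (mem_sup_right hv)) (mem_sup_left k : _ ∈ opOf 2 A ⊔ V)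

theorem pt_of_syl (hA : A ∈ 𝒬) {S : Subgroup G} (hS : IsSylowIn 2 S (I2 A)) : Pt q A S := by
  obtain ⟨R, hR, k⟩ := exists_isSylowIn_ge hS.pgroup (hS.le.trans (I2_le A))
  obtain ⟨V, hV, h1, -⟩ := h.exists_pt hA hR
  have h2 : I2 A ≤ opOf 2 A ⊔ V := (closure_le _).2 fun x hx => h.mem_sup_pt hA hV hx.1 (sq_of_ord hx.2)
  refine hS.eq_of_le hV.el.two (fun s hs => ?_) (fun x hx => mem_I2 (hV.le hx) (hV.el x hx)) ▸ hV
  obtain ⟨o, ho, v, hv, rfl⟩ := (mem_sup_nm (hV.le.trans (le_normalizer_opOf A))).1 (h2 (hS.le hs))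
  rwa [(noInv_opOf A).eq_one ho (two_of_mem hR.pgroup ((mul_mem_cancel_right (h1 hv)).1 (k hs))), one_mul]

/-- equivariant commuting points of a clique -/
theorem exists_pts {𝒞 : Set (Subgroup G)} (hs : 𝒞 ⊆ 𝒬)
    (hw : ∀ A ∈ 𝒞, ∀ B ∈ 𝒞, A ≠ B → WAdj A B) {X : Subgroup G} (hX : IsPGroup 2 X)
    (hp : ∀ x ∈ X, ∀ A ∈ 𝒞, cj x A ∈ 𝒞) :
    ∃ f : Subgroup G → Subgroup G, (∀ A ∈ 𝒞, Pt q A (f A) ∧ ∀ x ∈ X, x ∈ A → x * x = 1 → x ∈ f A) ∧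
      (∀ x ∈ X, ∀ A ∈ 𝒞, cj x (f A) = f (cj x A)) ∧ ∀ A ∈ 𝒞, ∀ B ∈ 𝒞, f A ≤ Ct (f B) := by
  obtain ⟨f, h1, h2, h3⟩ := exists_syls (𝒞 := I2 '' 𝒞) (by
      rintro _ ⟨A, hA, rfl⟩ _ ⟨B, hB, rfl⟩
      refine le_trans ?_ fun g hg => mem_normalizer_iff_cj.2 (by rw [cj_I2, mem_normalizer_iff_cj.1 hg])
      by_cases e : A = B
      · exact e ▸ (I2_le A).trans le_normalizer
      · exact (closure_le _).2 fun x hx => (h.weak A (hs hA) B (hs hB) (hw A hA B hB e)).2 x hx.1 hx.2)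
    (by
      rintro _ ⟨A, hA, rfl⟩ _ ⟨B, hB, rfl⟩ e
      exact (h.ti A (hs hA) B (hs hB) fun e' => e (by rw [e'])).mono (inf_le_inf (I2_le A) (I2_le B))) hX
    (by
      rintro x hx _ ⟨A, hA, rfl⟩
      exact ⟨_, hp x hx A hA, (cj_I2 x A).symm⟩)
  have k : ∀ A ∈ 𝒞, Pt q A (f (I2 A)) := fun A hA => h.pt_of_syl (hs hA) (h1 _ ⟨A, hA, rfl⟩).1
  refine ⟨fun A => f (I2 A), fun A hA => ⟨k A hA, fun x hx ha h4 => (h1 _ ⟨A, hA, rfl⟩).2 ⟨hx, mem_I2 ha h4⟩⟩,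
    fun x hx A hA => by rw [h2 x hx _ ⟨A, hA, rfl⟩, cj_I2], fun A hA B hB => ?_⟩
  by_cases e : I2 A = I2 B
  · exact fun x hx y hy => (k B hB).el.ab y hy x (e ▸ hx)
  · exact h3 _ ⟨A, hA, rfl⟩ _ ⟨B, hB, rfl⟩ e

/-- two `X`-invariant Sylow subgroups of a member -/
theorem syl_conj (hA : A ∈ 𝒬) {X R R' : Subgroup G} (hX : IsPGroup 2 X) (hn : X ≤ Nm A)
    (hR : IsSylowIn 2 R A) (hR' : IsSylowIn 2 R' A) (h1 : X ≤ Nm R) (h2 : X ≤ Nm R') :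
    ∃ o ∈ opOf 2 A ⊓ Ct X, cj o R' = R := by
  obtain ⟨o, ho, k⟩ := exists_cj_of_inv hX (noInv_opOf A) (hn.trans (normalizer_le_normalizer_opOf A)) hR.pgroup
    (hR.le.trans (le_normalizer_opOf A)) hR'.pgroup
    (fun x hx => h.core A hA R hR x (hR'.le hx) (two_of_mem hR'.pgroup hx)) h1 h2
  exact ⟨o, ho, eq_of_le_of_card_ge k (by rw [card_cj, hR.card_eq hR'])⟩

theorem pt_conj (hA : A ∈ 𝒬) {X V V' : Subgroup G} (hX : IsPGroup 2 X) (hn : X ≤ Nm A)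
    (hV : Pt q A V) (hV' : Pt q A V') (h1 : X ≤ Nm V) (h2 : X ≤ Nm V') :
    ∃ o ∈ opOf 2 A ⊓ Ct X, cj o V' = V := by
  obtain ⟨o, ho, k⟩ := exists_cj_of_inv hX (noInv_opOf A) (hn.trans (normalizer_le_normalizer_opOf A)) hV.el.two
    (hV.le.trans (le_normalizer_opOf A)) hV'.el.two
    (fun x hx => h.mem_sup_pt hA hV (hV'.le hx) (hV'.el x hx)) h1 h2
  exact ⟨o, ho, (hV'.cj o).eq_of_le hV k⟩

theorem py_of_mem {d : G} (hd : d ∈ DD 𝒬) : PY 𝒬 q d := by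
  obtain ⟨od, B, hB, hd⟩ := hd
  intro P hP V hV hn x hx
  by_cases e : P = B
  · exact hV.el.ab x hx d (h.mem_pt hP hV (e ▸ hd) (sq_of_ord od) hn)
  obtain ⟨v, hv, ov, cv⟩ := exists_inv_fixed (two_of_sq (sq_of_ord od)).zpowers (zpowers_le.2 hn) (h.pt_not_noInv hV)
  have hw := h.wadj_of_comm hB e (hV.le hv) hd ov od (cv d (mem_zpowers d)).symm
  have k := comm_mem_inf hx hd (h.pt_le_nm hP hB hw (hV.le hx) (hV.el x hx)) hn
  exact commutatorElement_eq_one_iff_mul_comm.1 ((h.ti P hP B hB e).eq_one_of_sq ⟨hV.le k.1, k.2⟩ (hV.el _ k.1))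

theorem comm_of_nm (hA : A ∈ 𝒬) (hB : B ∈ 𝒬) (hne : A ≠ B) {R : Subgroup G} (hR : IsPGroup 2 R) (hle : R ≤ A)
    {r b : G} (hr : r ∈ R) (hb : b ∈ B) (nr : r ∈ Nm B) (hn : b ∈ Nm R) : r * b = b * r := by
  have k := comm_mem_inf hr hb nr hn
  exact commutatorElement_eq_one_iff_mul_comm.1 ((h.ti A hA B hB hne).eq_one ⟨hle k.1, k.2⟩ (two_of_mem hR k.1))

theorem not_adj (hA : A ∈ 𝒬) (hB : B ∈ 𝒬) (hb : Bad A B) : ¬ A ≤ Nm B := by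
  intro hn
  obtain ⟨-, b, mb, ob, nb⟩ := h.wadj_symm hA hB hb.1
  obtain ⟨R, hR, k, -⟩ := exists_syl_norm (two_of_sq (sq_of_ord ob)).zpowers (zpowers_le.2 nb)
  obtain ⟨r, hr, h4⟩ := h.exists_four hA hR
  exact h4 ((hb.2 b mb ob R hR (k (mem_zpowers b)) r hr).2
    (h.comm_of_nm hA hB hb.1.1 hR.pgroup hR.le hr mb (hn (hR.le hr)) (k (mem_zpowers b))))

theorem bad_symm (hA : A ∈ 𝒬) (hB : B ∈ 𝒬) (hb : Bad A B) : Bad B A := by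
  exact (h.dich B hB A hA (h.wadj_symm hA hB hb.1)).resolve_left fun k => h.not_adj hA hB hb k.2.2

/-- an involution of `B` that centralises an element of order four of an invariant Sylow subgroup -/
theorem adj_of_cent (hA : A ∈ 𝒬) (hB : B ∈ 𝒬) (hne : A ≠ B) {R : Subgroup G}
    (hR : IsSylowIn 2 R A) {b r : G} (hb : b ∈ B) (ob : orderOf b = 2) (hbA : b ∈ Nm A)
    (hbR : b ∈ Nm R) (hr : r ∈ R) (h4 : r * r ≠ 1) (hc : r * b = b * r) : Adj A B := by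
  exact (h.dich A hA B hB (h.wadj_symm hB hA ⟨hne.symm, b, hb, ob, hbA⟩)).resolve_right fun k =>
    h4 ((k.2 b hb ob R hR hbR r hr).2 hc)

theorem mem_ct_of_adj (hA : A ∈ 𝒬) (hB : B ∈ 𝒬) (ha : Adj A B) {R : Subgroup G}
    (hR : IsPGroup 2 R) (hle : R ≤ A) {b : G} (hb : b ∈ B) (hn : b ∈ Nm R) : b ∈ Ct R := by
  exact fun r hr => h.comm_of_nm hA hB ha.1 hR hle hr hb (ha.2.1 (hle hr)) hn

theorem exists_fr (hA : A ∈ 𝒬) (hB : B ∈ 𝒬) (hb : Bad A B) {V V₁ X : Subgroup G} (hV : Pt q A V)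
    (hV₁ : Pt q B V₁) (hX : IsPGroup 2 X) (hn : X ≤ Nm A) (hle : V ⊔ V₁ ≤ X) :
    ∃ R, Fr 𝒬 q A B R V V₁ ∧ X ≤ Nm R := by
  obtain ⟨R, hR, h1, h2⟩ := exists_syl_norm hX hn
  exact ⟨R, ⟨hA, hB, hb, hR, hV, (le_inf (le_sup_left.trans hle) hV.le).trans h2, hV₁,
    (le_sup_right.trans hle).trans h1⟩, h1⟩

variable {Q Q₁ R V V₁ : Subgroup G} (f : Fr 𝒬 q Q Q₁ R V V₁)
include f

theorem tb : TB R V V₁ := by
  obtain ⟨-, h1, h2, h3⟩ := h.pt_syl f.mQ f.pt f.syl (f.le.trans le_normalizer)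
  have b : ∀ t ∈ V₁, orderOf t = 2 → ∀ r ∈ R, _ := fun t ht ot =>
    f.bad.2 t (f.pt₁.le ht) ot R f.syl (f.nrm ht)
  obtain ⟨r, hr, h4⟩ := h.exists_four f.mQ f.syl
  obtain ⟨v, hv, ov⟩ := h.pt_inv f.pt₁
  refine ⟨⟨f.syl.pgroup, f.pt₁.el.two, f.nrm, (h.ti Q f.mQ Q₁ f.mQ₁ f.bad.1.1).eq_bot
    (f.syl.pgroup.to_inf_left) (inf_le_inf f.syl.le f.pt₁.le), f.le, le_ct_comm.1 fun t ht => ?_,
    fun t ht ot r hr e => (h1 r hr).1 ((b t ht ot r hr).2 e), f.pt.card.trans f.pt₁.card.symm,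
    fun e => ne_one_of_ord ov (mem_bot.1 (e ▸ hv))⟩, f.pt₁.el, f.pt₁.card ▸ h.four,
    fun e => h4 (f.pt.el r (e ▸ hr)), h1, h2, h3, fun r hr t ht => ?_⟩
  · by_cases e : t = 1
    · exact e ▸ one_mem _
    · exact h.py_of_mem ⟨ord_two (f.pt₁.el t ht) e, Q₁, f.mQ₁, f.pt₁.le ht⟩ Q f.mQ V f.pt
        (h.nm_syl_le f.mQ f.pt f.syl f.le (f.nrm ht))
  · by_cases e : t = 1
    · simp [e]
    · refine (h1 _ ?_).1 (b t ht (ord_two (f.pt₁.el t ht) e) r hr).1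
      rw [commutatorElement_def, mul_assoc, mul_assoc, ← mul_assoc t]
      exact mul_mem hr (conj_mem_of_mem_normalizer (f.nrm ht) (inv_mem hr))

theorem elW : El (V ⊔ V₁) := f.pt.el.sup f.pt₁.el (h.tb f).gr.cent

theorem le_nmW : R ≤ Nm (V ⊔ V₁) := fun r hr => mem_normalizer_of_forall fun w hw => by
  obtain ⟨p, hp, t, ht, rfl⟩ := (GRaP.mem_W (h.tb f).gr).1 hw
  rw [show r * (p * t) * r⁻¹ = r * p * r⁻¹ * ⁅r, t⁆ * t by rw [commutatorElement_def]; group]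
  exact mul_mem (mem_sup_left (mul_mem (conj_mem_of_mem_normalizer (ct_le_nm V ((h.tb f).cen hr)) hp)
    ((h.tb f).comm r hr t ht))) (mem_sup_right ht)

theorem inf_eq : (V ⊔ V₁) ⊓ Q = V ∧ (V ⊔ V₁) ⊓ Q₁ = V₁ := by
  have n := h.ti Q f.mQ Q₁ f.mQ₁ f.bad.1.1
  refine ⟨le_antisymm (fun x hx => ?_) (le_inf le_sup_left f.pt.le),
    le_antisymm (fun x hx => ?_) (le_inf le_sup_right f.pt₁.le)⟩
  all_goals obtain ⟨p, hp, t, ht, rfl⟩ := (GRaP.mem_W (h.tb f).gr).1 hx.1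
  · rwa [n.eq_one_of_sq ⟨(mul_mem_cancel_left (f.pt.le hp)).1 hx.2, f.pt₁.le ht⟩ (f.pt₁.el t ht), mul_one]
  · rwa [n.eq_one_of_sq ⟨f.pt.le hp, (mul_mem_cancel_right (f.pt₁.le ht)).1 hx.2⟩ (f.pt.el p hp), one_mul]

theorem ela {r : G} (hr : r ∈ R) (hV : r ∉ V) : Ela (V ⊔ V₁) V r := by
  exact ((h.tb f).gr.ela f.pt₁.el hr (h.le_nmW f hr) hV).1

/-- the opposite frame, invariant under a 2-group that centralises `V ⊔ V₁` -/
theorem fr_symm {X : Subgroup G} (hX : IsPGroup 2 X) (hc : X ≤ Ct (V ⊔ V₁)) :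
    ∃ R₁, Fr 𝒬 q Q₁ Q R₁ V₁ V ∧ X ≤ Nm R₁ := by
  obtain ⟨R₁, f₁, k⟩ := h.exists_fr f.mQ₁ f.mQ (h.bad_symm f.mQ f.mQ₁ f.bad) f.pt₁ f.pt
    (two_sup (h.elW f).two hX (hc.trans (ct_le_nm _)))
    ((sup_le (fun x hx y hy => (h.elW f).ab y hy x hx) hc).trans
      (fun x hx => h.nm_pt_le f.mQ₁ f.pt₁ (ct_le_nm V₁ fun y hy => hx y (mem_sup_right hy))))
    ((sup_comm V₁ V).le.trans le_sup_left)
  exact ⟨R₁, f₁, le_sup_right.trans k⟩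

/-- an element centralising `V ⊔ V₁` and normalising `R` acts on `R` as in type (B) -/
theorem comm_mem {e : G} (hc : e ∈ Ct (V ⊔ V₁)) (hn : e ∈ Nm R) :
    (∀ r ∈ R, ⁅r, e⁆ ∈ V) ∧ e * e ∈ Ct R := by
  obtain ⟨t, ht, ot⟩ := h.pt_inv f.pt₁
  have k : ∀ r ∈ R, ⁅r, e⁆ ∈ V := fun r hr => by
    have h1 : r * e * r⁻¹ ∈ Ct (V ⊔ V₁) := by
      have := conj_mem_cj (g := r).2 hc
      rwa [cj_centralizer, mem_normalizer_iff_cj.1 (h.le_nmW f hr)] at this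
    refine (h.tb f).gr.fix t ht ot _ ?_ (mul_mem h1 (inv_mem hc) t (mem_sup_right ht)).symm
    rw [commutatorElement_def, mul_assoc, mul_assoc, ← mul_assoc e]
    exact mul_mem hr (conj_mem_of_mem_normalizer hn (inv_mem hr))
  refine ⟨k, fun s hs => ?_⟩
  have h1 := k _ (inv_mem hs)
  have h2 : e * s = s * ⁅s⁻¹, e⁆ * e := by rw [commutatorElement_def]; group
  have h3 := hc _ (mem_sup_left h1)
  have h4 := f.pt.el _ h1
  generalize ⁅s⁻¹, e⁆ = v at h2 h3 h4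
  symm
  calc e * e * s = e * (e * s) := mul_assoc _ _ _
    _ = e * s * (v * e) := by conv_lhs => rw [h2, mul_assoc s, ← mul_assoc]
    _ = s * (v * (e * v)) * e := by rw [h2]; group
    _ = _ := by rw [← h3, ← mul_assoc v, h4]; group

/-- the points inside `V ⊔ V₁` intersect trivially -/
theorem pt_ti {U : Subgroup G} (hA : A ∈ 𝒬) (hU : Pt q A U) (hle : U ≤ V ⊔ V₁) (hne : U ⊓ V ≠ ⊥) : U = V := by
  obtain ⟨x, hx, h1⟩ := (bot_or_exists_ne_one _).resolve_left hne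
  obtain rfl := h.eq_of_mem hA f.mQ (hU.le hx.1) (f.pt.le hx.2) (two_of_sq (hU.el x hx.1)) h1
  exact hU.eq_of_le f.pt ((le_inf hle hU.le).trans (h.inf_eq f).1.le)

theorem gd : GD Q V V₁ := by
  have t := h.tb f
  have n := h.ti Q f.mQ Q₁ f.mQ₁ f.bad.1.1
  have nQ : V₁ ≤ Nm Q := ((le_ct_comm.1 t.gr.cent).trans (ct_le_nm V)).trans (h.nm_pt_le f.mQ f.pt)
  have le : ∀ {n U}, n ∈ Nm (V ⊔ V₁) → U ≤ V ⊔ V₁ → cj n U ≤ V ⊔ V₁ := fun {n U} hn hU =>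
    (cj_mono n hU).trans (mem_normalizer_iff_cj.1 hn).le
  refine ⟨f.pt.el, f.pt₁.el, t.gr.card, t.four, t.gr.cent, f.pt.le, nQ,
    n.eq_bot f.pt₁.el.two.to_inf_right (inf_le_inf_left Q f.pt₁.le), fun s hs h1 => ?_,
    fun s hs h1 x hx nx e y hy => ?_, fun m hm => h.pt_ti f (h.conj Q f.mQ m) (f.pt.cj m) (le hm le_sup_left),
    fun m hm => h.pt_ti f (h.conj Q₁ f.mQ₁ m) (f.pt₁.cj m) (le hm le_sup_right),
    fun m _ e => h.nm_pt_le f.mQ f.pt (mem_normalizer_iff_cj.2 e), ?_, fun k => ?_⟩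
  · refine isSylowIn_of_maximal f.pt.el.two (le_inf f.pt.le fun v hv =>
      mem_centralizer_singleton_iff.2 (t.gr.cent hv s hs).symm) fun Y hY h2 h3 => ?_
    have c : ∀ y ∈ Y, y * s = s * y := fun y hy => mem_centralizer_singleton_iff.1 (h3 hy).2
    obtain ⟨R', hR', h4, h5⟩ := exists_syl_norm (two_sup hY (two_of_sq (f.pt₁.el s hs)).zpowers
      (zpowers_le.2 (ct_le_nm Y c))) (sup_le ((h3.trans inf_le_left).trans le_normalizer) (zpowers_le.2 (nQ hs)))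
    exact (eq_of_le_of_card_ge h2 (f.pt.card ▸ h.card_le f.mQ (fun y hy => (f.bad.2 s (f.pt₁.le hs)
      (ord_two (f.pt₁.el s hs) h1) R' hR' (h4 (mem_sup_right (mem_zpowers s))) y
      (h5 ⟨mem_sup_left hy, (h3 hy).1⟩)).2 (c y hy)) (h3.trans inf_le_left))).ge
  · refine (commutatorElement_eq_one_iff_mul_comm.1 (n.eq_one_of_sq (comm_mem_inf hx (f.pt₁.le hy)
      (h.cx_le f.mQ₁ (f.pt₁.le hs) (ord_two (f.pt₁.el s hs) h1) (mem_centralizer_singleton_iff.2 e)) (nQ hy))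
      (h.elW f _ ?_))).symm
    exact mul_mem (conj_mem_of_mem_normalizer nx (mem_sup_right hy)) (inv_mem (mem_sup_right hy))
  · obtain ⟨R₁, f₁, -⟩ := h.fr_symm f IsPGroup.of_bot bot_le
    obtain ⟨r, hr, h4⟩ := h.exists_four f.mQ₁ f₁.syl
    exact ⟨r, sup_comm V₁ V ▸ h.ela f₁ hr fun k => h4 (f.pt₁.el r k)⟩
  · obtain ⟨r, hr, h4⟩ := h.exists_four f.mQ k
    exact h4 (f.pt.el r hr)

theorem tru {R' V' V₁' : Subgroup G} (f' : Fr 𝒬 q Q Q₁ R' V' V₁') (ht : Tru 𝒬 R V₁) :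
    Tru 𝒬 R' V₁' := by
  obtain ⟨a, ha, r, hr, h4, hd⟩ := ht
  obtain ⟨o₁, ho₁, e₁⟩ := h.pt_conj f.mQ₁ IsPGroup.of_bot bot_le f'.pt₁ f.pt₁ bot_le bot_le
  have k := f.syl.cj_of_mem_normalizer ((h.weak Q₁ f.mQ₁ Q f.mQ (h.wadj_symm f.mQ f.mQ₁ f.bad.1)).1 ho₁.1)
  obtain ⟨o, ho, e⟩ := h.syl_conj f.mQ f'.pt₁.el.two (h.gd f').nrm f'.syl k f'.nrm (by
    rw [← e₁, Nm, ← cj_normalizer]; exact cj_mono _ f.nrm)
  refine ⟨o * o₁ * a * (o * o₁)⁻¹, ?_, o * o₁ * r * (o * o₁)⁻¹, ?_, ?_, ?_⟩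
  · rw [← mem_normalizer_iff_cj.1 (ct_le_nm _ ho.2), ← e₁, ← cj_mul]; exact conj_mem_cj.2 ha
  · rw [← e, ← cj_mul]; exact conj_mem_cj.2 hr
  · rw [conj_mul]; exact mt conj_eq_one_iff.1 h4
  · rw [conj_mul]; exact dd_conj h.conj hd _

theorem onto (hc : Nat.card R = q ^ 2) {a : G} (ha : a ∈ V ⊔ V₁) (hV : a ∉ V) :
    ∀ v ∈ V, ∃ r ∈ R, ⁅r, a⁆ = v := by
  have t := h.tb f
  have m : ∀ r ∈ R, ⁅r, a⁆ ∈ V := fun r hr => GRaP.mem_P t.gr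
    (mul_mem (conj_mem_of_mem_normalizer (h.le_nmW f hr) ha) (inv_mem ha)) (by
      rw [commutatorElement_def, mul_assoc, mul_assoc, ← mul_assoc a]
      exact mul_mem hr (conj_mem_of_mem_normalizer ((sup_le (f.le.trans le_normalizer) f.nrm) ha) (inv_mem hr)))
  refine surj_of_card (fun r => ⁅r, a⁆) (fun x hx y hy => ?_) m (K := V) (fun r hr e => ?_)
    (by rw [f.pt.card, hc, pow_two])
  · rw [show ⁅x * y, a⁆ = x * ⁅y, a⁆ * x⁻¹ * ⁅x, a⁆ by simp only [commutatorElement_def]; group,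
      ← t.cen hx _ (m y hy), mul_inv_cancel_right, f.pt.el.ab _ (m y hy) _ (m x hx)]
  · by_contra k
    exact hV (((h.ela f hr k).fix a ha).1 (commutatorElement_eq_one_iff_mul_comm.1 e))

end EG

end CfsgLib.ACT
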