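import Cfsg.Agent.Lib.ACT.EG0

/-! The endgame of type (B): the axis of an involution. See `plans/COMP.md`. -/

set_option autoImplicit false

namespace CfsgLib.ACT

open Subgroup Cfsg CfsgLib.Tech CfsgLib.PComp
open CfsgLib.LBal (RC)
open scoped commutatorElement

universe u

variable {G : Type u} [Group G] [Finite G]

variable {𝒬 : Set (Subgroup G)}

theorem mem_stab_of {s : Set (Subgroup G)} {g : G} (h : ∀ A ∈ s, cj g A ∈ s) : g ∈ stab s := fun B => by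
  refine ⟨fun k => ?_, h B⟩
  have : ∀ n : ℕ, cj (g ^ (n + 1)) B ∈ s := fun n => by
    induction n with
    | zero => simpa using k
    | succ n ih => rw [pow_succ', cj_mul]; exact h _ ih
  have := this (orderOf g - 1)
  rwa [Nat.sub_add_cancel (orderOf_pos g), pow_orderOf_eq_one, cj_one] at this

/-- a dihedral 2-group -/
theorem eg1_dih {a b : G} (ha : a * a = 1) (hb : b * b = 1) (h : Two (a * b)) :
    ∃ X : Subgroup G, IsPGroup 2 X ∧ a ∈ X ∧ b ∈ X ∧ ∀ H : Subgroup G, a ∈ H → b ∈ H → X ≤ H := by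
  have m : a ∈ zpowers (a * b) ⊔ zpowers a := mem_sup_right (mem_zpowers a)
  refine ⟨_, two_sup h.zpowers (two_of_sq ha).zpowers (zpowers_le.2 (mem_normalizer_iff_cj.2 ?_)), m,
    (mul_mem_cancel_left m).1 (mem_sup_left (mem_zpowers _)),
    fun H h1 h2 => sup_le (zpowers_le.2 (mul_mem h1 h2)) (zpowers_le.2 h1)⟩
  rw [cj_zpowers, ← mul_assoc, ha, one_mul, ← zpowers_inv, mul_inv_rev, inv_inv, inv_eq_of_mul_eq_one_right hb]

omit [Finite G] in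
theorem eg1_d {x b : G} (hx : x * x = 1) (hb : b * b = 1) (h : x * (b * x * b⁻¹) = b * x * b⁻¹ * x) :
    b * (x * b * x⁻¹) = x * (b * x * b⁻¹) ∧ x * b * x⁻¹ * b = x * (b * x * b⁻¹) := by
  rw [inv_eq_of_mul_eq_one_right hb] at h ⊢
  rw [inv_eq_of_mul_eq_one_right hx]
  exact ⟨by rw [h]; simp only [mul_assoc], by simp only [mul_assoc]⟩

omit [Finite G] in
theorem eg1_one {a b : G} (ha : a * a = 1) (h : a * b = b * a) : a * (b * a * b⁻¹) = 1 := by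
  rw [← h, mul_inv_cancel_right, ha]

namespace Viol

variable {A B : Subgroup G} {a b : G} (hv : Viol 𝒬 A B a b)
include hv

theorem symm : Viol 𝒬 B A b a :=
  ⟨hv.mB, hv.mA, hv.mb, hv.ma, hv.ob, hv.oa, by rw [← hv.four, ← ord_conj b (a * b), ← mul_assoc, mul_inv_cancel_right]⟩

theorem comm : a * (b * a * b⁻¹) = b * a * b⁻¹ * a ∧ a * (b * a * b⁻¹) ≠ 1 := by
  have ia := inv_eq_of_mul_eq_one_right (sq_of_ord hv.oa)
  have ib := inv_eq_of_mul_eq_one_right (sq_of_ord hv.ob)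
  have e : a * (b * a * b⁻¹) = (a * b) ^ 2 := by rw [ib, pow_two]; simp only [mul_assoc]
  have h4 : (a * b) ^ 2 * (a * b) ^ 2 = 1 := by rw [← pow_add, show 2 + 2 = 4 from rfl, ← hv.four, pow_orderOf_eq_one]
  refine ⟨?_, fun k => absurd (hv.four ▸ orderOf_dvd_of_pow_eq_one (e ▸ k)) (by decide)⟩
  rw [e, eq_inv_of_mul_eq_one_left h4, pow_two, mul_inv_rev, mul_inv_rev, ia, ib]
  simp only [mul_assoc]

theorem ord : orderOf (a * (b * a * b⁻¹)) = 2 :=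
  ord_two (PDApp.mul_sq_of_commute (sq_of_ord hv.oa) (PDApp.conj_sq (sq_of_ord hv.oa) b) hv.comm.1) hv.comm.2

end Viol

namespace EG

variable {q : ℕ} (h : EG 𝒬 q) {A B : Subgroup G}
include h


theorem bad3 {C : Subgroup G} (hA : A ∈ 𝒬) (hB : B ∈ 𝒬) (hC : C ∈ 𝒬) (hb : Bad A B) {a b : G}
    (ha : a ∈ A) (hbB : b ∈ B) (oa : orderOf a = 2) (ob : orderOf b = 2) (hc : a * b = b * a)
    (hm : a * b ∈ C) : Bad A C ∧ Bad B C := by
  have key : ∀ {A B : Subgroup G} {a b : G}, A ∈ 𝒬 → B ∈ 𝒬 → Bad B A → a ∈ A → b ∈ B → orderOf a = 2 →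
      orderOf b = 2 → a * b = b * a → a * b ∈ C → Bad B C := fun {A B a b} hA hB hb ha hbB oa ob hc hm => by
    have a1 := ne_one_of_ord oa
    have a2 := two_of_sq (sq_of_ord oa)
    have ne : B ≠ C := fun e => hb.1.1 (h.eq_of_mem hB hA ((mul_mem_cancel_right hbB).1 (e ▸ hm)) ha a2 a1)
    have oc : orderOf (a * b) = 2 := ord_two (PDApp.mul_sq_of_commute (sq_of_ord oa) (sq_of_ord ob) hc) fun e =>
      hb.1.1 (h.eq_of_mem hB hA (eq_inv_of_mul_eq_one_left e ▸ inv_mem hbB) ha a2 a1)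
    refine (h.dich B hB C hC (h.wadj_of_comm hC ne hbB hm ob oc (by rw [← mul_assoc, hc]))).resolve_left fun k => ?_
    obtain ⟨X, hX, mb, ma, hle⟩ := eg1_dih (sq_of_ord ob) (sq_of_ord oa) (hc ▸ two_of_sq (sq_of_ord oc))
    obtain ⟨R, hR, h1, h2⟩ := exists_syl_norm hX
      (hle _ (le_normalizer hbB) (h.cx_le hB hbB ob (mem_centralizer_singleton_iff.2 hc)))
    obtain ⟨V, -, -, -, h3, h4, -⟩ := h.exists_pt hB hR
    obtain ⟨r, hr, h5⟩ := h.exists_four hB hR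
    have h6 := (mul_mem_cancel_right (le_ct_comm.1 h4 ((h3 b (h2 ⟨mb, hbB⟩)).1 (sq_of_ord ob)))).1
      (h.mem_ct_of_adj hB hC k hR.pgroup hR.le hm (h1 (mul_mem ma mb)))
    exact h5 ((hb.2 a ha oa R hR (h1 ma) r hr).2 (h6 r hr))
  exact ⟨key hB hA hb hbB ha ob oa hc.symm (hc ▸ hm), key hA hB (h.bad_symm hA hB hb) ha hbB oa ob hc hm⟩

theorem ax (hA : A ∈ 𝒬) {V₁ : Subgroup G} (hV : Pt q A V₁) {y : G} (hy : y * y = 1)
    (hp : PY 𝒬 q y) (hb : Bad A (cj y A)) (hc : V₁ ≤ Ct (cj y V₁)) :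
    ∃ Q ∈ 𝒬, ∃ V, Pt q Q V ∧ V ≤ V₁ ⊔ cj y V₁ ∧ ∀ x ∈ V₁, x * (y * x * y⁻¹) ∈ V := by
  have el := hV.el.sup (hV.cj y).el hc
  obtain ⟨R, f, -⟩ := h.exists_fr hA (h.conj A hA y) hb hV (hV.cj y) el.two
    (fun x hx => h.nm_pt_le hA hV (ct_le_nm V₁ fun v hv => el.ab v (mem_sup_left hv) x hx)) le_rfl
  obtain ⟨r, hr, h4⟩ := h.exists_four hA f.syl
  have t := h.tb f
  have ny : y ∈ Nm (V₁ ⊔ cj y V₁) := mem_normalizer_iff_cj.2 (by rw [cj_sup, ← cj_mul, hy, cj_one, sup_comm])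
  let α := {U : Subgroup G // (∃ Q ∈ 𝒬, Pt q Q U) ∧ U ≤ V₁ ⊔ cj y V₁}
  let σ : ∀ g ∈ Nm (V₁ ⊔ cj y V₁), α → α := fun g hg U => ⟨cj g U.1,
    let ⟨Q, hQ, k⟩ := U.2.1; ⟨_, h.conj Q hQ g, k.cj g⟩, (cj_mono g U.2.2).trans (mem_normalizer_iff_cj.1 hg).le⟩
  have inv : ∀ g hg, g * g ∈ V₁ ⊔ cj y V₁ → Function.Involutive (σ g hg) := fun g hg k U => Subtype.ext (by
    change cj g (cj g U.1) = U.1
    rw [← cj_mul]
    exact mem_normalizer_iff_cj.1 (ct_le_nm _ fun u hu => el.ab u (U.2.2 hu) _ k))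
  obtain ⟨⟨V, ⟨Q, hQ, k⟩, hle⟩, e⟩ := PDApp.exists_fixed_of_unique
    (inv r (h.le_nmW f hr) (mem_sup_left (t.sq r hr))) (inv y ny (hy ▸ one_mem _))
    ⟨⟨V₁, ⟨A, hA, hV⟩, le_sup_left⟩, Subtype.ext (mem_normalizer_iff_cj.1 (ct_le_nm _ (t.cen hr))),
      fun ⟨U, ⟨Q, hQ, k⟩, hle⟩ e => Subtype.ext (by
        obtain ⟨x, hx, ox, cx⟩ := exists_inv_fixed (two_of_mem f.syl.pgroup hr).zpowers
          (zpowers_le.2 (mem_normalizer_iff_cj.2 (congrArg Subtype.val e))) (h.pt_not_noInv k)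
        exact h.pt_ti f hQ k hle fun e => ne_one_of_ord ox (mem_bot.1 (e ▸ ⟨hx,
          ((h.ela f hr fun k => h4 (hV.el r k)).fix x (hle hx)).1 (cx r (mem_zpowers r))⟩)))⟩
  have cy := hp Q hQ V k (mem_normalizer_iff_cj.2 (congrArg Subtype.val e))
  have ex : ∀ v : V, ∃ x : V₁, (v : G) = x * (y * x * y⁻¹) := fun ⟨v, hv⟩ => by
    obtain ⟨x, hx, z, hz, rfl⟩ := (GRaP.mem_W t.gr).1 (hle hv)
    have h1 := mem_cj.1 hz
    refine ⟨⟨x, hx⟩, congrArg (x * ·) (eq_of_mul_inv_eq_one (GRaP.eq_one t.gr (f.le ?_)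
      (mul_mem hz (inv_mem (conj_mem_cj.2 hx)))))⟩
    have h2 : y * x * y⁻¹ = x * z * (y⁻¹ * z * y)⁻¹ := by
      rw [eq_mul_inv_iff_mul_eq, ← mul_right_cancel_iff (a := y), cy _ hv, inv_eq_of_mul_eq_one_right hy]
      calc _ = y * x * (y * y) * z * (y * y) := by group
        _ = _ := by rw [hy]; group
    change z * (y * x * y⁻¹)⁻¹ ∈ V₁
    rw [h2, mul_inv_rev, inv_inv, ← mul_assoc, hc h1 z hz, mul_inv_rev, ← mul_assoc, mul_inv_cancel_right]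
    exact mul_mem h1 (inv_mem hx)
  choose g hg using ex
  have bij := (show Function.Injective g from fun v w e => Subtype.ext (by rw [hg v, hg w, e])
    ).bijective_of_nat_card_le (hV.card.trans k.card.symm).le
  refine ⟨Q, hQ, V, k, hle, fun x hx => ?_⟩
  obtain ⟨v, e⟩ := bij.2 ⟨x, hx⟩
  have := v.2
  rwa [hg v, e] at this

theorem viol_not_nm {a b : G} (hv : Viol 𝒬 A B a b) : b ∉ Nm A := fun hn => by
  have a2 := sq_of_ord hv.oa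
  have b2 := sq_of_ord hv.ob
  refine hv.comm.2 (eg1_one a2 ?_)
  by_cases e : A = B
  · obtain ⟨X, hX, ma, mb, hle⟩ := eg1_dih a2 b2 ⟨2, by rw [show 2 ^ 2 = 4 from rfl, ← hv.four, pow_orderOf_eq_one]⟩
    obtain ⟨R, hR, k⟩ := exists_isSylowIn_ge hX (hle A hv.ma (e ▸ hv.mb))
    obtain ⟨V, -, -, -, h3, h4, -⟩ := h.exists_pt hv.mA hR
    exact h4 (k mb) a ((h3 a (k ma)).1 a2)
  · refine commutatorElement_eq_one_iff_mul_comm.1 ((h.ti A hv.mA B hv.mB e).eq_one_of_sq (comm_mem_inf hv.ma hv.mb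
      ((h.weak A hv.mA B hv.mB (h.wadj_symm hv.mB hv.mA ⟨Ne.symm e, b, hv.mb, hv.ob, hn⟩)).2 a hv.ma hv.oa) hn) ?_)
    rw [show ⁅a, b⁆ = a * (b * a * b⁻¹) by
      rw [commutatorElement_def, inv_eq_of_mul_eq_one_right a2]; simp only [mul_assoc]]
    exact PDApp.mul_sq_of_commute a2 (PDApp.conj_sq a2 b) hv.comm.1

theorem viol_noInv {a b : G} (hv : Viol 𝒬 A B a b) : NoInv (B ⊓ Nm A) := fun u hu ou =>
  h.viol_not_nm hv ((h.weak B hv.mB A hv.mA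
    ⟨fun e => h.viol_not_nm hv (le_normalizer (e ▸ hv.mb)), u, hu.1, ou, hu.2⟩).2 b hv.mb hv.ob)

theorem viol_mk (hA : A ∈ 𝒬) (hB : B ∈ 𝒬) {a b : G} (ha : a ∈ A) (hb : b ∈ B) (oa : orderOf a = 2)
    (ob : orderOf b = 2) (hc : a * (b * a * b⁻¹) = b * a * b⁻¹ * a) (hn : b ∉ Nm A) : Viol 𝒬 A B a b := by
  have a2 := sq_of_ord oa
  have e : (a * b) ^ 2 = a * (b * a * b⁻¹) := by
    rw [inv_eq_of_mul_eq_one_right (sq_of_ord ob), pow_two]; simp only [mul_assoc]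
  refine ⟨hA, hB, ha, hb, oa, ob, orderOf_eq_prime_pow (p := 2) (n := 1) (fun k => hn (h.cx_le hA ha oa ?_)) ?_⟩
  · rw [pow_one, e, ← a2, mul_right_inj, mul_inv_eq_iff_eq_mul] at k
    exact mem_centralizer_singleton_iff.2 k
  · rw [pow_succ, pow_mul, pow_one, e, pow_two]
    exact PDApp.mul_sq_of_commute a2 (PDApp.conj_sq a2 b) hc

theorem viol_wadj {a b : G} (hv : Viol 𝒬 A B a b) : WAdj A (cj b A) :=
  h.wadj_of_comm (h.conj A hv.mA b) (fun e => h.viol_not_nm hv (mem_normalizer_iff_cj.2 e.symm)) hv.ma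
    (conj_mem_cj.2 hv.ma) hv.oa ((ord_conj b a).trans hv.oa) hv.comm.1

theorem viol_pt {a b : G} (hv : Viol 𝒬 A B a b) : ∃ V, Pt q A V ∧ a ∈ V ∧ V ≤ Ct (cj b V) := by
  have a2 := sq_of_ord hv.oa
  have b2 := sq_of_ord hv.ob
  have mA' := h.conj A hv.mA b
  have w := h.viol_wadj hv
  obtain ⟨X, hX, ma, mb, hle⟩ := eg1_dih a2 b2 ⟨2, by rw [show 2 ^ 2 = 4 from rfl, ← hv.four, pow_orderOf_eq_one]⟩
  obtain ⟨f, h1, h2, h3⟩ := h.exists_pts (𝒞 := {A, cj b A}) (by rintro _ (rfl | rfl); exacts [hv.mA, mA'])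
    (by
      rintro _ (rfl | rfl) _ (rfl | rfl) e
      exacts [absurd rfl e, w, h.wadj_symm hv.mA mA' w, absurd rfl e]) hX
    fun x hx C hC => (hle (stab _) (mem_stab_of (by
      rintro _ (rfl | rfl)
      exacts [.inl (cj_eq_of_mem hv.ma), .inr (mem_normalizer_iff_cj.1 ((h.weak _ hv.mA _ mA' w).2 a hv.ma hv.oa))]))
      (mem_stab_of (by
        rintro _ (rfl | rfl)
        exacts [.inr rfl, .inl (by rw [← cj_mul, b2, cj_one])])) hx C).2 hC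
  refine ⟨f A, (h1 A (.inl rfl)).1, (h1 A (.inl rfl)).2 a ma hv.ma a2, ?_⟩
  rw [h2 b mb A (.inl rfl)]
  exact h3 A (.inl rfl) _ (.inr rfl)

theorem not_all_adj (hA : A ∈ 𝒬) (hB : B ∈ 𝒬) (ho : NoInv (B ⊓ Nm A)) {V : Subgroup G} (hV : Pt q B V) :
    ¬ ∀ u ∈ V, orderOf u = 2 → Adj A (cj u A) := fun k => by
  obtain ⟨b, hb, b', hb', ob, ob', ne, c⟩ := h.pt_rk hV
  obtain ⟨R, hR⟩ := exists_isSylowIn 2 A
  obtain ⟨r, hr, h4⟩ := h.exists_four hA hR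
  have : ∀ u ∈ V, orderOf u = 2 → A ≤ Nm (cj u A) ∧ NoInv (A ⊓ cj u A) ∧ Cx u ≤ Nm B := fun u hu ou =>
    ⟨(k u hu ou).2.1, h.ti A hA _ (h.conj A hA u) (k u hu ou).1, h.cx_le hB (hV.le hu) ou⟩
  refine h4 (sf_core (hV.le hb) (hV.le hb') ob ob' ne c ?_ ho (hR.le hr) (two_of_mem hR.pgroup hr)).1
  rintro u (rfl | rfl | rfl)
  exacts [this _ hb ob, this _ hb' ob', this _ (mul_mem hb hb') (ord_two (hV.el _ (mul_mem hb hb')) fun e =>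
    ne (mul_right_cancel (e.trans (sq_of_ord ob').symm)))]

/-- the product of `x` and its conjugate under `b`, when it lies in a member that is bad for `B` -/
theorem bad_cj {Q : Subgroup G} {x b : G} (hv : Viol 𝒬 A B x b) (hQ : Q ∈ 𝒬) (hb : Bad Q B)
    (hm : x * (b * x * b⁻¹) ∈ Q) : Bad B (cj x B) := by
  obtain ⟨e1, e2⟩ := eg1_d (sq_of_ord hv.oa) (sq_of_ord hv.ob) hv.comm.1
  have e3 : x * (b * x * b⁻¹) * b = x * b * x⁻¹ := by rw [← e2, mul_assoc, sq_of_ord hv.ob, mul_one]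
  exact (h.bad3 hQ hv.mB (h.conj B hv.mB x) hb hm hv.mb hv.ord hv.ob
    (by rw [e3, ← e1, ← mul_assoc, sq_of_ord hv.ob, one_mul]) (e3 ▸ conj_mem_cj.2 hv.mb)).2

theorem viol_claim {a b : G} (hv : Viol 𝒬 A B a b) (hb : Bad A (cj b A)) :
    ∃ Q ∈ 𝒬, ∃ V₁ V, Pt q A V₁ ∧ a ∈ V₁ ∧ V₁ ≤ Ct (cj b V₁) ∧ Pt q Q V ∧ V ≤ V₁ ⊔ cj b V₁ ∧
      (∀ x ∈ V₁, x * (b * x * b⁻¹) ∈ V) ∧ Bad Q A ∧ Bad Q B := by
  obtain ⟨V₁, hV₁, ha, hc⟩ := h.viol_pt hv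
  obtain ⟨Q, hQ, V, hV, hle, hm⟩ := h.ax hv.mA hV₁ (sq_of_ord hv.ob)
    (h.py_of_mem ⟨hv.ob, B, hv.mB, hv.mb⟩) hb hc
  have b1 := (h.bad3 hv.mA (h.conj A hv.mA b) hQ hb hv.ma (conj_mem_cj.2 hv.ma) hv.oa ((ord_conj b a).trans hv.oa)
    hv.comm.1 (hV.le (hm a ha))).1
  refine ⟨Q, hQ, V₁, V, hV₁, ha, hc, hV, hle, hm, h.bad_symm hv.mA hQ b1, ?_⟩
  obtain ⟨e1, e2⟩ := eg1_d (sq_of_ord hv.oa) (sq_of_ord hv.ob) hv.comm.1
  refine (h.dich Q hQ B hv.mB (h.wadj_of_comm hv.mB ?_ (hV.le (hm a ha)) hv.mb hv.ord hv.ob ?_)).resolve_left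
    fun k => h.not_all_adj hv.mB hv.mA (h.viol_noInv hv.symm) hV₁ fun x hx ox => ?_
  · rintro rfl
    exact h.viol_not_nm hv.symm ((h.weak A hv.mA Q hQ b1.1).2 a hv.ma hv.oa)
  · conv_lhs => rw [← e1]
    rw [← e2, mul_assoc]
  · have v := h.viol_mk hv.mA hv.mB (hV₁.le hx) hv.mb ox hv.ob (hc hx _ (conj_mem_cj.2 hx)).symm (h.viol_not_nm hv)
    refine (h.dich B hv.mB _ (h.conj B hv.mB x) (h.viol_wadj v.symm)).resolve_right fun k' => ?_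
    exact h.not_adj hv.mB hQ (h.bad3 hv.mB (h.conj B hv.mB x) hQ k' hv.mb (conj_mem_cj.2 hv.mb) hv.ob
      ((ord_conj x b).trans hv.ob) v.symm.comm.1
      ((eg1_d (sq_of_ord ox) (sq_of_ord hv.ob) v.comm.1).1 ▸ hV.le (hm x hx))).1 k.2.2

theorem viol_bad {a b : G} (hv : Viol 𝒬 A B a b) : Bad B (cj a B) := by
  obtain ⟨V, hV, -, hc⟩ := h.viol_pt hv.symm
  have := h.not_all_adj hv.mA hv.mB (h.viol_noInv hv) hV
  push Not at this
  obtain ⟨u, hu, ou, k⟩ := this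
  have v := (h.viol_mk hv.mB hv.mA (hV.le hu) hv.ma ou hv.oa (hc hu _ (conj_mem_cj.2 hu)).symm
    (h.viol_not_nm hv.symm)).symm
  obtain ⟨Q, hQ, V₁, V', -, ha, -, hV', -, hm, -, b2⟩ := h.viol_claim v
    ((h.dich A hv.mA _ (h.conj A hv.mA u) (h.viol_wadj v)).resolve_left k)
  exact h.bad_cj v hQ b2 (hV'.le (hm a ha))

theorem viol_sq {a b : G} (hv : Viol 𝒬 A B a b) :
    ∃ Q R V V₁ V₃, Sq 𝒬 q Q A B R V V₁ V₃ ∧ a ∈ V₁ ∧ b ∈ V₃ := by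
  obtain ⟨Q, hQ, V₁, V, hV₁, ha, hc, hV, hle, hm, b1, b3⟩ := h.viol_claim hv (h.viol_bad hv.symm)
  have b2 := sq_of_ord hv.ob
  have el := hV₁.el.sup (hV₁.cj b).el hc
  have cV : V₁ ≤ Ct V := fun x hx v hv => el.ab v (hle hv) x (mem_sup_left hx)
  have nQ : ∀ x ∈ V₁, cj x Q = Q := fun x hx => mem_normalizer_iff_cj.1 (h.nm_pt_le hQ hV (ct_le_nm V (cV hx)))
  have d := fun x hx => eg1_d (hV₁.el x hx) b2 (hc hx _ (conj_mem_cj.2 hx)).symm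
  have cb : ∀ x ∈ V₁, Commute b (x * b * x⁻¹) := fun x hx => (d x hx).1.trans (d x hx).2.symm
  have ob : ∀ x : G, orderOf (x * b * x⁻¹) = 2 := fun x => (ord_conj x b).trans hv.ob
  have mB := h.conj B hv.mB
  have wQ : ∀ x ∈ V₁, WAdj Q (cj x B) := fun x hx => nQ x hx ▸ (b3.cj x).1
  have s1 : V₁ ≤ stab (insert Q ((cj · B) '' V₁)) := fun x hx => mem_stab_of (by
    rintro _ (rfl | ⟨y, hy, rfl⟩)
    exacts [.inl (nQ x hx), .inr ⟨_, mul_mem hx hy, cj_mul x y B⟩])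
  have s2 : b ∈ stab (insert Q ((cj · B) '' V₁)) := mem_stab_of (by
    rintro _ (rfl | ⟨y, hy, rfl⟩)
    · exact .inl (mem_normalizer_iff_cj.1 ((h.weak B hv.mB _ hQ (h.wadj_symm hQ hv.mB b3.1)).2 b hv.mb hv.ob))
    · exact .inr ⟨y, hy, (mem_normalizer_iff_cj.1 (h.cx_le (mB y) (conj_mem_cj.2 hv.mb) (ob y)
        (mem_centralizer_singleton_iff.2 (cb y hy)))).symm⟩)
  obtain ⟨f, h1, h2, h3⟩ := h.exists_pts (𝒞 := insert Q ((cj · B) '' V₁))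
    (by rintro _ (rfl | ⟨y, hy, rfl⟩); exacts [hQ, mB y])
    (by
      rintro _ (rfl | ⟨x, hx, rfl⟩) _ (rfl | ⟨y, hy, rfl⟩) e
      exacts [absurd rfl e, wQ y hy, h.wadj_symm hQ (mB x) (wQ x hx), h.wadj_of_comm (mB y) e (conj_mem_cj.2 hv.mb)
        (conj_mem_cj.2 hv.mb) (ob x) (ob y) (by
          have := ((Commute.conj_iff x).2 (cb _ (mul_mem (inv_mem hx) hy))).eq
          rwa [show x * (x⁻¹ * y * b * (x⁻¹ * y)⁻¹) * x⁻¹ = y * b * y⁻¹ by group] at this)])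
    (two_sup el.two (two_of_sq b2).zpowers (zpowers_le.2 (mem_normalizer_iff_cj.2
      (by rw [cj_sup, ← cj_mul, b2, cj_one, sup_comm]))))
    fun x hx C hC => ((sup_le (sup_le s1 (cj_le_iff.2 fun y hy => mul_mem (mul_mem s2 (s1 hy)) (inv_mem s2)))
      (zpowers_le.2 s2)) hx C).2 hC
  have mB1 : B ∈ insert Q ((cj · B) '' V₁) := .inr ⟨1, one_mem _, cj_one B⟩
  have eV : V = f Q := hV.eq_of_le (h1 Q (.inl rfl)).1 fun v hv =>
    (h1 Q (.inl rfl)).2 v (mem_sup_left (hle hv)) (hV.le hv) (hV.el v hv)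
  have hV₃ := (h1 B mB1).1
  have mb := (h1 B mB1).2 b (mem_sup_right (mem_zpowers b)) hv.mb b2
  have c3 : ∀ x ∈ V₁, ∀ C ∈ insert Q ((cj · B) '' V₁), f C ≤ Ct (cj x (f B)) := fun x hx C hC => by
    rw [h2 x (mem_sup_left (mem_sup_left hx)) B mB1]
    exact h3 C hC _ (.inr ⟨x, hx, rfl⟩)
  have cV₃ : f B ≤ Ct V := eV ▸ h3 B mB1 Q (.inl rfl)
  have cm : ∀ x ∈ V₁, ∀ y ∈ f B, ⁅x, y⁆ ∈ V := fun x hx y hy => by
    by_cases e : x = 1
    · simp [e]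
    have ox := ord_two (hV₁.el x hx) e
    have v := h.viol_mk hv.mA hv.mB (hV₁.le hx) hv.mb ox hv.ob (hc hx _ (conj_mem_cj.2 hx)).symm (h.viol_not_nm hv)
    obtain ⟨Q', hQ', V', hV', k1, k2⟩ := h.ax hv.mB hV₃ (hV₁.el x hx) (h.py_of_mem ⟨ox, A, hv.mA, hV₁.le hx⟩)
      (h.bad_cj v hQ b3 (hV.le (hm x hx))) (c3 x hx B mB1)
    obtain rfl := h.eq_of_mem hQ' hQ (hV'.le ((d x hx).1 ▸ k2 b mb)) (hV.le (hm x hx)) (two_of_sq (sq_of_ord v.ord))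
      v.comm.2
    obtain rfl := h.pt_eq hQ hV' hV ((k1.trans (sup_le cV₃ (le_ct_comm.1 (eV ▸ c3 x hx _ (.inl rfl))))).trans
      (ct_le_nm V))
    rw [commutatorElement_def, inv_eq_of_mul_eq_one_right (hV₃.el y hy), c3 x hx B mB1 hy _ (conj_mem_cj.2 hy)]
    exact k2 y hy
  obtain ⟨R, f₁, k⟩ := h.exists_fr hQ hv.mA b1 hV hV₁ (X := V ⊔ V₁ ⊔ f B)
    (two_sup (hV.el.sup hV₁.el (le_ct_comm.1 cV)).two hV₃.el.two fun y hy => mem_normalizer_of_cj_le (by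
      rw [cj_sup, mem_normalizer_iff_cj.1 (ct_le_nm V (cV₃ hy))]
      refine sup_le le_sup_left (cj_le_iff.2 fun x hx => ?_)
      rw [show y * x * y⁻¹ = ⁅x, y⁆⁻¹ * x by rw [commutatorElement_def]; group]
      exact mul_mem (mem_sup_left (inv_mem (cm x hx y hy))) (mem_sup_right hx)))
    ((sup_le (sup_le le_normalizer (cV.trans (ct_le_nm V))) (cV₃.trans (ct_le_nm V))).trans (h.nm_pt_le hQ hV))
    le_sup_left
  refine ⟨Q, R, V, V₁, f B, ⟨f₁, ⟨hQ, hv.mB, b3, f₁.syl, hV, f₁.le, hV₃, le_sup_right.trans k⟩, cm,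
    fun x hx y hy x1 y1 e => x1 ?_⟩, ha, mb⟩
  exact (h.viol_noInv hv.symm).eq_one_of_sq ⟨hV₁.le hx, h.cx_le hv.mB (hV₃.le hy) (ord_two (hV₃.el y hy) y1)
    (mem_centralizer_singleton_iff.2 (commutatorElement_eq_one_iff_mul_comm.1 e))⟩ (hV₁.el x hx)

end EG

end CfsgLib.ACT
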