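import Cfsg.Agent.Lib.ACT.EG0
import Cfsg.Agent.Lib.ACT.LL

/-! The endgame of type (B): elations and splittings. See `plans/COMP.md`. -/

set_option autoImplicit false
set_option linter.unusedSectionVars false
set_option linter.unusedVariables false

namespace CfsgLib.ACT

open Subgroup Cfsg CfsgLib.Tech CfsgLib.PComp
open CfsgLib.LBal (RC)
open scoped commutatorElement

universe u

variable {G : Type u} [Group G] [Finite G]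

variable {𝒬 : Set (Subgroup G)}


omit [Finite G] in
theorem eg2_anti {A B : Subgroup G} (h : A ≤ B) : Ct B ≤ Ct A := centralizer_le h

omit [Finite G] in
theorem eg2_one {A B : Subgroup G} {x : G} (h : A ⊓ B = ⊥) (a : x ∈ A) (b : x ∈ B) : x = 1 :=
  mem_bot.1 (h ▸ mem_inf.2 ⟨a, b⟩)

omit [Finite G] in
theorem eg2_ct {W : Subgroup G} {n c : G} (hn : n ∈ Nm W) (hc : c ∈ Ct W) : n * c * n⁻¹ ∈ Ct W := by
  have := conj_mem_cj (g := n) |>.2 hc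
  rwa [cj_centralizer, mem_normalizer_iff_cj.1 hn] at this

omit [Finite G] in
theorem eg2_nm_cj {X R : Subgroup G} {m : G} (hm : m ∈ Nm X) (h : X ≤ Nm R) : X ≤ Nm (cj m R) := by
  rw [Nm, ← cj_normalizer, ← mem_normalizer_iff_cj.1 hm]
  exact cj_mono m h

omit [Finite G] in
theorem eg2_comm {x a b : G} (e : ⁅x, a⁆ = ⁅x, b⁆) : x * (b⁻¹ * a) = b⁻¹ * a * x := by
  simp only [commutatorElement_def] at e
  calc _ = x * b⁻¹ * x⁻¹ * (x * a * x⁻¹ * a⁻¹) * a * x := by group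
    _ = _ := by rw [e]; group

theorem Ela.onto {W P T : Subgroup G} {x : G} (h : Ela W P x) (hT : T ≤ W) (hd : P ⊓ T = ⊥)
    (hc : Nat.card T = Nat.card P) : ∀ p ∈ P, ∃ t ∈ T, ⁅x, t⁆ = p := fun p hp => by
  have inj : Function.Injective fun t : T => (⟨⁅x, (t : G)⁆, h.comm t (hT t.2)⟩ : P) := fun a b e => by
    have m := mul_mem (inv_mem b.2) a.2
    have := (h.fix _ (hT m)).1 (eg2_comm (congrArg Subtype.val e))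
    exact Subtype.ext (inv_mul_eq_one.1 (eg2_one hd this m)).symm
  obtain ⟨t, e⟩ := ((Nat.bijective_iff_injective_and_card _).2 ⟨inj, hc⟩).2 ⟨p, hp⟩
  exact ⟨t, t.2, congrArg Subtype.val e⟩

theorem eg2_nm_dec {E W C : Subgroup G} (hW : W ≤ E) (hC : C ≤ E)
    (dec : ∀ e ∈ E, ∃ w ∈ W, ∃ c ∈ C, e = w * c) {n : G} (h1 : n ∈ Nm W) (h2 : n ∈ Ct C) : n ∈ Nm E :=
  mem_normalizer_of_forall fun e he => by
    obtain ⟨w, hw, c, hc, rfl⟩ := dec e he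
    rw [← conj_mul, ll_comm_iff.1 (ll_ct h2 hc)]
    exact mul_mem (hW (conj_mem_of_mem_normalizer h1 hw)) (hC hc)

namespace EG

variable {q : ℕ} (h : EG 𝒬 q) {Q Q₁ Q₃ R V V₁ V₃ : Subgroup G}
include h

theorem nm_of_pt {A U : Subgroup G} (hA : A ∈ 𝒬) (hU : Pt q A U) {n : G} (hn : n ∈ Nm U) : n ∈ Nm A := by
  obtain ⟨u, hu, o⟩ := h.pt_inv hU
  exact mem_normalizer_iff_cj.2 (h.cj_eq hA hA (hU.le hu) o (hU.le (conj_mem_of_mem_normalizer hn hu)))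

theorem cj_of_pt {A B U U' : Subgroup G} (hA : A ∈ 𝒬) (hB : B ∈ 𝒬) (hU : Pt q A U) (hU' : U' ≤ B) {n : G}
    (hn : cj n U = U') : cj n A = B := by
  obtain ⟨u, hu, o⟩ := h.pt_inv hU
  exact h.cj_eq hA hB (hU.le hu) o (hU' (hn ▸ conj_mem_cj.2 hu))

theorem disjW (f : Fr 𝒬 q Q Q₁ R V V₁) : V ⊓ V₁ = ⊥ :=
  eq_bot_iff.2 ((inf_le_inf_right _ f.le).trans (h.tb f).gr.disj.le)

theorem ctW (f : Fr 𝒬 q Q Q₁ R V V₁) : V ⊔ V₁ ≤ Ct (V ⊔ V₁) := fun x hx y hy => (h.elW f).ab y hy x hx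

theorem mem_W (f : Fr 𝒬 q Q Q₁ R V V₁) {x : G} : x ∈ V ⊔ V₁ ↔ ∃ v ∈ V, ∃ a ∈ V₁, x = v * a :=
  mem_sup_nm ((le_ct_comm.1 (h.tb f).gr.cent).trans (ct_le_nm V))

theorem exR (f : Fr 𝒬 q Q Q₁ R V V₁) : ∃ r ∈ R, r ∉ V :=
  SetLike.not_le_iff_exists.1 fun e => (h.tb f).ne (le_antisymm f.le e)

theorem nmR (f : Fr 𝒬 q Q Q₁ R V V₁) : V ⊔ V₁ ≤ Nm R := sup_le (f.le.trans le_normalizer) f.nrm

theorem R_nmW (f : Fr 𝒬 q Q Q₁ R V V₁) : R ≤ Nm (V ⊔ V₁) := fun r hr => by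
  by_cases e : r ∈ V
  exacts [le_normalizer (mem_sup_left e), (h.ela f hr e).nrm]

/-- `R ⊓ Ct V₁ = V` -/
theorem mem_V (f : Fr 𝒬 q Q Q₁ R V V₁) {r a : G} (hr : r ∈ R) (ha : a ∈ V₁) (h1 : a ≠ 1) (hc : r * a = a * r) :
    r ∈ V := (h.tb f).gr.fix a ha (ord_two (f.pt₁.el a ha) h1) r hr hc

theorem mem_V' (f : Fr 𝒬 q Q Q₁ R V V₁) {r : G} (hr : r ∈ R) (hc : r ∈ Ct (V ⊔ V₁)) : r ∈ V := by
  obtain ⟨a, ha, o⟩ := h.pt_inv f.pt₁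
  exact h.mem_V f hr ha (ne_one_of_ord o) (ll_ct hc (mem_sup_right ha))

theorem ti_W (f : Fr 𝒬 q Q Q₁ R V V₁) {A U : Subgroup G} (hA : A ∈ 𝒬) (hU : Pt q A U) (hW : U ≤ V ⊔ V₁) {n : G}
    (hn : n ∈ Nm (V ⊔ V₁)) (h1 : cj n U ⊓ V ≠ ⊥) : cj n U = V := by
  obtain ⟨x, ⟨⟨u, hu, rfl⟩, hx⟩, x1⟩ := (bot_or_exists_ne_one _).resolve_left h1
  have e := h.cj_eq hA f.mQ (hU.le hu) (ord_two (hU.el u hu) fun e => x1 (by simp [e])) (f.pt.le hx)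
  refine eq_of_le_of_card_ge ((le_inf (ll_cj_le hW hn) (e ▸ cj_mono n hU.le)).trans (h.inf_eq f).1.le) ?_
  rw [card_cj, hU.card, f.pt.card]

theorem ll_W (f : Fr 𝒬 q Q Q₁ R V V₁) {x y : G} (hx : Ela (V ⊔ V₁) V x) (hy : Ela (V ⊔ V₁) V₁ y)
    {H : Subgroup G} (h1 : x ∈ H) (h2 : y ∈ H) : ∃ n ∈ H, n ∈ Nm (V ⊔ V₁) ∧ cj n V = V₁ ∧ cj n V₁ = V ∧
      y⁻¹ * (n * x * n⁻¹) ∈ Ct (V ⊔ V₁) := by
  have k : ∀ K : Subgroup G, x ∈ K → y ∈ K → closure ({x, y} : Set G) ≤ K := fun K a b =>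
    (closure_le K).2 (Set.pair_subset a b)
  have n := k _ hx.nrm hy.nrm
  obtain ⟨u, hu, o⟩ := h.pt_inv f.pt
  obtain ⟨-, m, hm, a⟩ := ll (h.elW f) (h.disjW f) (fun e => ne_one_of_ord o (mem_bot.1 (e ▸ hu))) hx hy
    (fun m hm => h.ti_W f f.mQ f.pt le_sup_left (n hm)) fun m hm => h.ti_W f f.mQ₁ f.pt₁ le_sup_right (n hm)
  exact ⟨m, k H h1 h2 hm, n hm, a⟩

theorem ll_pair (f : Fr 𝒬 q Q Q₁ R V V₁) {x x' y : G} (hx : Ela (V ⊔ V₁) V x) (hx' : Ela (V ⊔ V₁) V x')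
    (hy : Ela (V ⊔ V₁) V₁ y) {H : Subgroup G} (h1 : x ∈ H) (h1' : x' ∈ H) (h2 : y ∈ H) :
    ∃ m ∈ H, m ∈ Nm (V ⊔ V₁) ∧ m ∈ Nm V ∧ x'⁻¹ * (m * x * m⁻¹) ∈ Ct (V ⊔ V₁) := by
  obtain ⟨n, a1, a2, a3, -, a4⟩ := h.ll_W f hx hy h1 h2
  obtain ⟨n', b1, b2, b3, -, b4⟩ := h.ll_W f hx' hy h1' h2
  refine ⟨n'⁻¹ * n, mul_mem (inv_mem b1) a1, mul_mem (inv_mem b2) a2,
    mem_normalizer_iff_cj.2 (by rw [cj_mul, a3, ← b3, cj_inv_cj]), ?_⟩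
  convert eg2_ct (inv_mem b2) (mul_mem (inv_mem b4) a4) using 1
  group

/-- correct an element normalising `X` and `V` so that it normalises `R` -/
theorem mv (f : Fr 𝒬 q Q Q₁ R V V₁) {X : Subgroup G} (hX : IsPGroup 2 X) (h1 : X ≤ Nm V) (h2 : X ≤ Nm R) {m : G}
    (h3 : m ∈ Nm X) (h4 : m ∈ Nm V) : ∃ o ∈ Ct X, o * m ∈ Nm R := by
  obtain ⟨o, ho, e⟩ := h.syl_conj f.mQ hX (fun x hx => h.nm_of_pt f.mQ f.pt (h1 hx)) f.syl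
    (f.syl.cj_of_mem_normalizer (h.nm_of_pt f.mQ f.pt h4)) h2 (eg2_nm_cj h3 h2)
  exact ⟨o, ho.2, mem_normalizer_iff_cj.2 (by rw [cj_mul, e])⟩

theorem ex_ela (f : Fr 𝒬 q Q Q₁ R V V₁) {R₁ : Subgroup G} (f₁ : Fr 𝒬 q Q₁ Q R₁ V₁ V) :
    ∃ r₁ ∈ R₁, Ela (V ⊔ V₁) V₁ r₁ := by
  obtain ⟨r, hr, hn⟩ := h.exR f₁
  exact ⟨r, hr, sup_comm V₁ V ▸ h.ela f₁ hr hn⟩

theorem al (f : Fr 𝒬 q Q Q₁ R V V₁) {y : G} (hy : Ela (V ⊔ V₁) V y) :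
    ∃ r ∈ R, r ∉ V ∧ r⁻¹ * y ∈ Ct (V ⊔ V₁) := by
  obtain ⟨R₁, f₁, -⟩ := h.fr_symm f (X := ⊥) IsPGroup.of_bot bot_le
  obtain ⟨r₁, -, e₁⟩ := h.ex_ela f f₁
  obtain ⟨r, hr, hn⟩ := h.exR f
  obtain ⟨m, -, a2, a3, a4⟩ := h.ll_pair f (h.ela f hr hn) hy e₁ (mem_top _) (mem_top _) (mem_top _)
  obtain ⟨o, ho, k⟩ := h.mv f (h.elW f).two ((h.ctW f).trans ((eg2_anti le_sup_left).trans (ct_le_nm V)))
    (h.nmR f) a2 a3
  have c : (o * m * r * (o * m)⁻¹)⁻¹ * y ∈ Ct (V ⊔ V₁) := by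
    convert mul_mem (mul_mem ho (inv_mem a4)) (eg2_ct (inv_mem hy.nrm) (inv_mem ho)) using 1
    group
  refine ⟨_, conj_mem_of_mem_normalizer k hr, fun e => ?_, c⟩
  obtain ⟨a, ha, o⟩ := h.pt_inv f.pt₁
  have := (hy.fix a (mem_sup_right ha)).1
    (ll_ct ((mul_mem_cancel_left (inv_mem (h.ctW f (mem_sup_left e)))).1 c) (mem_sup_right ha))
  exact ne_one_of_ord o (eg2_one (h.disjW f) this ha)

theorem sp (f : Fr 𝒬 q Q Q₁ R V V₁) {E : Subgroup G} (hE : El E) (h1 : V ⊔ V₁ ≤ E)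
    (h2 : E ≤ V₁ ⊔ Ct R) : ∃ C, Sp R Q₁ V V₁ E C := by
  have t := h.tb f
  have cE : E ≤ Ct E := fun x hx y hy => hE.ab y hy x hx
  have cW : E ≤ Ct (V ⊔ V₁) := cE.trans (eg2_anti h1)
  have nR : E ≤ Nm R := h2.trans (sup_le f.nrm (ct_le_nm R))
  obtain ⟨R₁, f₁, n₁⟩ := h.fr_symm f hE.two cW
  obtain ⟨r₁, hr₁, e₁⟩ := h.ex_ela f f₁
  obtain ⟨r₀, hr₀, hn₀⟩ := h.exR f
  have e₀ := h.ela f hr₀ hn₀
  have dE : ∀ e ∈ E, ∃ a ∈ V₁, ∃ c ∈ Ct R, e = a * c := fun e he => by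
    obtain ⟨c, hc, a, ha, rfl⟩ := (mem_sup_nm (A := Ct R) (B := V₁) fun a ha =>
      mem_normalizer_of_forall fun c hc => eg2_ct (f.nrm ha) hc).1 (sup_comm V₁ _ ▸ h2 he)
    exact ⟨a, ha, _, eg2_ct (inv_mem (f.nrm ha)) hc, by group⟩
  have cR : E ⊓ (Cx r₀ ⊓ Cx r₁) ≤ Ct R := fun e he => by
    obtain ⟨a, ha, c, hc, rfl⟩ := dE e he.1
    have k : a ∈ Cx r₀ := (mul_mem_cancel_right (centralizer_le (Set.singleton_subset_iff.2 hr₀) hc)).1 he.2.1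
    have := (e₀.fix a (mem_sup_right ha)).1 (mem_centralizer_singleton_iff.1 k).symm
    rwa [eg2_one (h.disjW f) this ha, one_mul]
  have dec : ∀ e ∈ E, ∃ w ∈ V ⊔ V₁, ∃ c ∈ E ⊓ (Cx r₀ ⊓ Cx r₁), e = w * c := fun e he => by
    obtain ⟨a, ha, c, hc, rfl⟩ := dE e he
    have hcE : c ∈ E := (mul_mem_cancel_left (h1 (mem_sup_right ha))).1 he
    obtain ⟨v, hv, k⟩ := e₁.onto le_sup_left (inf_comm V V₁ ▸ h.disjW f) (f.pt.card.trans f.pt₁.card.symm) _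
      ((h.comm_mem f₁ (sup_comm V V₁ ▸ cW hcE) (n₁ hcE)).1 r₁ hr₁)
    refine ⟨a * v, mul_mem (mem_sup_right ha) (mem_sup_left hv), v⁻¹ * c,
      ⟨E.mul_mem (inv_mem (h1 (mem_sup_left hv))) hcE, (Cx r₀).mul_mem (inv_mem (mem_centralizer_singleton_iff.2 (ll_ct (t.cen hr₀) hv).symm))
        (centralizer_le (Set.singleton_subset_iff.2 hr₀) hc),
      mem_centralizer_singleton_iff.2 (eg2_comm k.symm).symm⟩, by group⟩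
  have c₁ : r₁ ∈ Ct (E ⊓ (Cx r₀ ⊓ Cx r₁)) := fun c hc => mem_centralizer_singleton_iff.1 hc.2.2
  have c₀ := le_ct_comm.1 cR
  refine ⟨E ⊓ (Cx r₀ ⊓ Cx r₁), inf_le_left, cR, fun R' hR' n' => ?_, eq_bot_iff.2 fun w hw => ?_, dec,
    fun r hr s hs rV sV => ?_⟩
  · obtain ⟨n, a1, a2, a3, -⟩ := h.ll_W f e₀ e₁ (c₀ hr₀) c₁
    have s := f.syl.cj n
    rw [h.cj_of_pt f.mQ f.mQ₁ f.pt f.pt₁.le a3] at s
    obtain ⟨o, ho, rfl⟩ := h.syl_conj f.mQ₁ hE.two (fun x hx => h.nm_of_pt f.mQ₁ f.pt₁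
      (ct_le_nm V₁ (eg2_anti le_sup_right (cW hx)))) hR' s n'
      (eg2_nm_cj (eg2_nm_dec h1 inf_le_left dec a2 a1) nR)
    have o' : o ∈ Ct (E ⊓ (Cx r₀ ⊓ Cx r₁)) := eg2_anti inf_le_left ho.2
    refine le_ct_comm.1 (cj_le_iff.2 fun _ hx => ?_)
    obtain ⟨x, hx, rfl⟩ := hx
    exact mul_mem (mul_mem o' (mul_mem (mul_mem a1 (c₀ hx)) (inv_mem a1))) (inv_mem o')
  · exact h.disjW f ▸ mem_inf.2 ⟨(e₀.fix w hw.2).1 (mem_centralizer_singleton_iff.1 hw.1.2.1).symm,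
      (e₁.fix w hw.2).1 (mem_centralizer_singleton_iff.1 hw.1.2.2).symm⟩
  · obtain ⟨m, a1, a2, a3, a4⟩ := h.ll_pair f (h.ela f hr rV) (h.ela f hs sV) e₁ (c₀ hr) (c₀ hs) c₁
    obtain ⟨o, ho, k⟩ := h.mv f hE.two (cW.trans ((eg2_anti le_sup_left).trans (ct_le_nm V))) nR
      (eg2_nm_dec h1 inf_le_left dec a2 a1) a3
    have oW : o ∈ Ct (V ⊔ V₁) := eg2_anti h1 ho
    refine ⟨o * m, mul_mem (eg2_anti inf_le_left ho) a1, k, mul_mem (ct_le_nm _ oW) a2,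
      h.mem_V' f (mul_mem (conj_mem_of_mem_normalizer k hr) (inv_mem hs)) ?_⟩
    convert mul_mem oW (eg2_ct (h.R_nmW f hs) (mul_mem a4 (inv_mem oW))) using 1
    group

theorem sq_ela (s : Sq 𝒬 q Q Q₁ Q₃ R V V₁ V₃) {a : G} (ha : a ∈ V₁) (h1 : a ≠ 1) :
    Ela (V ⊔ V₃) V a := by
  have c : ∀ v ∈ V, a * v = v * a := fun v hv => (ll_ct ((h.tb s.f₁).gr.cent hv) ha).symm
  have k : ∀ v ∈ V, ∀ b, ⁅a, v * b⁆ = v * ⁅a, b⁆ * v⁻¹ := fun v hv b => by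
    simp only [commutatorElement_def]
    rw [← mul_assoc, c v hv]; group
  have m : ∀ w ∈ V ⊔ V₃, ⁅a, w⁆ ∈ V := fun w hw => by
    obtain ⟨v, hv, b, hb, rfl⟩ := (h.mem_W s.f₃).1 hw
    exact k v hv b ▸ mul_mem (mul_mem hv (s.comm a ha b hb)) (inv_mem hv)
  refine ⟨mem_normalizer_of_forall fun w hw => ?_, m, fun w hw => ⟨fun e => ?_, c w⟩⟩
  · simpa [commutatorElement_def] using mul_mem (mem_sup_left (m w hw)) hw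
  · obtain ⟨v, hv, b, hb, rfl⟩ := (h.mem_W s.f₃).1 hw
    by_cases b1 : b = 1
    · rwa [b1, mul_one]
    have := commutatorElement_eq_one_iff_mul_comm.2 e
    rw [k v hv b, conj_eq_one_iff] at this
    exact absurd this (s.ne a ha b hb h1 b1)

omit h [Finite G] in
theorem _root_.CfsgLib.ACT.Sq.symm (s : Sq 𝒬 q Q Q₁ Q₃ R V V₁ V₃) : Sq 𝒬 q Q Q₃ Q₁ R V V₃ V₁ := by
  exact ⟨s.f₃, s.f₁, fun b hb a ha => commutatorElement_inv a b ▸ inv_mem (s.comm a ha b hb),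
    fun b hb a ha b1 a1 e => s.ne a ha b hb a1 b1 (by rw [← commutatorElement_inv, e, inv_one])⟩

theorem sq_card (s : Sq 𝒬 q Q Q₁ Q₃ R V V₁ V₃) : Nat.card R = q ^ 2 := by
  obtain ⟨b, hb, o⟩ := h.pt_inv s.f₃.pt₁
  have t := h.tb s.f₃
  let φ : R →* V := MonoidHom.mk' (fun r => ⟨⁅(r : G), b⁆, t.comm r r.2 b hb⟩) fun r r' => Subtype.ext (by
    change ⁅(r : G) * r', b⁆ = ⁅(r : G), b⁆ * ⁅(r' : G), b⁆
    rw [s.f₃.pt.el.ab _ (t.comm r r.2 b hb) _ (t.comm r' r'.2 b hb),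
      ← ll_comm_iff.1 (ll_ct (t.cen r.2) (t.comm r' r'.2 b hb))]
    simp only [commutatorElement_def]; group)
  have k : φ.ker = V.subgroupOf R := Subgroup.ext fun r => ⟨fun e => h.mem_V s.f₃ r.2 hb (ne_one_of_ord o)
    (commutatorElement_eq_one_iff_mul_comm.1 (congrArg Subtype.val e)), fun e =>
      Subtype.ext (commutatorElement_eq_one_iff_mul_comm.2 (ll_ct (t.gr.cent e) hb))⟩
  have su : Function.Surjective φ := fun v => by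
    obtain ⟨a, ha, e⟩ := (h.sq_ela s.symm hb (ne_one_of_ord o)).onto le_sup_right (h.disjW s.f₁)
      (s.f₁.pt₁.card.trans s.f₁.pt.card.symm) _ (inv_mem v.2)
    rw [← commutatorElement_inv, inv_inj] at e
    by_cases a1 : a = 1
    · exact ⟨1, Subtype.ext (by simpa [a1] using e)⟩
    obtain ⟨r, hr, -, c⟩ := h.al s.f₃ (h.sq_ela s ha a1)
    refine ⟨⟨r, hr⟩, Subtype.ext (Eq.trans ?_ e)⟩
    change r * b * r⁻¹ * b⁻¹ = a * b * a⁻¹ * b⁻¹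
    rw [ll_conj_eq c (mem_sup_right hb)]
  have := φ.ker.card_mul_index
  rw [index_ker, MonoidHom.range_eq_top.2 su, card_top, k,
    Nat.card_congr (subgroupOfEquivOfLe s.f₃.le).toEquiv, s.f₃.pt.card] at this
  rw [← this, sq]

end EG

end CfsgLib.ACT
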