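import Cfsg.Agent.Lib.ACT.EG1
import Cfsg.Agent.Lib.ACT.EG2

/-! The endgame of type (B): the linear configuration. See `plans/COMP.md`. -/

set_option autoImplicit false
set_option linter.unusedSectionVars false
set_option linter.unusedVariables false

namespace CfsgLib.ACT

open Subgroup Cfsg CfsgLib.Tech CfsgLib.PComp
open CfsgLib.LBal (RC)
open scoped commutatorElement

universe u

variable {G : Type u} [Group G] [Finite G]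

variable {𝒬 : Set (Subgroup G)}


namespace EG

variable {q : ℕ} (h : EG 𝒬 q) {Q Q₁ Q₃ R V V₁ V₃ : Subgroup G}
include h

theorem adj_ct {A B S : Subgroup G} (hA : A ∈ 𝒬) (hB : B ∈ 𝒬) (hne : A ≠ B) (hS : IsSylowIn 2 S A) {b : G}
    (hb : b ∈ B) (ob : orderOf b = 2) (hc : b ∈ Ct S) : Adj A B := by
  obtain ⟨r, hr, h4⟩ := h.exists_four hA hS
  obtain ⟨k, hk⟩ := (two_of_mem hS.pgroup hr).exists_inv fun e => h4 (by simp [e])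
  exact h.adj_of_cent hA hB hne hS hb ob (h.cx_le hA (hS.le (pow_mem hr k)) hk
    (mem_centralizer_singleton_iff.2 (ll_ct hc (pow_mem hr k)))) (ct_le_nm S hc) hr h4 (ll_ct hc hr).symm

theorem ct_one (f : Fr 𝒬 q Q Q₁ R V V₁) {a : G} (ha : a ∈ V₁) (hc : a ∈ Ct R) : a = 1 := by
  obtain ⟨r, hr, hn⟩ := h.exR f
  exact by_contra fun a1 => hn (h.mem_V f hr ha a1 (ll_ct hc hr).symm)

theorem conj_a (f : Fr 𝒬 q Q Q₁ R V V₁) (hc : Nat.card R = q ^ 2) {w : G} (hw : w ∈ V ⊔ V₁) (hn : w ∉ V) :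
    ∃ r ∈ R, ∃ a ∈ V₁, a ≠ 1 ∧ r * a * r⁻¹ = w := by
  obtain ⟨v, hv, a, ha, rfl⟩ := (h.mem_W f).1 hw
  have a1 : a ≠ 1 := fun e => hn (by simpa [e] using hv)
  obtain ⟨r, hr, e⟩ := h.onto f hc (mem_sup_right ha) (fun k => a1 (eg2_one (h.disjW f) k ha)) v hv
  exact ⟨r, hr, a, ha, a1, by rw [← e, commutatorElement_def, inv_mul_cancel_right]⟩

theorem card_syl {A B S T : Subgroup G} (hA : A ∈ 𝒬) (hB : B ∈ 𝒬) (hS : IsSylowIn 2 S A) (hT : IsSylowIn 2 T B) :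
    Nat.card S = Nat.card T := by
  obtain ⟨g, rfl⟩ := h.trans A hA B hB
  rw [← (hS.cj g).card_eq hT, card_cj]

theorem z1_inf (f : Fr 𝒬 q Q Q₁ R V V₁) (hc : Nat.card R = q ^ 2) {Q₂ V₂ : Subgroup G} (hQ₂ : Q₂ ∈ 𝒬)
    (hb : Bad Q Q₂) (hp : Pt q Q₂ V₂) (h1 : V₂ ≤ Ct (V ⊔ V₁)) (h3 : ¬ V₂ ≤ V ⊔ V₁) : (V ⊔ V₁) ⊓ V₂ = ⊥ := by
  refine eq_bot_iff.2 fun x hx => by_contra fun x1 => h3 ?_
  obtain ⟨r, hr, a, ha, a1, rfl⟩ := h.conj_a f hc hx.1 fun k =>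
    hb.1.1 (h.eq_of_mem f.mQ hQ₂ (f.pt.le k) (hp.le hx.2) (two_of_sq (f.pt.el x k)) x1)
  have p := f.pt₁.cj r
  rw [h.cj_eq f.mQ₁ hQ₂ (f.pt₁.le ha) (ord_two (f.pt₁.el a ha) a1) (hp.le hx.2)] at p
  have l : cj r V₁ ≤ V ⊔ V₁ := ll_cj_le le_sup_right (h.R_nmW f hr)
  exact (h.pt_eq hQ₂ hp p (h1.trans ((eg2_anti l).trans (ct_le_nm _)))).le.trans l

/-- the final contradiction: an element `ω` moving `u` to `c₀ u` -/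
theorem z1_end (f : Fr 𝒬 q Q Q₁ R V V₁) {E C R₁ : Subgroup G} (hE : El E) (hW : V ⊔ V₁ ≤ E) (nR : E ≤ Nm R)
    (sp : Sp R Q₁ V V₁ E C) (hR₁ : IsSylowIn 2 R₁ Q₁) (n₁ : E ≤ Nm R₁) {a₀ c c₀ r ω : G} (ha₀ : a₀ ∈ V₁)
    (hc₀ : c₀ ∈ C) (c1 : c₀ ≠ 1) (hc : c = 1 ∨ c = c₀) (hr : r ∈ R) (h4 : r * r ≠ 1) (hd : a₀ * c * r ∈ DD 𝒬)
    (ωE : ω ∈ Nm E) (ω2 : ω * ω ∈ E) (ωa : ω * a₀ = a₀ * ω) (ωc : ω * c₀ = c₀ * ω)
    (ωu : ω * (r * r) * ω⁻¹ = c₀ * (r * r)) : False := by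
  have t := h.tb f
  have cE : E ≤ Ct E := fun x hx y hy => hE.ab y hy x hx
  have hu := t.sq r hr
  have uE := hW (mem_sup_left hu)
  have cE₀ := sp.le hc₀
  have o₀ := ord_two (hE _ cE₀) c1
  have nQ : E ≤ Nm Q := fun x hx => h.nm_of_pt f.mQ f.pt (ct_le_nm V (eg2_anti (le_sup_left.trans hW) (cE hx)))
  have cQ : c₀ ∉ Q := fun k => c1 (eg2_one sp.disj hc₀ (mem_sup_left (h.mem_pt f.mQ f.pt k (hE _ cE₀)
    (ct_le_nm V (eg2_anti (le_sup_left.trans hW) (cE cE₀))))))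
  have cQ₁ : c₀ ∉ Q₁ := fun k => c1 (eg2_one sp.disj hc₀ (mem_sup_right (h.mem_pt f.mQ₁ f.pt₁ k (hE _ cE₀)
    (ct_le_nm V₁ (eg2_anti (le_sup_right.trans hW) (cE cE₀))))))
  have mω := h.conj Q f.mQ ω
  have uω : c₀ * (r * r) ∈ cj ω Q := ωu ▸ conj_mem_cj.2 (f.pt.le hu)
  have adj : Adj Q (cj ω Q) := h.adj_ct f.mQ mω (fun e => cQ ((mul_mem_cancel_right (f.pt.le hu)).1 (e ▸ uω))) f.syl uω
    (by rw [← ωu, ord_conj]; exact ord_two (f.pt.el _ hu) h4) (mul_mem (sp.cR hc₀) (le_ct_comm.1 t.cen hu))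
  have tω : Two ω := ⟨2, by rw [show 2 ^ 2 = 2 * 2 from rfl, pow_mul, pow_two, pow_two, hE _ ω2]⟩
  obtain ⟨R₀, p₀, n₀, -, s₀⟩ := Fam.fam_syl_pair adj (two_sup hE.two tω.zpowers (zpowers_le.2 ωE))
    (sup_le (fun x hx => mem_normalizer_iff_cj.2 (by
      rw [cj_sup, mem_normalizer_iff_cj.1 (nQ hx), mem_normalizer_iff_cj.1 (eg2_nm_cj ωE nQ hx)]))
      (zpowers_le.2 (mem_normalizer_iff_cj.2 (by rw [cj_sup, ← cj_mul, mem_normalizer_iff_cj.1 (nQ ω2), sup_comm]))))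
  have n' : E ≤ Nm (R₀ ⊓ Q) := fun x hx => bas_nm_inf (n₀ (mem_sup_left hx)) (nQ hx)
  obtain ⟨o, ho, e⟩ := h.syl_conj f.mQ hE.two nQ s₀ f.syl n' nR
  have oE : ∀ x ∈ E, o * x * o⁻¹ = x := fun x hx => ll_comm_iff.1 (ll_ct ho.2 hx)
  have hr' : o * r * o⁻¹ ∈ R₀ ⊓ Q := e ▸ conj_mem_cj.2 hr
  have aE := hW (mem_sup_right ha₀)
  have cE' : c ∈ E := by rcases hc with rfl | rfl; exacts [one_mem _, cE₀]
  have hd' := dd_conj h.conj hd o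
  rw [← conj_mul, oE _ (mul_mem aE cE')] at hd'
  have u' : o * r * o⁻¹ * (o * r * o⁻¹) = r * r := by rw [conj_mul, oE _ uE]
  have c' : c₀ ∈ Ct (R₀ ⊓ Q) := by
    rw [← e, Ct, ← cj_centralizer, ← oE _ cE₀]
    exact conj_mem_cj.2 (sp.cR hc₀)
  generalize o * r * o⁻¹ = r' at hr' hd' u'
  obtain ⟨ob, B, hB, hb⟩ := hd'
  have k : ω * r' * ω⁻¹ ∈ Ct (R₀ ⊓ Q) := h.mem_ct_of_adj f.mQ mω adj s₀.pgroup inf_le_right (conj_mem_cj.2 hr'.2)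
    (bas_nm_inf (le_normalizer (conj_mem_of_mem_normalizer (n₀ (mem_sup_right (mem_zpowers ω))) hr'.1))
      (adj.2.2 (conj_mem_cj.2 hr'.2)))
  have ωac : ω * (a₀ * c) * ω⁻¹ = a₀ * c := by
    rcases hc with rfl | rfl
    · rw [mul_one, ωa, mul_inv_cancel_right]
    · rw [← conj_mul, ωa, ωc, mul_inv_cancel_right, mul_inv_cancel_right]
  have e1 : a₀ * c * r' * (ω * (a₀ * c * r') * ω⁻¹) = r'⁻¹ * (ω * r' * ω⁻¹) := by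
    rw [← conj_mul, ωac, ← mul_assoc, eq_inv_of_mul_eq_one_left ((mul_assoc _ _ _).trans (sq_of_ord ob))]
  have e2 : r'⁻¹ * (ω * r' * ω⁻¹) * (r'⁻¹ * (ω * r' * ω⁻¹)) = c₀ := by
    rw [mul_assoc, ← mul_assoc (ω * r' * ω⁻¹), ll_ct k (inv_mem hr'), mul_assoc, conj_mul, u', ωu, ← mul_assoc,
      ← mul_inv_rev, u', hE.ab _ cE₀ _ uE, inv_mul_cancel_left]
  obtain ⟨Q', R', V', V₁', V₃', s, m₁, m₃⟩ := h.viol_sq (A := B) (B := cj ω B) ⟨hB, h.conj B hB ω, hb, conj_mem_cj.2 hb,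
    ob, (ord_conj _ _).trans ob, orderOf_eq_prime_pow (p := 2) (n := 1) (by rwa [pow_one, pow_two, e1, e2])
      (by rw [show 2 ^ (1 + 1) = 2 * 2 from rfl, pow_mul, pow_two, pow_two, e1, e2, hE _ cE₀])⟩
  have mQ' := s.f₁.mQ
  have cQ' : c₀ ∈ Q' := by
    have := s.f₁.pt.le (s.comm _ m₁ _ m₃)
    rwa [commutatorElement_def, inv_eq_of_mul_eq_one_right (sq_of_ord ob),
      inv_eq_of_mul_eq_one_right (sq_of_ord ((ord_conj ω _).trans ob)), mul_assoc, e1, e2] at this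
  have a1 := (h.adj_ct f.mQ mQ' (fun e => cQ (e ▸ cQ')) s₀ cQ' o₀ c').symm
  have a2 := (h.adj_ct f.mQ₁ mQ' (fun e => cQ₁ (e ▸ cQ')) hR₁ cQ' o₀ (sp.cR₁ R₁ hR₁ n₁ hc₀)).symm
  obtain ⟨S, hS, nS, lS⟩ := exists_syl_norm (two_sup s₀.pgroup hE.two n') (A := Q')
    (le_trans (sup_le (fun x hx => mem_centralizer_singleton_iff.2 (ll_ct c' hx).symm)
      fun x hx => mem_centralizer_singleton_iff.2 (hE.ab _ hx _ cE₀)) (h.cx_le mQ' cQ' o₀))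
  have b1 := h.mem_ct_of_adj mQ' f.mQ a1 hS.pgroup hS.le hr'.2 (nS (mem_sup_left hr'))
  have b2 := h.mem_ct_of_adj mQ' f.mQ₁ a2 hS.pgroup hS.le (f.pt₁.le ha₀) (nS (mem_sup_right aE))
  have b3 : c ∈ Ct S := by
    rcases hc with rfl | rfl
    · exact one_mem _
    obtain ⟨U, -, -, -, om, cen, -⟩ := h.pt Q' mQ' S hS
    exact le_ct_comm.1 cen ((om c (lS ⟨mem_sup_right cE₀, cQ'⟩)).1 (hE _ cE₀))
  have b4 := mul_mem (mul_mem b2 b3) b1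
  obtain ⟨y, hy, y4⟩ := h.exists_four mQ' hS
  exact y4 ((s.f₁.bad.2 _ hb ob S hS (ct_le_nm S b4) y hy).2 (ll_ct b4 hy).symm)

theorem z1_core (f : Fr 𝒬 q Q Q₁ R V V₁) (hc : Nat.card R = q ^ 2) {Q₂ V₂ E C : Subgroup G} (hQ₂ : Q₂ ∈ 𝒬)
    (hb : Bad Q Q₂) (hp : Pt q Q₂ V₂) (h3 : ¬ V₂ ≤ V ⊔ V₁) (hE : El E) (e₂ : E = V ⊔ V₁ ⊔ V₂) (nR : E ≤ Nm R)
    (sp : Sp R Q₁ V V₁ E C) {a c : G} (ha : a ∈ V₁) (hcC : c ∈ C) (c1 : c ≠ 1) (hac : a * c ∈ V₂)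
    {e r : G} (he : e ∈ E) (hr : r ∈ R) (h4 : r * r ≠ 1) (hd : e * r ∈ DD 𝒬) : False := by
  have t := h.tb f
  have hW : V ⊔ V₁ ≤ E := e₂ ▸ le_sup_left
  have l₂ : V₂ ≤ E := e₂ ▸ le_sup_right
  have l₁ : V₁ ≤ E := le_sup_right.trans hW
  have l₀ : V ≤ E := le_sup_left.trans hW
  have cE : E ≤ Ct E := fun x hx y hy => hE.ab y hy x hx
  obtain ⟨R₁, f₁, n₁⟩ := h.fr_symm f hE.two (cE.trans (eg2_anti hW))
  have t₁ := h.tb f₁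
  have cR₁ := sp.cR₁ R₁ f₁.syl n₁
  have vR₁ := le_ct_comm.1 t₁.cen
  have adj : Adj Q₁ Q₂ := h.adj_ct f.mQ₁ hQ₂ (fun e => h3 ((h.pt_eq hQ₂ hp (e ▸ f.pt₁)
      (l₂.trans (cE.trans ((eg2_anti l₁).trans (ct_le_nm V₁))))).le.trans le_sup_right)) f₁.syl (hp.le hac)
    (ord_two (hp.el _ hac) fun e => c1 (eg2_one sp.disj hcC (mem_sup_right
      (eq_inv_of_mul_eq_one_right e ▸ inv_mem ha)))) (mul_mem (vR₁ ha) (cR₁ hcC))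
  have v₂R₁ : V₂ ≤ Ct R₁ := fun x hx =>
    h.mem_ct_of_adj f.mQ₁ hQ₂ adj f₁.syl.pgroup f₁.syl.le (hp.le hx) (n₁ (l₂ hx))
  obtain ⟨R₂, s₂, n₂, m₂⟩ := exists_syl_norm (two_sup f₁.syl.pgroup hE.two n₁) (A := Q₂)
    (sup_le (f₁.syl.le.trans adj.2.1) fun x hx => h.nm_of_pt hQ₂ hp (ct_le_nm V₂ (eg2_anti l₂ (cE hx))))
  have c₁₂ : R₁ ≤ Ct R₂ := fun x hx =>
    h.mem_ct_of_adj hQ₂ f.mQ₁ adj.symm s₂.pgroup s₂.le (f₁.syl.le hx) (n₂ (mem_sup_left hx))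
  have f₂ : Fr 𝒬 q Q₂ Q R₂ V₂ V := ⟨hQ₂, f.mQ, h.bad_symm f.mQ hQ₂ hb, s₂, hp,
    fun x hx => m₂ ⟨mem_sup_right (l₂ hx), hp.le hx⟩, f.pt, fun x hx => n₂ (mem_sup_right (l₀ hx))⟩
  have t₂ := h.tb f₂
  have c₂₁ : R₂ ≤ Ct V₁ := (le_ct_comm.1 c₁₂).trans (eg2_anti f₁.le)
  have dE : ∀ x ∈ E, ∃ v ∈ V, ∃ a ∈ V₁, ∃ y ∈ V₂, x = v * a * y := fun x hx => by
    obtain ⟨w, hw, y, hy, rfl⟩ := (mem_sup_nm (l₂.trans (cE.trans ((eg2_anti hW).trans (ct_le_nm _))))).1 (e₂ ▸ hx)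
    obtain ⟨v, hv, a, ha, rfl⟩ := (h.mem_W f).1 hw
    exact ⟨v, hv, a, ha, y, hy, rfl⟩
  obtain ⟨w, hw, c', hc', rfl⟩ := sp.dec e he
  obtain ⟨v, hv, a₀, ha₀, rfl⟩ := (h.mem_W f).1 hw
  obtain ⟨c₀, hc₀, c₀1, cc⟩ : ∃ c₀ ∈ C, c₀ ≠ 1 ∧ (c' = 1 ∨ c' = c₀) := by
    by_cases k : c' = 1
    exacts [⟨c, hcC, c1, Or.inl k⟩, ⟨c', hc', k, Or.inr rfl⟩]
  obtain ⟨v', hv', x, hx, y, hy, e₀⟩ := dE c₀ (sp.le hc₀)
  have v1 : v' = 1 := h.ct_one f₁ hv' ((mul_mem_cancel_right (vR₁ hx)).1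
    ((mul_mem_cancel_right (v₂R₁ hy)).1 (e₀ ▸ cR₁ hc₀)))
  rw [v1, one_mul] at e₀
  have hvr := mul_mem (f.le hv) hr
  have sq : v * r * (v * r) = r * r := by
    rw [mul_assoc, ← mul_assoc r, ll_ct (t.cen hr) hv, mul_assoc, ← mul_assoc, f.pt.el v hv, one_mul]
  have hu := t.sq r hr
  obtain ⟨r₁, hr₁, k₁⟩ := h.onto f₁ ((h.card_syl f.mQ₁ f.mQ f₁.syl f.syl).trans hc) (mem_sup_right hu)
    (fun k => h4 (eg2_one (h.disjW f) hu k)) x hx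
  obtain ⟨r₂, hr₂, k₂⟩ := h.onto f₂ ((h.card_syl hQ₂ f.mQ s₂ f.syl).trans hc) (mem_sup_right hu)
    (fun k => h4 (eg2_one (h.disjW f₂) k hu)) y hy
  have c₀₂ : r₂ * c₀ = c₀ * r₂ := by
    rw [e₀, ← mul_assoc, ll_ct (c₂₁ hr₂) hx, mul_assoc, ll_ct (t₂.cen hr₂) hy, mul_assoc]
  refine h.z1_end f hE hW nR sp f₁.syl n₁ ha₀ hc₀ c₀1 cc hvr (by rwa [sq]) (ω := r₁ * r₂) ?_ (mul_mem ?_ ?_) ?_ ?_ ?_ ?_
  · convert hd using 1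
    rw [← mul_assoc, ← hE.ab _ (l₀ hv) _ (mul_mem (l₁ ha₀) (sp.le hc')), mul_assoc v a₀]
  · exact eg2_nm_dec hW sp.le sp.dec (sup_comm V₁ V ▸ h.R_nmW f₁ hr₁) (le_ct_comm.1 cR₁ hr₁)
  · refine eg2_nm_dec (sup_le l₂ l₀) l₁ (fun x hx => ?_) (h.R_nmW f₂ hr₂) (c₂₁ hr₂)
    obtain ⟨v, hv, a, ha, y, hy, rfl⟩ := dE x hx
    exact ⟨y * v, mul_mem_sup hy hv, a, ha, by rw [← hE.ab _ (l₂ hy) _ (mul_mem (l₀ hv) (l₁ ha)), mul_assoc]⟩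
  · rw [mul_assoc, ← mul_assoc r₂, ← ll_ct (c₁₂ hr₁) hr₂, mul_assoc, ← mul_assoc]
    exact mul_mem (l₁ (t₁.sq _ hr₁)) (l₂ (t₂.sq _ hr₂))
  · rw [mul_assoc, ll_ct (c₂₁ hr₂) ha₀, ← mul_assoc, ll_ct (t₁.cen hr₁) ha₀, mul_assoc]
  · rw [mul_assoc, c₀₂, ← mul_assoc, ← ll_ct (cR₁ hc₀) hr₁, mul_assoc]
  · rw [sq]
    calc _ = r₁ * ⁅r₂, r * r⁆ * r₁⁻¹ * ⁅r₁, r * r⁆ * (r * r) := by simp only [commutatorElement_def]; group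
      _ = _ := by rw [k₁, k₂, ← ll_ct (v₂R₁ hy) hr₁, mul_inv_cancel_right, e₀, hE.ab _ (l₂ hy) _ (l₁ hx)]

theorem z1 (f : Fr 𝒬 q Q Q₁ R V V₁) (hc : Nat.card R = q ^ 2) {Q₂ V₂ : Subgroup G} (hQ₂ : Q₂ ∈ 𝒬)
    (hb : Bad Q Q₂) (hp : Pt q Q₂ V₂) (h1 : V₂ ≤ Ct (V ⊔ V₁)) (h2 : V₂ ≤ V₁ ⊔ Ct R)
    (h3 : ¬ V₂ ≤ V ⊔ V₁) {e r : G} (he : e ∈ V ⊔ V₁ ⊔ V₂) (hr : r ∈ R) (h4 : r * r ≠ 1)
    (hd : e * r ∈ DD 𝒬) : False := by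
  have t := h.tb f
  have hE : El (V ⊔ V₁ ⊔ V₂) := (h.elW f).sup hp.el (le_ct_comm.1 h1)
  have le : V ⊔ V₁ ⊔ V₂ ≤ V₁ ⊔ Ct R := sup_le (sup_le ((le_ct_comm.1 t.cen).trans le_sup_right) le_sup_left) h2
  obtain ⟨C, sp⟩ := h.sp f hE le_sup_left le
  obtain ⟨x, hx, o⟩ := h.pt_inv hp
  obtain ⟨w, hw, c, hcC, rfl⟩ := sp.dec x (mem_sup_right hx)
  have c1 : c ≠ 1 := fun k => ne_one_of_ord o (eg2_one (h.z1_inf f hc hQ₂ hb hp h1 h3) (by simpa [k] using hw) hx)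
  obtain ⟨g, hg, a, ha, -, rfl⟩ := h.conj_a f hc hw fun k => h.not_adj f.mQ hQ₂ hb
    (h.adj_ct f.mQ hQ₂ hb.1.1 f.syl (hp.le hx) o (mul_mem (le_ct_comm.1 t.cen k) (sp.cR hcC))).2.1
  have gW := inv_mem (h.R_nmW f hg)
  have gE := eg2_nm_dec le_sup_left sp.le sp.dec gW (inv_mem (le_ct_comm.1 sp.cR hg))
  have b := hb.cj g⁻¹
  rw [cj_eq_of_mem (inv_mem (f.syl.le hg))] at b
  refine h.z1_core f hc (h.conj _ hQ₂ g⁻¹) b (hp.cj g⁻¹) (fun k => h3 ?_) hE ?_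
    (le.trans (sup_le f.nrm (ct_le_nm R))) sp ha hcC c1 (mem_cj.2 ?_) he hr h4 hd
  · rwa [← mem_normalizer_iff_cj.1 gW, cj_le_cj_iff] at k
  · rw [← mem_normalizer_iff_cj.1 gE, cj_sup, mem_normalizer_iff_cj.1 gW]
  · convert hx using 1
    rw [inv_inv, ← conj_mul, ← ll_ct (sp.cR hcC) hg, mul_inv_cancel_right]

theorem sq_ex (s : Sq 𝒬 q Q Q₁ Q₃ R V V₁ V₃) {a : G} (ha : a ∈ V₁) : ∃ r ∈ R, r⁻¹ * a ∈ Ct (V ⊔ V₃) := by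
  by_cases a1 : a = 1
  · exact ⟨1, one_mem _, by simp [a1]⟩
  obtain ⟨r, hr, -, c⟩ := h.al s.f₃ (h.sq_ela s ha a1)
  exact ⟨r, hr, c⟩

theorem sq_ex' (s : Sq 𝒬 q Q Q₁ Q₃ R V V₁ V₃) {r : G} (hr : r ∈ R) : ∃ a ∈ V₁, r⁻¹ * a ∈ Ct (V ⊔ V₃) := by
  obtain ⟨b, hb, o⟩ := h.pt_inv s.f₃.pt₁
  obtain ⟨a, ha, e⟩ := (h.sq_ela s.symm hb (ne_one_of_ord o)).onto le_sup_right (h.disjW s.f₁)
    (s.f₁.pt₁.card.trans s.f₁.pt.card.symm) _ (inv_mem ((h.tb s.f₃).comm r hr b hb))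
  rw [← commutatorElement_inv, inv_inj, commutatorElement_def, commutatorElement_def, mul_left_inj] at e
  obtain ⟨r', hr', c⟩ := h.sq_ex s ha
  have := h.mem_V s.f₃ (mul_mem (inv_mem hr) hr') hb (ne_one_of_ord o) (ll_comm_iff.2 (by
    calc _ = r⁻¹ * (r' * b * r'⁻¹) * r := by group
      _ = _ := by rw [← ll_conj_eq c (mem_sup_right hb), e]; group))
  exact ⟨a, ha, by simpa [mul_assoc] using mul_mem (h.ctW s.f₃ (mem_sup_left this)) c⟩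

theorem sq_one (s : Sq 𝒬 q Q Q₁ Q₃ R V V₁ V₃) {a : G} (ha : a ∈ V₁) (c : a ∈ Ct V₃) : a = 1 := by
  obtain ⟨b, hb, o⟩ := h.pt_inv s.f₃.pt₁
  exact by_contra fun a1 => s.ne a ha b hb a1 (ne_one_of_ord o)
    (commutatorElement_eq_one_iff_mul_comm.2 (ll_ct c hb))

theorem sq_el (s : Sq 𝒬 q Q Q₁ Q₃ R V V₁ V₃) : El ((R ⊔ V₁) ⊓ Ct (V ⊔ V₃)) := fun w hw => by
  have t := h.tb s.f₁
  obtain ⟨R₃, f, n⟩ := h.fr_symm s.f₃ ((two_sup t.gr.twoR t.gr.twoT s.f₁.nrm).to_le inf_le_left) inf_le_right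
  refine h.ct_one f ?_ (h.comm_mem f (sup_comm V V₃ ▸ hw.2) (n hw)).2
  obtain ⟨r, hr, a, ha, rfl⟩ := (mem_sup_nm s.f₁.nrm).1 hw.1
  convert mul_mem (t.sq r hr) (t.comm _ (inv_mem hr) a ha) using 1
  rw [commutatorElement_def, inv_eq_of_mul_eq_one_right (t.elT a ha)]
  group

theorem sq_le (s : Sq 𝒬 q Q Q₁ Q₃ R V V₁ V₃) : V₃ ≤ V₁ ⊔ R := by
  have f₁ := s.f₁
  have f₃ := s.f₃
  have t := h.tb f₁
  have hc := h.sq_card s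
  set W' := (R ⊔ V₁) ⊓ Ct (V ⊔ V₃) with hW'
  have c₃ : W' ≤ Ct V₃ := inf_le_right.trans (eg2_anti le_sup_right)
  have hE : El (W' ⊔ V₃) := (h.sq_el s).sup f₃.pt₁.el c₃
  have mW : ∀ r ∈ R, ∀ a ∈ V₁, r⁻¹ * a ∈ Ct (V ⊔ V₃) → r⁻¹ * a ∈ W' := fun r hr a ha c =>
    ⟨mul_mem_sup (inv_mem hr) ha, c⟩
  have l₃ : V ⊔ V₃ ≤ W' ⊔ V₃ := sup_le_sup_right (fun v hv => ⟨mem_sup_left (f₁.le hv), h.ctW f₃ (mem_sup_left hv)⟩) _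
  have cE : W' ⊔ V₃ ≤ Ct (W' ⊔ V₃) := fun x hx y hy => hE.ab y hy x hx
  have n₃ : V₃ ≤ Nm (V ⊔ V₁) := fun b hb => by
    by_cases b1 : b = 1
    exacts [b1 ▸ one_mem _, (h.sq_ela s.symm hb b1).nrm]
  have ζ : ∀ r ∈ R, ∀ a ∈ V₁, ∀ b ∈ V₃, r⁻¹ * a ∈ Ct (V ⊔ V₃) → r⁻¹ * b ∈ Ct (V ⊔ V₁) → r⁻¹ * a * b ∈ Ct R :=
    fun r hr a ha b hb c c' r' hr' => by
      obtain ⟨a', ha', d⟩ := h.sq_ex' s hr'
      have m := mul_mem_sup (mW r hr a ha c) hb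
      have k : r⁻¹ * a * b ∈ Ct (V ⊔ V₁) := by
        convert mul_mem c' (h.ctW f₁ (conj_mem_of_mem_normalizer (inv_mem (n₃ hb)) (mem_sup_right ha))) using 1
        group
      have k1 : Commute (r⁻¹ * a * b) a' := ll_ct k (mem_sup_right ha')
      have k2 : Commute (r⁻¹ * a * b) (r'⁻¹ * a') := hE.ab _ m _ (mem_sup_left (mW r' hr' a' ha' d))
      simpa using (k1.mul_right k2.inv_right).symm.eq
  obtain ⟨C, sp⟩ := h.sp f₃ hE l₃ (sup_le (fun w hw => by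
    obtain ⟨r, hr, a, ha, rfl⟩ := (mem_sup_nm f₁.nrm).1 hw.1
    obtain ⟨b, hb, c⟩ := h.sq_ex' s.symm (inv_mem hr)
    simpa using mul_mem (mem_sup_right (ζ _ (inv_mem hr) a ha b hb (by simpa using hw.2) c))
      (mem_sup_left (inv_mem hb))) le_sup_left)
  have cC : C ≤ Ct (W' ⊔ V₃) := sp.le.trans cE
  have cC₁ : V₁ ≤ Ct C := fun a ha => by
    obtain ⟨r, hr, c⟩ := h.sq_ex s ha
    simpa using mul_mem (le_ct_comm.1 sp.cR hr) (le_ct_comm.1 cC (mem_sup_left (mW r hr a ha c)))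
  have cW₁ : V ⊔ V₁ ≤ Ct C := sup_le (f₁.le.trans (le_ct_comm.1 sp.cR)) cC₁
  have cN : V ⊔ V₁ ⊔ V₃ ≤ Ct C := sup_le cW₁ (le_sup_right.trans (le_ct_comm.1 cC))
  have ζ' : ∀ r ∈ R, ∀ a ∈ V₁, ∀ b ∈ V₃, r⁻¹ * a ∈ Ct (V ⊔ V₃) → r⁻¹ * b ∈ Ct (V ⊔ V₁) →
      ∃ v ∈ V, ∃ c ∈ C, r⁻¹ * a * b = v * c := fun r hr a ha b hb c c' => by
    obtain ⟨w, hw, c₀, hc₀, e⟩ := sp.dec _ (mul_mem_sup (mW r hr a ha c) hb)
    obtain ⟨v, hv, b', hb', rfl⟩ := (h.mem_W f₃).1 hw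
    have := h.ct_one f₃ hb' ((mul_mem_cancel_left (le_ct_comm.1 t.cen hv)).1
      ((mul_mem_cancel_right (sp.cR hc₀)).1 (e ▸ ζ r hr a ha b hb c c')))
    exact ⟨v, hv, c₀, hc₀, by rw [e, this, mul_one]⟩
  have dN : ∀ y ∈ V ⊔ V₁ ⊔ V₃, ∃ v ∈ V, ∃ a ∈ V₁, ∃ b ∈ V₃, y = v * a * b := fun y hy => by
    obtain ⟨w, hw, b, hb, rfl⟩ := (mem_sup_nm n₃).1 hy
    obtain ⟨v, hv, a, ha, rfl⟩ := (h.mem_W f₁).1 hw
    exact ⟨v, hv, a, ha, b, hb, rfl⟩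
  have NC : ∀ c ∈ C, c ∈ V ⊔ V₁ ⊔ V₃ → c = 1 := fun c hc hN => by
    obtain ⟨v, hv, a, ha, b, hb, rfl⟩ := dN c hN
    have c' : ∀ x ∈ W' ⊔ V₃, x ∈ Ct V₃ := fun x hx => eg2_anti le_sup_right (cE hx)
    have := h.sq_one s ha ((mul_mem_cancel_left (c' _ (l₃ (mem_sup_left hv)))).1
      ((mul_mem_cancel_right (c' _ (mem_sup_right hb))).1 (c' _ (sp.le hc))))
    exact eg2_one sp.disj hc (by simpa [this] using mul_mem_sup hv hb)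
  have mN : ∀ x, x ∈ V ⊔ V₁ ⊔ V₃ ⊔ C ↔ ∃ y ∈ V ⊔ V₁ ⊔ V₃, ∃ c ∈ C, x = y * c := fun x =>
    mem_sup_nm ((le_ct_comm.1 cN).trans (ct_le_nm _))
  have RN : R ≤ V ⊔ V₁ ⊔ V₃ ⊔ C := fun r hr => by
    obtain ⟨a, ha, c⟩ := h.sq_ex' s hr
    obtain ⟨b, hb, c'⟩ := h.sq_ex' s.symm hr
    obtain ⟨v, hv, c₀, hc₀, e⟩ := ζ' r hr a ha b hb c c'
    convert mul_mem (mem_sup_left (mul_mem_sup (mem_sup_right ha) hb))
      (inv_mem (mul_mem_sup (mem_sup_left (mem_sup_left hv)) hc₀)) using 1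
    rw [← e]; group
  by_cases hn : ∀ n ∈ Ct C, n ∈ Nm R → n ∈ Nm (V ⊔ V₃) → n ∈ Nm (V ⊔ V₁)
  · have same : ∀ r ∈ R, r ∉ V → ∀ c ∈ C, r * c ∈ V ⊔ V₁ ⊔ V₃ → ∀ r' ∈ R, r' ∉ V → r' * c ∈ V ⊔ V₁ ⊔ V₃ :=
      fun r hr rV c hc k r' hr' rV' => by
        obtain ⟨n, a1, a2, a3, a4⟩ := sp.cos r hr r' hr' rV rV'
        have nN : n ∈ Nm (V ⊔ V₁ ⊔ V₃) := mem_normalizer_iff_cj.2 (by
          rw [sup_assoc, sup_sup_distrib_left, cj_sup, mem_normalizer_iff_cj.1 a3,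
            mem_normalizer_iff_cj.1 (hn n a1 a2 a3)])
        have e : r' * c = r' * (n * r * n⁻¹)⁻¹ * (n * (r * c) * n⁻¹) := by
          rw [← conj_mul, ll_comm_iff.1 (ll_ct a1 hc)]; group
        rw [e]
        exact mul_mem (mem_sup_left (mem_sup_left (by simpa using inv_mem a4))) (conj_mem_of_mem_normalizer nN k)
    obtain ⟨a, ha, o⟩ := h.pt_inv f₁.pt₁
    have on := h.onto f₁ hc (mem_sup_right ha) fun k => ne_one_of_ord o (eg2_one (h.disjW f₁) k ha)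
    obtain ⟨v, hv, v', hv', ov, ov', vv, -⟩ := f₁.pt.el.rk2 (f₁.pt.card ▸ h.four)
    obtain ⟨r₁, hr₁, rfl⟩ := on v hv
    obtain ⟨r₂, hr₂, rfl⟩ := on v' hv'
    have nV : ∀ r ∈ V, ⁅r, a⁆ = 1 := fun r hr => commutatorElement_eq_one_iff_mul_comm.2 (ll_ct (t.gr.cent hr) ha)
    have n1 := mt (nV r₁) (ne_one_of_ord ov)
    have n2 := mt (nV r₂) (ne_one_of_ord ov')
    have n3 : r₁ * r₂ ∉ V := fun k => vv (by
      have e : r₁ * ⁅r₂, a⁆ * r₁⁻¹ * ⁅r₁, a⁆ = 1 := by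
        rw [← nV _ k]; simp only [commutatorElement_def]; group
      rw [ll_comm_iff.1 (ll_ct (t.cen hr₁) hv')] at e
      rw [eq_inv_of_mul_eq_one_right e, inv_eq_of_mul_eq_one_right (sq_of_ord ov')])
    obtain ⟨y, hy, c, hcC, e⟩ := (mN _).1 (RN hr₁)
    have cc := hE c (sp.le hcC)
    have k1 : r₁ * c ∈ V ⊔ V₁ ⊔ V₃ := by rwa [e, mul_assoc, cc, mul_one]
    have k2 := same r₁ hr₁ n1 c hcC k1
    have c1 : c = 1 := NC c hcC (by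
      convert mul_mem (inv_mem (mul_mem k1 (k2 r₂ hr₂ n2))) (k2 _ (mul_mem hr₁ hr₂) n3) using 1
      rw [mul_assoc r₁, ← mul_assoc c, ll_ct (sp.cR hcC) hr₂, mul_assoc r₂, cc]
      group)
    intro b hb
    by_cases b1 : b = 1
    · exact b1 ▸ one_mem _
    obtain ⟨r, hr, rV, k⟩ := h.al f₁ (h.sq_ela s.symm hb b1)
    obtain ⟨w, hw, b', hb', e⟩ := (mem_sup_nm n₃).1 (show r ∈ V ⊔ V₁ ⊔ V₃ by simpa [c1] using k2 r hr rV)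
    have := h.sq_one s.symm (mul_mem (inv_mem hb') hb) (eg2_anti le_sup_right (by
      convert mul_mem (eg2_ct (inv_mem (n₃ hb')) (h.ctW f₁ hw)) k using 1
      rw [e]; group))
    rw [← inv_mul_eq_one.1 this, eq_inv_mul_of_mul_eq e.symm]
    exact mul_mem (inv_mem (sup_le (f₁.le.trans le_sup_right) le_sup_left hw)) (mem_sup_right hr)
  exfalso
  push Not at hn
  obtain ⟨n, a1, a2, a3, a4⟩ := hn
  have nV : n ∈ Nm V := mem_normalizer_of_forall fun v hv => (t.om _ (conj_mem_of_mem_normalizer a2 (f₁.le hv))).1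
    (by rw [conj_mul, f₁.pt.el v hv, mul_one, mul_inv_cancel])
  have bad := f₁.bad.cj n
  rw [mem_normalizer_iff_cj.1 (h.nm_of_pt f₁.mQ f₁.pt nV)] at bad
  have p := f₁.pt₁.cj n
  have h3 : ¬ cj n V₁ ≤ V ⊔ V₁ := fun k => a4 (mem_normalizer_of_cj_le (by
    rw [cj_sup, mem_normalizer_iff_cj.1 nV]; exact sup_le le_sup_left k))
  have nE := eg2_nm_dec l₃ sp.le sp.dec a3 a1
  have le : cj n V₁ ≤ V ⊔ V₁ ⊔ C := cj_le_iff.2 fun a ha => by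
    obtain ⟨r, hr, c⟩ := h.sq_ex s ha
    have m : n * a * n⁻¹ ∈ V ⊔ V₁ ⊔ V₃ ⊔ C := by
      obtain ⟨w, hw, c', hc', e⟩ := sp.dec _ (conj_mem_of_mem_normalizer nE (mem_sup_left (mW r hr a ha c)))
      convert mul_mem (RN (conj_mem_of_mem_normalizer a2 hr))
        (mul_mem_sup (sup_le_sup_right le_sup_left V₃ hw) hc') using 1
      rw [← e]; group
    obtain ⟨y, hy, c, hcC, e⟩ := (mN _).1 m
    obtain ⟨v, hv, a', ha', b', hb', rfl⟩ := dN y hy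
    by_cases b1 : b' = 1
    · rw [e, b1, mul_one]
      exact mul_mem_sup (mul_mem_sup hv ha') hcC
    by_cases a1 : a' = 1
    · have : n * a * n⁻¹ ∈ Ct (V ⊔ V₃) :=
        e ▸ eg2_anti l₃ (cE (mul_mem (l₃ (by simpa [a1] using mul_mem_sup hv hb')) (sp.le hcC)))
      rw [h.sq_one s ha (eg2_anti le_sup_right (by simpa [mul_assoc] using eg2_ct (inv_mem a3) this))]
      simp
    refine absurd ?_ (s.ne a' ha' b' hb' a1 b1)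
    have e2 := p.el _ (conj_mem_cj.2 ha)
    have k1 : Commute c (v * a' * b') := (ll_ct (cN hy) hcC).symm
    have k2 : Commute v (a' * b') := Commute.mul_right (ll_ct (t.gr.cent hv) ha') (ll_ct ((h.tb f₃).gr.cent hv) hb')
    rw [e, k1.mul_mul_mul_comm, hE c (sp.le hcC), mul_one, mul_assoc v, k2.symm.mul_mul_mul_comm, f₁.pt.el v hv,
      one_mul] at e2
    rwa [commutatorElement_def, inv_eq_of_mul_eq_one_right (t.elT _ ha'),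
      inv_eq_of_mul_eq_one_right (f₃.pt₁.el _ hb'), mul_assoc]
  have h1 : cj n V₁ ≤ Ct (V ⊔ V₁) := le.trans (sup_le (h.ctW f₁) (le_ct_comm.1 cW₁))
  have d₂ := h.z1_inf f₁ hc (h.conj _ f₁.mQ₁ n) bad p h1 h3
  have dW : W' ⊓ C = ⊥ := eq_bot_iff.2 fun w hw => NC w hw.2 (by
    obtain ⟨r, hr, a, ha, rfl⟩ := (mem_sup_nm f₁.nrm).1 hw.1.1
    have := (mul_mem_cancel_right (eg2_anti le_sup_right (h.ctW f₁ (mem_sup_right ha)))).1 (le_ct_comm.1 cC₁ hw.2)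
    obtain ⟨a', ha', o⟩ := h.pt_inv f₁.pt₁
    exact mem_sup_left (mul_mem_sup (h.mem_V f₁ hr ha' (ne_one_of_ord o) (ll_ct this ha')) ha))
  have q1 : Nat.card C ≤ q := by
    have e1 := card_sup_of_disj (cC.trans ((eg2_anti le_sup_left).trans (ct_le_nm W'))) dW
    have e2 := Coprime.card_sup_mul_card_inf ((le_ct_comm.1 c₃).trans (ct_le_nm W'))
    have e3 := card_le_of_le (sup_le le_sup_left sp.le : W' ⊔ C ≤ W' ⊔ V₃)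
    rw [f₃.pt₁.card] at e2
    exact Nat.le_of_mul_le_mul_left (e1.ge.trans (e3.trans ((Nat.le_mul_of_pos_right _ Nat.card_pos).trans e2.le)))
      Nat.card_pos
  have eq : V ⊔ V₁ ⊔ cj n V₁ = V ⊔ V₁ ⊔ C := eq_of_le_of_card_ge (sup_le le_sup_left le) (by
    rw [card_sup_of_disj (h1.trans (ct_le_nm _)) d₂, p.card, card_sup_of_disj
      ((le_ct_comm.1 cW₁).trans (ct_le_nm _)) (eq_bot_iff.2 fun x hx => NC x hx.2 (mem_sup_left hx.1))]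
    exact Nat.mul_le_mul_left _ q1)
  obtain ⟨b, hb, o⟩ := h.pt_inv f₃.pt₁
  obtain ⟨r, hr, rV, k⟩ := h.al f₁ (h.sq_ela s.symm hb (ne_one_of_ord o))
  obtain ⟨a, ha, k'⟩ := h.sq_ex' s hr
  obtain ⟨v, hv, c, hcC, e⟩ := ζ' r hr a ha b hb k' k
  have eb : a⁻¹ * (v * c) * r = b := by
    rw [mul_assoc, ll_ct (mul_mem (le_ct_comm.1 t.cen hv) (sp.cR hcC)) hr, ← e]; group
  exact h.z1 f₁ hc (h.conj _ f₁.mQ₁ n) bad p h1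
    (le.trans (sup_le (sup_le ((le_ct_comm.1 t.cen).trans le_sup_right) le_sup_left) (sp.cR.trans le_sup_right))) h3
    (e := a⁻¹ * (v * c)) (eq ▸ mul_mem (mem_sup_left (mem_sup_right (inv_mem ha)))
      (mul_mem_sup (mem_sup_left hv) hcC)) hr (mt (t.om r hr).1 rV) (eb ▸ ⟨o, Q₃, f₃.mQ₁, f₃.pt₁.le hb⟩)

end EG

end CfsgLib.ACT
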