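import Cfsg.Agent.Lib.ACT.EG3
import Cfsg.Agent.Lib.ACT.QS2
import Cfsg.Agent.Lib.ACT.GD1

/-! The endgame of type (B): no dihedral groups of order eight. See `plans/COMP.md`. -/

set_option autoImplicit false

namespace CfsgLib.ACT

open Subgroup Cfsg CfsgLib.Tech CfsgLib.PComp
open CfsgLib.LBal (RC)
open scoped commutatorElement

universe u

variable {G : Type u} [Group G] [Finite G]

variable {𝒬 : Set (Subgroup G)}

namespace EG

variable {q : ℕ} (h : EG 𝒬 q) {A B : Subgroup G}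
include h


theorem e4_nm (hA : A ∈ 𝒬) (hB : B ∈ 𝒬) (hb : Bad A B) {b : G} (hbB : b ∈ B) (h2 : b * b = 1) : b ∈ Nm A := by
  by_cases e : b = 1
  · rw [e]; exact one_mem _
  · exact (h.weak B hB A hA (h.wadj_symm hA hB hb.1)).2 b hbB (ord_two h2 e)

theorem not_inner (hA : A ∈ 𝒬) (hB : B ∈ 𝒬) (hb : Bad A B) {b : G} (hbB : b ∈ B)
    (ob : orderOf b = 2) {k : G} (hk : k ∈ Ct A) : k⁻¹ * b ∉ A := by
  intro hc
  have bN := h.e4_nm hA hB hb hbB (sq_of_ord ob)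
  have act : ∀ a ∈ A, k⁻¹ * b * a * (k⁻¹ * b)⁻¹ = b * a * b⁻¹ := fun a ha => by
    have := mem_centralizer_iff.1 hk _ (conj_mem_of_mem_normalizer bN ha)
    calc _ = k⁻¹ * (b * a * b⁻¹ * k) := by group
      _ = _ := by rw [this]; group
  generalize k⁻¹ * b = c at hc act
  have c2 : c * c ∈ Ct A := mem_centralizer_iff.2 fun a ha => by
    have : c * c * a * (c * c)⁻¹ = a := by
      calc _ = c * (c * a * c⁻¹) * c⁻¹ := by group
        _ = b * b * a * (b * b)⁻¹ := by rw [act a ha, act _ (conj_mem_of_mem_normalizer bN ha)]; group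
        _ = a := by rw [sq_of_ord ob]; group
    exact (mul_inv_eq_iff_eq_mul.1 this).symm
  obtain ⟨_, ⟨j, rfl⟩, h2⟩ := exists_two_part c
  have dA : c ^ (2 * j + 1) ∈ A := pow_mem hc _
  have act' : ∀ a ∈ A, c ^ (2 * j + 1) * a * (c ^ (2 * j + 1))⁻¹ = b * a * b⁻¹ := fun a ha => by
    have := mem_centralizer_iff.1 (pow_mem c2 j) a ha
    rw [← act a ha, pow_succ', pow_mul, pow_two]
    calc _ = c * ((c * c) ^ j * a) * ((c * c) ^ j)⁻¹ * c⁻¹ := by group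
      _ = _ := by rw [← this]; group
  generalize c ^ (2 * j + 1) = d at h2 dA act'
  have db : d * b = b * d := by
    have := act' d dA
    rw [mul_inv_cancel_right] at this
    exact mul_inv_eq_iff_eq_mul.1 this.symm |>.symm
  obtain ⟨R, hR, h3, h4⟩ := exists_syl_norm (A := A) (X := zpowers d ⊔ zpowers b)
    (two_sup h2.zpowers (two_of_sq (sq_of_ord ob)).zpowers (zpowers_le.2 (ct_le_nm _ (mem_centralizer_iff.2 (by
      rintro _ ⟨n, rfl⟩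
      exact ((show Commute d b from db).zpow_left n).eq)))))
    (sup_le (zpowers_le.2 (le_normalizer dA)) (zpowers_le.2 bN))
  have dR : d ∈ R := h4 ⟨mem_sup_left (mem_zpowers d), dA⟩
  have bad := hb.2 b hbB ob R hR (h3 (mem_sup_right (mem_zpowers b)))
  obtain ⟨V, -, -, -, h5, h6, -⟩ := h.pt A hA R hR
  obtain ⟨r, hr, h7⟩ := h.exists_four hA hR
  refine h7 ((bad r hr).2 ?_)
  have h8 := mem_centralizer_iff.1 (h6 hr) d ((h5 d dR).1 ((bad d dR).2 db))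
  have h9 := act' r (hR.le hr)
  rw [h8, mul_inv_cancel_right] at h9
  exact (mul_inv_eq_iff_eq_mul.1 h9.symm).symm

theorem e4_ni (hA : A ∈ 𝒬) (hB : B ∈ 𝒬) (hb : Bad A B) {r x : G} (hσ : r * x ∈ Ct A) (hr : r ∈ A)
    (hx : x ∈ B) (h2 : x * x = 1) : x = 1 := by
  by_contra e
  refine h.not_inner hA hB hb hx (ord_two h2 e) hσ ?_
  have := conj_mem_of_mem_normalizer' (h.e4_nm hA hB hb hx h2) (inv_mem hr)
  convert this using 1; group

omit h in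
theorem e4_sigma {K : Subgroup G} (hK : IsQuasisimple K) {a : G} (ha : orderOf a = 2) (hn : a ∈ Nm K)
    (hz : a ∉ Ct K) : ∃ k ∈ K, a * (k * a * k⁻¹) ∈ K ∧ a * (k * a * k⁻¹) ∉ Ct K ∧ Two (a * (k * a * k⁻¹)) ∧
      a * (k * a * k⁻¹) * (a * (k * a * k⁻¹)) ∈ Ct K := by
  obtain ⟨k, hk, h1, h2⟩ := zq hK ha hn hz
  have aa := sq_of_ord ha
  have ai : a⁻¹ = a := inv_eq_of_mul_eq_one_right aa
  have e : ⁅a, k⁆ = a * (k * a * k⁻¹) := by rw [commutatorElement_def, ai]; group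
  have cK : ⁅a, k⁆ ∈ K := mul_mem (conj_mem_of_mem_normalizer hn hk) (inv_mem hk)
  rw [e] at h1 h2 cK
  have bb : k * a * k⁻¹ * (k * a * k⁻¹) = 1 := by rw [conj_mul, aa, mul_one, mul_inv_cancel]
  obtain ⟨i, hi⟩ := exists_two_prod aa bb
  have e1 : a * (a * (k * a * k⁻¹)) * a⁻¹ = (a * (k * a * k⁻¹))⁻¹ := by
    rw [mul_inv_rev, inv_eq_of_mul_eq_one_right bb, ← mul_assoc, aa, one_mul]
  have e2 : (a * (k * a * k⁻¹)) ^ (2 * i) * k * a * ((a * (k * a * k⁻¹)) ^ (2 * i) * k)⁻¹ =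
      (a * (k * a * k⁻¹)) ^ (2 * i) * (k * a * k⁻¹) * ((a * (k * a * k⁻¹)) ^ (2 * i))⁻¹ := by group
  refine ⟨(a * (k * a * k⁻¹)) ^ (2 * i) * k, mul_mem (pow_mem cK _) hk, ?_⟩
  rw [e2]
  have e3 : a * ((a * (k * a * k⁻¹)) ^ (2 * i) * (k * a * k⁻¹) * ((a * (k * a * k⁻¹)) ^ (2 * i))⁻¹) =
      ((a * (k * a * k⁻¹)) ^ (2 * i))⁻¹ * (a * (k * a * k⁻¹)) * ((a * (k * a * k⁻¹)) ^ (2 * i))⁻¹ := by
    generalize k * a * k⁻¹ = b at e1
    calc _ = (a * (a * b) * a⁻¹) ^ (2 * i) * (a * b) * ((a * b) ^ (2 * i))⁻¹ := by rw [conj_pow]; group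
      _ = _ := by rw [e1, inv_pow]
  rw [e3] at hi ⊢
  generalize a * (k * a * k⁻¹) = c at *
  have h3 : c ^ (2 * i) ∈ Ct K := by rw [pow_mul, pow_two]; exact pow_mem h2 _
  refine ⟨mul_mem (mul_mem (inv_mem (pow_mem cK _)) cK) (inv_mem (pow_mem cK _)), ?_, hi, ?_⟩
  · rwa [mul_mem_cancel_right (inv_mem h3), mul_mem_cancel_left (inv_mem h3)]
  · have := mul_mem (mul_mem (mul_mem (mul_mem h2 (inv_mem h3)) (inv_mem h3)) (inv_mem h3)) (inv_mem h3)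
    convert this using 1; group

variable {Q Q₁ R V V₁ : Subgroup G}

theorem e4_one (f : Fr 𝒬 q Q Q₁ R V V₁) (hc : Nat.card R = q ^ 2) (ht : Tru 𝒬 R V₁) {a k : G} (ha : a ∈ Q₁)
    (a2 : orderOf a = 2) (hk : k ∈ Ct Q) (h1 : a * (k * a * k⁻¹) ∈ Ct Q) (h2 : a * (k * a * k⁻¹) ∉ Q)
    (h3 : a * (k * a * k⁻¹) * (a * (k * a * k⁻¹)) = 1) : False := by
  have mQ := f.mQ
  have mQ₁ := f.mQ₁
  have m2 := h.conj Q₁ mQ₁ k
  have kQ : cj k Q = Q := mem_normalizer_iff_cj.1 (ct_le_nm Q hk)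
  have bad2 : Bad Q (cj k Q₁) := by have := f.bad.cj k; rwa [kQ] at this
  have b2 : orderOf (k * a * k⁻¹) = 2 := (ord_conj k a).trans a2
  have hb : k * a * k⁻¹ ∈ cj k Q₁ := conj_mem_cj.2 ha
  generalize k * a * k⁻¹ = b at h1 h2 h3 b2 hb
  have ab : a * b = b * a := by
    rw [eq_inv_of_mul_eq_one_left h3, mul_inv_rev, inv_eq_of_mul_eq_one_right (sq_of_ord a2),
      inv_eq_of_mul_eq_one_right (sq_of_ord b2)]
  have ne : Q₁ ≠ cj k Q₁ := fun e => h.not_adj mQ mQ₁ f.bad (le_trans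
    (fun u hu => mem_centralizer_singleton_iff.2 (mem_centralizer_iff.1 h1 u hu))
    (h.cx_le mQ₁ (mul_mem ha (e ▸ hb)) (ord_two h3 fun e' => h2 (e' ▸ one_mem _))))
  have w12 := h.wadj_of_comm m2 ne ha hb a2 b2 ab
  have za : El (zpowers a) := fun x hx => by
    rcases bas_zp a2 hx with rfl | rfl
    exacts [one_mul _, sq_of_ord a2]
  have zb : El (zpowers b) := fun x hx => by
    rcases bas_zp b2 hx with rfl | rfl
    exacts [one_mul _, sq_of_ord b2]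
  obtain ⟨F, F1, -, F3⟩ := h.exists_pts (𝒞 := {Q, Q₁, cj k Q₁}) (X := zpowers a ⊔ zpowers b)
    (by rintro _ (rfl | rfl | rfl) <;> assumption) (by
      rintro _ (rfl | rfl | rfl) _ (rfl | rfl | rfl) e
      exacts [absurd rfl e, f.bad.1, bad2.1, h.wadj_symm mQ mQ₁ f.bad.1, absurd rfl e, w12,
        h.wadj_symm mQ m2 bad2.1, h.wadj_symm mQ₁ m2 w12, absurd rfl e])
    (za.sup zb (zpowers_le.2 (mem_centralizer_iff.2 (by
      rintro _ ⟨n, rfl⟩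
      exact ((show Commute b a from ab.symm).zpow_left n).eq)))).two (by
      intro x hx C hC
      have : zpowers a ⊔ zpowers b ≤ Nm C := by
        rcases hC with rfl | rfl | rfl
        · exact sup_le (zpowers_le.2 (h.e4_nm mQ mQ₁ f.bad ha (sq_of_ord a2)))
            (zpowers_le.2 (h.e4_nm mQ m2 bad2 hb (sq_of_ord b2)))
        · exact sup_le (zpowers_le.2 (le_normalizer ha))
            (zpowers_le.2 (h.cx_le mQ₁ ha a2 (mem_centralizer_singleton_iff.2 ab.symm)))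
        · exact sup_le (zpowers_le.2 (h.cx_le m2 hb b2 (mem_centralizer_singleton_iff.2 ab)))
            (zpowers_le.2 (le_normalizer hb))
      rwa [mem_normalizer_iff_cj.1 (this hx)])
  obtain ⟨p0, -⟩ := F1 Q (by simp)
  obtain ⟨p1, a1⟩ := F1 Q₁ (by simp)
  obtain ⟨p2, b1⟩ := F1 (cj k Q₁) (by simp)
  replace a1 := a1 a (mem_sup_left (mem_zpowers a)) ha (sq_of_ord a2)
  replace b1 := b1 b (mem_sup_right (mem_zpowers b)) hb (sq_of_ord b2)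
  have c01 := F3 Q (by simp) Q₁ (by simp)
  have c02 := F3 Q (by simp) (cj k Q₁) (by simp)
  have c12 := F3 Q₁ (by simp) (cj k Q₁) (by simp)
  generalize F Q = U at *
  generalize F Q₁ = U₁ at *
  generalize F (cj k Q₁) = U₂ at *
  have hE : El (U ⊔ U₁ ⊔ U₂) := (p0.el.sup p1.el c01).sup p2.el (sup_le c02 c12)
  obtain ⟨R', f', -⟩ := h.exists_fr mQ mQ₁ f.bad p0 p1 hE.two (sup_le (sup_le (p0.le.trans le_normalizer)
    fun x hx => h.e4_nm mQ mQ₁ f.bad (p1.le hx) (p1.el x hx)) fun x hx => h.e4_nm mQ m2 bad2 (p2.le hx) (p2.el x hx))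
    le_sup_left
  obtain ⟨e, he, r, hr, h4, h5⟩ := h.tru f f' ht
  refine h.z1 f' ((f'.syl.card_eq f.syl).trans hc) m2 bad2 p2 (le_ct_comm.1 (sup_le c02 c12)) (fun y hy => ?_)
    (fun hle => ?_) (mem_sup_left (mem_sup_right he)) hr h4 h5
  · obtain ⟨x, hx, rfl⟩ := p2.le hy
    change k * x * k⁻¹ ∈ U₂ at hy
    change k * x * k⁻¹ ∈ _
    have xx : x * x = 1 := by have := p2.el _ hy; rwa [conj_mul, conj_eq_one_iff] at this
    obtain ⟨v, hv, ho⟩ := h.exists_mul_mem mQ₁ p1 hx xx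
    have xN := h.e4_nm mQ mQ₁ f.bad hx xx
    have vN := h.e4_nm mQ mQ₁ f.bad (p1.le hv) (p1.el v hv)
    have act : ∀ u ∈ Q, v * (k * x * k⁻¹) * u * (v * (k * x * k⁻¹))⁻¹ = v * x * u * (v * x)⁻¹ := fun u hu => by
      have e1 := mem_centralizer_iff.1 hk u hu
      have e2 := mem_centralizer_iff.1 hk _ (conj_mem_of_mem_normalizer xN hu)
      calc _ = v * (k * x * k⁻¹ * (u * k) * x⁻¹ * k⁻¹) * v⁻¹ := by group
        _ = v * (k * (x * u * x⁻¹)) * k⁻¹ * v⁻¹ := by rw [e1]; group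
        _ = _ := by rw [← e2]; group
    have yy := hE _ (mul_mem (mem_sup_left (mem_sup_right hv)) (mem_sup_right hy))
    have wN := mul_mem vN xN
    have e0 : k * x * k⁻¹ = v⁻¹ * (v * (k * x * k⁻¹)) := by group
    rw [e0]
    generalize v * (k * x * k⁻¹) = y at act yy
    generalize v * x = w at act ho wN
    have w2 : w * w ∈ Ct Q := mem_centralizer_iff.2 fun u hu => by
      have : w * w * u * (w * w)⁻¹ = u := by
        calc _ = w * (w * u * w⁻¹) * w⁻¹ := by group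
          _ = y * (w * u * w⁻¹) * y⁻¹ := (act _ (conj_mem_of_mem_normalizer wN hu)).symm
          _ = y * y * u * (y * y)⁻¹ := by rw [← act u hu]; group
          _ = u := by rw [yy]; group
      exact (mul_inv_eq_iff_eq_mul.1 this).symm
    obtain ⟨m, hm⟩ := (noInv_iff.1 (noInv_opOf Q₁)).of_dvd_nat (orderOf_dvd_natCard _ ho)
    have w1 : w ∈ Ct Q := by
      have : w = (w * w) ^ (m + 1) := by
        rw [← pow_two, ← pow_mul, show 2 * (m + 1) = 2 * m + 1 + 1 by ring, pow_succ, ← hm, pow_orderOf_eq_one,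
          one_mul]
      rw [this]; exact pow_mem w2 _
    refine mul_mem (mem_sup_left (inv_mem hv)) (mem_sup_right (mem_centralizer_iff.2 fun u hu => ?_))
    have := act u (f'.syl.le hu)
    rw [← mem_centralizer_iff.1 w1 u (f'.syl.le hu), mul_inv_cancel_right] at this
    exact (mul_inv_eq_iff_eq_mul.1 this).symm
  · obtain ⟨v, hv, x, hx, rfl⟩ := (mem_sup_nm ((le_ct_comm.1 c01).trans (ct_le_nm U))).1 (hle b1)
    have e1 : a * (v * x) = v * (a * x) := by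
      rw [← mul_assoc, mem_centralizer_iff.1 (c01 hv) a a1, mul_assoc]
    rw [e1] at h1 h2
    rw [h.e4_ni mQ mQ₁ f.bad h1 (p0.le hv) (p1.le (mul_mem a1 hx)) (p1.el _ (mul_mem a1 hx)), mul_one] at h2
    exact h2 (p0.le hv)

omit h [Finite G] in
theorem e4_ord {x : G} (h1 : x * x ≠ 1) (h2 : x * x * (x * x) = 1) : orderOf x = 4 := by
  have : Fact (Nat.Prime 2) := ⟨Nat.prime_two⟩
  refine orderOf_eq_prime_pow (p := 2) (n := 1) (by rwa [pow_one, pow_two]) ?_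
  rw [show 2 ^ (1 + 1) = 2 + 2 by norm_num, pow_add, pow_two, h2]

theorem e4_sq (hQ : Q ∈ 𝒬) {a b : G} (hv : Viol 𝒬 A B a b) (hz : a * b * (a * b) ∈ Q) :
    ∃ R V V₁ V₃, Sq 𝒬 q Q A B R V V₁ V₃ ∧ a ∈ V₁ ∧ b ∈ V₃ := by
  obtain ⟨Q', R, V, V₁, V₃, s, ha, hb⟩ := h.viol_sq hv
  have e : ⁅a, b⁆ = a * b * (a * b) := by
    rw [commutatorElement_def, inv_eq_of_mul_eq_one_right (sq_of_ord hv.oa),
      inv_eq_of_mul_eq_one_right (sq_of_ord hv.ob), mul_assoc (a * b)]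
  have h1 := s.comm a ha b hb
  obtain rfl : Q' = Q := h.eq_of_mem s.f₁.mQ hQ (s.f₁.pt.le h1) (e ▸ hz) (two_of_sq (s.f₁.pt.el _ h1))
    (s.ne a ha b hb (ne_one_of_ord hv.oa) (ne_one_of_ord hv.ob))
  exact ⟨R, V, V₁, V₃, s, ha, hb⟩

theorem e4_two (f : Fr 𝒬 q Q Q₁ R V V₁) {a k : G} (ha : a ∈ Q₁)
    (a2 : orderOf a = 2) (h1 : a * (k * a * k⁻¹) ∈ Ct Q) (h2 : a * (k * a * k⁻¹) ∉ Q)
    (h3 : a * (k * a * k⁻¹) * (a * (k * a * k⁻¹)) ∈ Q) (h4 : orderOf (a * (k * a * k⁻¹)) = 4) : False := by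
  obtain ⟨R', V', U₁, U₃, s, a1, b1⟩ := h.e4_sq f.mQ
    ⟨f.mQ₁, h.conj Q₁ f.mQ₁ k, ha, conj_mem_cj.2 ha, a2, (ord_conj k a).trans a2, h4⟩ h3
  have := h.sq_le s b1
  rw [sup_comm] at this
  obtain ⟨r, hr, x, hx, e⟩ := (mem_sup_nm s.f₁.nrm).1 this
  have e1 : a * (k * a * k⁻¹) = a * r * a⁻¹ * (a * x) := by rw [e]; group
  have h5 := s.f₁.syl.le (conj_mem_of_mem_normalizer (s.f₁.nrm a1) hr)
  rw [e1] at h1 h2
  rw [h.e4_ni f.mQ f.mQ₁ f.bad h1 h5 (s.f₁.pt₁.le (mul_mem a1 hx)) (s.f₁.pt₁.el _ (mul_mem a1 hx)), mul_one] at h2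
  exact h2 h5

theorem e4_ct (f : Fr 𝒬 q Q Q₁ R V V₁) (hc : Nat.card R = q ^ 2) {p : G} (hp : p ∈ V) (h1 : p ≠ 1)
    (h2 : p ∈ Ct Q) {C U : Subgroup G} (hC : C ∈ 𝒬) (hU : Pt q C U) {x : G} (hx : x ∈ C) (xx : x * x = 1) :
    x ∈ U := by
  obtain ⟨R', e⟩ := (h.gd f).ge
  have f' : Fr 𝒬 q Q Q₁ R' V V₁ := ⟨f.mQ, f.mQ₁, f.bad, e.syl, f.pt, e.gr.le, f.pt₁, e.gr.nrm⟩
  have h3 : R' ⊓ Nm (V ⊔ V₁) = R' := inf_eq_left.2 fun r hr => by
    by_cases k : r ∈ V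
    · exact le_normalizer (mem_sup_left k)
    · exact (h.ela f' hr k).nrm
  have h4 : V ≤ Ct Q := fun v hv => by
    by_cases k : v = 1
    · rw [k]; exact one_mem _
    obtain ⟨m, hm, rfl⟩ := e.trP (by rw [h3, e.syl.card_eq f.syl, hc, f.pt₁.card]) p hp v hv h1 k
    exact conj_mem_of_mem_normalizer (gd1_nm_ct hm.1.1.1) h2
  obtain ⟨g, rfl⟩ := h.trans Q f.mQ C hC
  have h5 : cj g V ≤ Ct (cj g Q) := by rw [Ct, ← cj_centralizer]; exact cj_mono g h4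
  obtain rfl : cj g V = U := h.pt_eq hC (f.pt.cj g) hU
    (h5.trans ((centralizer_le hU.le).trans (ct_le_nm U)))
  exact h.mem_pt hC hU hx xx (ct_le_nm _ (le_ct_comm.1 h5 hx))

theorem e4_three (f : Fr 𝒬 q Q Q₁ R V V₁) (hc : Nat.card R = q ^ 2) {K : Subgroup G} (hK : K ≤ Ct Q)
    (hN : Nm Q ≤ Nm K) {a σ : G} (ha : a ∈ Q₁) (a2 : orderOf a = 2) (h1 : σ ∈ K) (h2 : Two σ)
    (h3 : σ * σ ∈ Q) (h4 : σ * σ * (σ * σ) ≠ 1) (h5 : a * σ * a⁻¹ = σ⁻¹) : False := by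
  have zC : σ * σ ∈ Ct Q := hK (mul_mem h1 h1)
  have zR : ∀ {R'}, IsSylowIn 2 R' Q → σ * σ ∈ R' := fun {R'} hR' =>
    mem_of_central hR' h3 (h2.mul h2 rfl) (ct_le_nm R' (centralizer_le hR'.le zC))
  have pV := (h.pt_syl f.mQ f.pt f.syl (f.le.trans le_normalizer)).2.2.2 _ (zR f.syl)
  have aa := sq_of_ord a2
  have e1 : a * (σ⁻¹ * a * σ⁻¹⁻¹) = σ * σ := by
    calc _ = (a * σ * a⁻¹)⁻¹ * (a * a) * σ := by group
      _ = _ := by rw [h5, aa]; group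
  obtain ⟨R', V', U₁, U₃, s, -, -⟩ := h.e4_sq (a := a) (b := σ⁻¹ * a * σ⁻¹⁻¹) f.mQ
    ⟨f.mQ₁, h.conj Q₁ f.mQ₁ σ⁻¹, ha, conj_mem_cj.2 ha, a2, (ord_conj _ a).trans a2,
      by rw [e1]; exact e4_ord h4 (f.pt.el _ pV)⟩ (by rw [e1]; exact mul_mem h3 h3)
  have key : ∀ x ∈ U₁, x ≠ 1 → x * (σ * σ) * x⁻¹ = (σ * σ)⁻¹ := fun x hx x1 => by
    have xx := s.f₁.pt₁.el x hx
    have yy : σ⁻¹ * x * σ⁻¹⁻¹ * (σ⁻¹ * x * σ⁻¹⁻¹) = 1 := by rw [conj_mul, xx]; group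
    have := h.sq_le s (h.e4_ct f hc pV h4 (mul_mem zC zC) s.f₃.mQ₁ s.f₃.pt₁
      (conj_mem_cj.2 (s.f₁.pt₁.le hx)) yy)
    rw [sup_comm] at this
    obtain ⟨r, hr, x₀, hx₀, e⟩ := (mem_sup_nm s.f₁.nrm).1 this
    have xi : x⁻¹ = x := inv_eq_of_mul_eq_one_right xx
    have h6 : r * (x₀ * x) ∈ Ct Q := by
      have := hK (mul_mem (inv_mem h1) (conj_mem_of_mem_normalizer
        (hN (h.e4_nm f.mQ f.mQ₁ f.bad (s.f₁.pt₁.le hx) xx)) h1))
      rw [xi] at this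
      rw [← mul_assoc, ← e]
      convert this using 1; group
    have h7 := h.e4_ni f.mQ f.mQ₁ f.bad h6 (s.f₁.syl.le hr) (s.f₁.pt₁.le (mul_mem hx₀ hx))
      (s.f₁.pt₁.el _ (mul_mem hx₀ hx))
    obtain rfl : x₀ = x := by rw [eq_inv_of_mul_eq_one_left h7, xi]
    rw [e] at yy
    have c : Commute r σ := mem_centralizer_iff.1 (hK h1) r (s.f₁.syl.le hr)
    have e2 : (σ * σ)⁻¹ * x₀ * (σ * σ) = r * r * x₀ := by
      calc _ = σ⁻¹ * (σ⁻¹ * x₀ * σ⁻¹⁻¹) * σ := by group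
        _ = (σ⁻¹ * r) * x₀ * σ := by rw [e]; group
        _ = r * (σ⁻¹ * x₀ * σ⁻¹⁻¹) := by rw [← c.inv_right.eq]; group
        _ = _ := by rw [e, mul_assoc]
    have e3 : r * x₀ * r = x₀ := by
      calc _ = r * x₀ * (r * x₀) * x₀⁻¹ := by group
        _ = _ := by rw [yy, one_mul, xi]
    have h8 := (s.f₁.bad.2 x₀ (s.f₁.pt₁.le hx) (ord_two xx x1) R' s.f₁.syl (s.f₁.nrm hx) _
      (mul_mem (inv_mem hr) (inv_mem (zR s.f₁.syl)))).2 (by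
        calc _ = r⁻¹ * ((σ * σ)⁻¹ * x₀ * (σ * σ)) * (σ * σ)⁻¹ := by group
          _ = (r * x₀ * r) * (r⁻¹ * (σ * σ)⁻¹) := by rw [e2]; group
          _ = _ := by rw [e3])
    have c2 : Commute r⁻¹ (σ * σ)⁻¹ := (c.mul_right c).inv_inv
    have e4 : r * r = (σ * σ)⁻¹ * (σ * σ)⁻¹ := by
      rw [mul_assoc, ← mul_assoc (σ * σ)⁻¹, ← c2.eq] at h8
      calc r * r = r * r * (r⁻¹ * (r⁻¹ * (σ * σ)⁻¹ * (σ * σ)⁻¹)) := by rw [h8, mul_one]
        _ = _ := by group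
    calc _ = (σ * σ) * ((σ * σ)⁻¹ * x₀ * (σ * σ)) * x₀⁻¹ := by group
      _ = _ := by rw [e2, e4]; group
  obtain ⟨x, hx, y, hy, x2, y2, xy, -⟩ := s.f₁.pt₁.el.rk2 (s.f₁.pt₁.card ▸ h.four)
  have h6 := key _ (mul_mem hx hy) fun e => xy (by
    rw [eq_inv_of_mul_eq_one_left e, inv_eq_of_mul_eq_one_right (sq_of_ord y2)])
  refine h4 (mul_eq_one_iff_eq_inv.2 (h6.symm.trans ?_).symm)
  calc _ = x * (y * (σ * σ) * y⁻¹) * x⁻¹ := by group
    _ = (x * (σ * σ) * x⁻¹)⁻¹ := by rw [key y hy (ne_one_of_ord y2)]; group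
    _ = _ := by rw [key x hx (ne_one_of_ord x2), inv_inv]

theorem noViol (hK : HasK 𝒬) : NoViol 𝒬 := by
  intro A B a b hv
  obtain ⟨Q, R, V, V₁, V₃, s, ha, hb⟩ := h.viol_sq hv
  have f := s.f₁
  have hc := h.sq_card s
  have ht : Tru 𝒬 R V₁ := by
    have := h.sq_le s hb
    rw [sup_comm] at this
    obtain ⟨r, hr, x, hx, e⟩ := (mem_sup_nm f.nrm).1 this
    refine ⟨x, hx, x⁻¹ * r * x, conj_mem_of_mem_normalizer' (f.nrm hx) hr, fun k => ?_,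
      by rw [show x * (x⁻¹ * r * x) = b by rw [e]; group]; exact ⟨hv.ob, B, hv.mB, hv.mb⟩⟩
    have h1 : r * r = 1 := by
      calc r * r = x * (x⁻¹ * r * x * (x⁻¹ * r * x)) * x⁻¹ := by group
        _ = 1 := by rw [k]; group
    have h2 := ((h.tb f).om r hr).1 h1
    refine s.ne a ha b hb (ne_one_of_ord hv.oa) (ne_one_of_ord hv.ob) (commutatorElement_eq_one_iff_mul_comm.2 ?_)
    exact (f.pt.el.sup f.pt₁.el (h.tb f).gr.cent).ab _ (mem_sup_right ha) _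
      (e ▸ mul_mem (mem_sup_left h2) (mem_sup_right hx))
  obtain ⟨K, hK1, rfl, hN⟩ := hK Q f.mQ
  have kC : K ≤ Ct (Ct K) := le_ct_comm.1 le_rfl
  obtain ⟨k, hk, h1, h2, h3, h4⟩ := e4_sigma hK1 hv.oa (hN (h.e4_nm f.mQ f.mQ₁ f.bad hv.ma (sq_of_ord hv.oa)))
    fun e => f.bad.1.1 (h.eq_of_mem f.mQ f.mQ₁ e hv.ma (two_of_sq (sq_of_ord hv.oa)) (ne_one_of_ord hv.oa))
  by_cases c1 : a * (k * a * k⁻¹) * (a * (k * a * k⁻¹)) = 1
  · exact h.e4_one f hc ht hv.ma hv.oa (kC hk) (kC h1) h2 c1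
  by_cases c2 : a * (k * a * k⁻¹) * (a * (k * a * k⁻¹)) * (a * (k * a * k⁻¹) * (a * (k * a * k⁻¹))) = 1
  · exact h.e4_two f hv.ma hv.oa (kC h1) h2 h4 (e4_ord c1 c2)
  refine h.e4_three f hc kC hN hv.ma hv.oa h1 h3 h4 c2 ?_
  have aa := sq_of_ord hv.oa
  calc _ = (a * a) * k * (a * a) * a⁻¹ * k⁻¹ * a⁻¹ := by group
    _ = _ := by rw [aa]; group

end EG

end CfsgLib.ACT
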