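import Cfsg.Agent.Lib.ACT.Defs3
import Cfsg.Agent.Lib.ACT.GRa
import Cfsg.Agent.Lib.ACT.LL
import Cfsg.Agent.Lib.ACT.QS2

/-! Solvability lemmas when `O(Q) = 1`. See `plans/COMP.md`. -/

set_option autoImplicit false

namespace CfsgLib.ACT

open Subgroup Cfsg CfsgLib.Tech CfsgLib.PComp
open CfsgLib.LBal (RC)
open scoped commutatorElement

universe u

variable {G : Type u} [Group G] [Finite G]

/-- `lq` for an arbitrary strongly closed abelian subgroup -/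
theorem lq2 {L S B : Subgroup G} (hL : IsQuasisimple L) (hS : IsSylowIn 2 S L) (hB : B ≤ S)
    (ha : Ab B) (hsc : ∀ b ∈ B, ∀ g ∈ L, g * b * g⁻¹ ∈ S → g * b * g⁻¹ ∈ B) (hz : ¬ B ≤ Ct L) {x : G}
    (h2 : Two x) (hn : x ∈ Nm L) (h1 : ∀ s ∈ S, ⁅x, s⁆ ∈ B ⊔ Ct L) (h0 : ∀ b ∈ B, ⁅x, b⁆ ∈ Ct L) :
    ∃ s ∈ S, s⁻¹ * x ∈ Ct L := by
  obtain ⟨h3, h4⟩ := qs_gt hL hS hB (fun a k b k' => by
    rw [commutatorElement_eq_one_iff_mul_comm.2 (ha a k b k')]
    exact one_mem _) hz hsc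
  obtain ⟨k, hk⟩ := qa_pow hn h2
  obtain ⟨_, ⟨s, hs, rfl⟩, e⟩ := h3.inner (sylq hS) hk (by
    rintro _ ⟨r, hr, rfl⟩
    obtain ⟨p, hp, c, hc', e⟩ := (mem_sup_nm ((centralizer_le (hB.trans hS.le)).trans
      (ct_le_nm B))).1 (h1 r hr)
    rw [← h4, qa_pq, ← map_inv, ← map_mul]
    refine ⟨⟨p, hS.le (hB hp)⟩, hp, (pq_eq.2 ?_).symm⟩
    change ⁅x, (r : G)⁆ * p⁻¹ ∈ Ct L
    rw [e]
    exact conj_mem_of_mem_normalizer (qs_nm_ct L (le_normalizer (hS.le (hB hp)))) hc') (by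
      rw [← h4]
      rintro _ ⟨p, hp, rfl⟩
      exact (qa_pq_eq hn p).2 (h0 p hp))
  exact ⟨s, hs, qs_ct_of_inner hL hn e⟩

namespace SV

variable {Q R L M N S : Subgroup G}

theorem syl_rc (hR : IsSylowIn 2 R Q) (hL : RC L Q) : IsSylowIn 2 (R ⊓ L) L :=
  SubnIn.induction_on (P := fun A => IsSylowIn 2 (R ⊓ A) A) (by rwa [inf_eq_left.2 hR.le])
    (fun A B h1 _ h3 h4 => by simpa only [inf_assoc, inf_eq_right.2 h1] using h4.inf_of_le_normalizer h3) hL.1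

omit [Finite G] in
theorem rc_cj (hL : RC L Q) {g : G} (hg : g ∈ Nm Q) : RC (cj g L) Q := by
  have := hL.conj g
  rwa [show Q.map (MulAut.conj g).toMonoidHom = Q from mem_normalizer_iff_cj.1 hg] at this

/-- An element which moves a component moves it into its centraliser. -/
theorem mv (hL : RC L Q) {g : G} (hg : g ∈ Nm Q) (hn : g ∉ Nm L) {l : G} (hl : l ∈ L) : g * l * g⁻¹ ∈ Ct L :=
  (rc_cj hL hg).le_centralizer hL (fun e => hn (mem_normalizer_iff_cj.2 e)) (conj_mem_cj.2 hl)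

theorem nm_of_fix (hL : RC L Q) {g s : G} (hg : g ∈ Nm Q) (hs : s ∈ L) (hz : s ∉ Ct L) (h : g * s = s * g) :
    g ∈ Nm L := by
  by_contra hn
  exact hz (by simpa only [h, mul_inv_cancel_right] using mv hL hg hn hs)

omit [Finite G] in
theorem comm_ct {s s' x y : G} (hs : s ∈ L) (hs' : s' ∈ L) (hc : s * s' = s' * s) (hx : s⁻¹ * x ∈ Ct L)
    (hy : s'⁻¹ * y ∈ Ct L) : ⁅x, y⁆ ∈ Ct L := by
  obtain ⟨c, rfl⟩ : ∃ c, x = s * c := ⟨s⁻¹ * x, by group⟩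
  obtain ⟨d, rfl⟩ : ∃ d, y = s' * d := ⟨s'⁻¹ * y, by group⟩
  rw [inv_mul_cancel_left] at hx hy
  have h1 : Commute s (s' * d) := Commute.mul_right hc (mem_centralizer_iff.1 hy s hs)
  have h2 : Commute s' c := mem_centralizer_iff.1 hx s' hs'
  have h3 : ⁅c, d⁆ ∈ Ct L := mul_mem (mul_mem (mul_mem hx hy) (inv_mem hx)) (inv_mem hy)
  have e : ⁅s * c, s' * d⁆ = s * s' * ⁅c, d⁆ * (s * s')⁻¹ := by
    calc ⁅s * c, s' * d⁆ = s * (c * s') * d * c⁻¹ * (s' * d * s)⁻¹ := by rw [commutatorElement_def]; group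
      _ = s * (s' * c) * d * c⁻¹ * (s * (s' * d))⁻¹ := by rw [h1.eq, h2.eq]
      _ = _ := by rw [commutatorElement_def]; group
  rw [e]
  exact conj_mem_of_mem_normalizer (qs_nm_ct L (le_normalizer (mul_mem hs hs'))) h3

theorem solv_ext (hn : M ≤ Nm N) (hN : Group.IsSolvable N) (hS : IsSylowIn 2 S M) (h : S ≤ N) :
    Group.IsSolvable M := by
  have := normal_subgroupOf_of_le_normalizer hn
  refine (Group.isSolvable_iff_subgroup_quotient (N.subgroupOf M)).2 ⟨?_, FT.odd_order_solvable ?_⟩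
  · exact Group.isSolvable_of_isSolvable_injective (f := (M.subtype.comp (N.subgroupOf M).subtype).codRestrict N
      fun x => x.2) fun x y e => Subtype.ext (Subtype.ext (congrArg (fun z : N => (z : G)) e))
  · exact Nat.not_even_iff_odd.1 fun e => hS.not_dvd ((even_iff_two_dvd.1 e).trans (relIndex_dvd_of_le_left M h))

theorem solv_of_perf (h : ∀ M ≤ Q, Q ≤ Nm M → ⁅M, M⁆ = M → Group.IsSolvable M) : Group.IsSolvable Q := by
  have : ∃ n, ⁅derivedSeries Q n, derivedSeries Q n⁆ = derivedSeries Q n := by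
    by_contra! h
    exact (RelEmbedding.natGT (derivedSeries Q) fun n =>
      lt_of_le_of_ne (commutator_le_left _ _) (h n)).not_wellFounded wellFounded_lt
  obtain ⟨n, hn⟩ := this
  have h1 : ⁅(derivedSeries Q n).map Q.subtype, (derivedSeries Q n).map Q.subtype⁆ =
      (derivedSeries Q n).map Q.subtype := by
    rw [← map_commutator, hn]
  exact ⟨n, (map_eq_bot_iff_of_injective _ Q.subtype_injective).1 (Comp.eq_bot_of_perfect_of_solvable h1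
    (h _ (map_subtype_le _) (fun g hg => le_normalizer_map _ ⟨⟨g, hg⟩, (normalizer_eq_top _).ge trivial, rfl⟩) h1))⟩

/-- The stabiliser of the chain `O ≥ B ≥ 1` is a normal 2-subgroup. -/
theorem exists_Y {O B : Subgroup G} (hO : IsPGroup 2 O) (hle : O ≤ Q) (hn : Q ≤ Nm O) (hc : Q ⊓ Ct O ≤ O)
    (hB : B ≤ O) (hBn : Q ≤ Nm B) : ∃ Y : Subgroup G, IsPGroup 2 Y ∧ Y ≤ Q ∧ Q ≤ Nm Y ∧
      ∀ g ∈ Q, g ∈ Ct B → (∀ o ∈ O, ⁅g, o⁆ ∈ B) → g ∈ Y := by
  let Y : Subgroup G :=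
    { carrier := {g | g ∈ Q ∧ g ∈ Ct B ∧ ∀ o ∈ O, ⁅g, o⁆ ∈ B}
      one_mem' := ⟨one_mem _, one_mem _, fun o _ => by simp⟩
      mul_mem' := fun {g h} hg hh => ⟨mul_mem hg.1 hh.1, mul_mem hg.2.1 hh.2.1, fun o ho => by
        rw [show ⁅g * h, o⁆ = g * ⁅h, o⁆ * g⁻¹ * ⁅g, o⁆ by simp only [commutatorElement_def]; group]
        exact mul_mem (conj_mem_of_mem_normalizer (hBn hg.1) (hh.2.2 o ho)) (hg.2.2 o ho)⟩
      inv_mem' := fun {g} hg => ⟨inv_mem hg.1, inv_mem hg.2.1, fun o ho => by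
        rw [show ⁅g⁻¹, o⁆ = g⁻¹ * ⁅g, o⁆⁻¹ * g by simp only [commutatorElement_def]; group]
        exact conj_mem_of_mem_normalizer' (hBn hg.1) (inv_mem (hg.2.2 o ho))⟩ }
  refine ⟨Y, isPGroup_iff_mem.2 fun g hg => ?_, fun g hg => hg.1, fun q hq => mem_normalizer_of_forall fun g hg =>
    ⟨mul_mem (mul_mem hq hg.1) (inv_mem hq), conj_mem_of_mem_normalizer (qs_nm_ct B (hBn hq)) hg.2.1,
      fun o ho => ?_⟩, fun g h1 h2 h3 => ⟨h1, h2, h3⟩⟩
  · obtain ⟨k, hk⟩ := hO.exists_card_eq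
    have pw : ∀ x ∈ O, x ^ 2 ^ k = 1 := fun x hx =>
      hk ▸ congrArg Subtype.val (pow_card_eq_one' (x := (⟨x, hx⟩ : O)))
    have h1 : g ^ 2 ^ k ∈ O := hc ⟨pow_mem hg.1 _, mem_centralizer_iff.2 fun o ho => by
      have hb : o⁻¹ * ⁅g, o⁆ * o ∈ B := conj_mem_of_mem_normalizer' (hBn (hle ho)) (hg.2.2 o ho)
      have := DihSyl.pow_conj_eq (g := g) (t := o) (c := o⁻¹ * ⁅g, o⁆ * o)
        (by rw [commutatorElement_def]; group)
        (mul_inv_eq_iff_eq_mul.2 (mem_centralizer_iff.1 hg.2.1 _ hb).symm) (2 ^ k)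
      rw [pw _ (hB hb), mul_one] at this
      exact (mul_inv_eq_iff_eq_mul.1 this).symm⟩
    exact ⟨k + k, by rw [pow_add, pow_mul, pw _ h1]⟩
  · rw [show ⁅q * g * q⁻¹, o⁆ = q * ⁅g, q⁻¹ * o * q⁆ * q⁻¹ by simp only [commutatorElement_def]; group]
    exact conj_mem_of_mem_normalizer (hBn hq) (hg.2.2 _ (conj_mem_of_mem_normalizer' (hn hq) ho))

omit [Finite G] in
theorem abz (h : Ab S) : AbZ L S := fun s hs s' hs' => by
  rw [commutatorElement_eq_one_iff_mul_comm.2 (h s hs s' hs')]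
  exact one_mem _

omit [Finite G] in
theorem comm_one {x s : G} (h : x * s = s * x) : ⁅x, s⁆ ∈ Ct L := by
  rw [commutatorElement_eq_one_iff_mul_comm.2 h]
  exact one_mem _

end SV

open SV

variable {Q R P T : Subgroup G} (hO : opOf 2 Q = ⊥)
include hO

theorem exists_o2 (h : ∀ L, ¬ RC L Q) :
    ∃ O : Subgroup G, IsPGroup 2 O ∧ O ≤ Q ∧ Q ≤ Nm O ∧ Q ⊓ Ct O ≤ O := by
  have h1 : Comp.layerOf Q = ⊥ := eq_bot_iff.2 (Comp.map_layer_subtype_le_iff.2 fun K k1 k2 =>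
    (h K (LBal.rc_iff.2 ⟨k1, k2⟩)).elim)
  have h2 : Comp.fitOf Q = Comp.pCoreIn 2 Q := by rw [Comp.fitOf_eq_sup (p := 2), hO, bot_inf_eq, sup_bot_eq]
  have h3 := Comp.inf_centralizer_fstarOf_le Q
  rw [Comp.fstarOf_eq, h1, bot_sup_eq, h2] at h3
  exact ⟨_, (Core.isPGroup_pCore 2 Q).map _, map_subtype_le _, Comp.le_normalizer_pCoreIn 2 Q, h3⟩

theorem noInv_center {L : Subgroup G} (hL : RC L Q) (h : NoInv (L ⊓ Ct L)) : L ⊓ Ct L = ⊥ :=
  eq_bot_iff.2 (hO ▸ (SubnIn.step inf_le_left (fun _ hg => bas_nm_inf (le_normalizer hg)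
    (qs_nm_ct L (le_normalizer hg))) hL.1).le_opOf (Nat.coprime_two_right.2 (noInv_iff.1 h)))

theorem SV.z_one {L : Subgroup G} (hR : IsSylowIn 2 R Q) (hL : RC L Q) (ha : Ab (R ⊓ L)) {x : G} (hx : x ∈ L)
    (hc : x ∈ Ct L) : x = 1 :=
  mem_bot.1 ((noInv_center hO hL (zab (qs_perfect hL.2) (syl_rc hR hL) ha)).le ⟨hx, hc⟩)

theorem solv_of_noComp (hR : IsSylowIn 2 R Q) (ha : Ab R) (h : ∀ L, ¬ RC L Q) :
    Group.IsSolvable Q := by
  obtain ⟨O, h1, h2, h3, h4⟩ := exists_o2 hO h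
  have h5 := hR.le_of_le_normalizer h1 h2 h3
  exact solv_ext h3 (Coprime.isSolvable_of_isPGroup h1) hR fun r hr =>
    h4 ⟨hR.le hr, mem_centralizer_iff.2 fun o ho => ha o (h5 ho) r hr⟩

theorem solvE0 (hR : IsSylowIn 2 R Q) (hn : T ≤ Nm Q) (h : GR R P T) (hE : El R) (hT : El T)
    (h4 : 4 ≤ Nat.card T) (hne : P ≠ R) : Group.IsSolvable Q := by
  refine solv_of_noComp hO hR hE.ab fun L hL => ?_
  have hS := syl_rc hR hL
  have ab : Ab (R ⊓ L) := fun a ha b hb => hE.ab a ha.1 b hb.1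
  have z1 := fun x => z_one hO hR hL ab (x := x)
  obtain ⟨s, hs, hz⟩ := SetLike.not_le_iff_exists.1 (qs_syl_not_le hL.2 hS)
  have fx : ∀ t ∈ T, t ≠ 1 → ∀ r ∈ R, r * t = t * r → r ∈ P := fun t ht h1 => h.fix t ht (ord_two (hT t ht) h1)
  have cen : ∀ p ∈ P, ∀ t ∈ T, t * p = p * t := fun p hp t ht => mem_centralizer_iff.1 (h.cent hp) t ht
  have TL : T ≤ Nm L := fun t ht => by
    by_contra hm
    have t1 : t ≠ 1 := fun e => hm (e ▸ one_mem _)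
    have sR := conj_mem_of_mem_normalizer (h.nrm ht) hs.1
    have hp : s * (t * s * t⁻¹) ∈ P := fx t ht t1 _ (mul_mem hs.1 sR) (by
      calc s * (t * s * t⁻¹) * t = t * t * (s * t * s) * (t * t)⁻¹ := by rw [hT t ht]; group
        _ = t * (t * s * t⁻¹ * (t * t) * s) * (t * t)⁻¹ := by group
        _ = _ := by rw [hT t ht, mul_one, inv_one, mul_one, hE.ab _ hs.1 _ sR])
    have key : ∀ u ∈ T, s * (t * s * t⁻¹) = u * s * u⁻¹ * (t * (u * s * u⁻¹) * t⁻¹) := fun u hu => by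
      calc s * (t * s * t⁻¹) = u * (s * (t * s * t⁻¹)) * u⁻¹ := by rw [cen _ hp u hu, mul_inv_cancel_right]
        _ = u * s * u⁻¹ * (u * t * s * (u * t)⁻¹) := by group
        _ = _ := by rw [hT.ab u hu t ht]; group
    obtain ⟨u, hu, u1, un⟩ : ∃ u ∈ T, u ≠ 1 ∧ u ∈ Nm L := by
      obtain ⟨u, hu, u1, ut, -⟩ := qs_three h4 t⁻¹ 1
      by_contra! hc
      have k1 := mv hL (hn hu) (hc u hu u1) hs.2
      have k2 := mv hL (hn (mul_mem ht hu)) (hc _ (mul_mem ht hu) fun e => ut (eq_inv_of_mul_eq_one_right e)) hs.2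
      have k3 := mul_mem k1 k2
      rw [show t * u * s * (t * u)⁻¹ = t * (u * s * u⁻¹) * t⁻¹ by group, ← key u hu] at k3
      exact hz ((mul_mem_cancel_right (mv hL (hn ht) hm hs.2)).1 k3)
    have k1 := conj_mem_of_mem_normalizer un hs.2
    have k2 : (u * s * u⁻¹)⁻¹ * s = 1 := z1 _ (mul_mem (inv_mem k1) hs.2) (by
      have := mul_mem (mv hL (hn ht) hm k1) (inv_mem (mv hL (hn ht) hm hs.2))
      rwa [show t * (u * s * u⁻¹) * t⁻¹ = (u * s * u⁻¹)⁻¹ * (s * (t * s * t⁻¹)) by rw [key u hu]; group,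
        mul_assoc, mul_inv_cancel_right] at this)
    exact hm (nm_of_fix hL (hn ht) hs.2 hz (cen s (fx u hu u1 s hs.1
      (mul_inv_eq_iff_eq_mul.1 (inv_mul_eq_one.1 k2)).symm) t ht))
  have SP : R ⊓ L ≤ P := fg hL.2 hS (abz ab) hT h4 TL (fun t ht => bas_nm_inf (h.nrm ht) (TL ht))
    fun t ht t1 x hx => ⟨fun k => fx t ht t1 x hx.1 (commutatorElement_eq_one_iff_mul_comm.1 (z1 _ (by
      rw [commutatorElement_def, mul_assoc, mul_assoc, ← mul_assoc t]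
      exact mul_mem hx.2 (conj_mem_of_mem_normalizer (TL ht) (inv_mem hx.2))) k)),
      fun k => comm_one (cen x k t ht).symm⟩
  obtain ⟨r, hr, -, -, -, -, -, hsur, -⟩ := h.step hne
  obtain ⟨t, ht, e⟩ := hsur s (SP hs)
  obtain ⟨a, ha, ea⟩ := inn hL.2 hS (abz ab) (two_of_mem hR.pgroup hr)
    (nm_of_fix hL (le_normalizer (hR.le hr)) hs.2 hz (hE.ab r hr s hs.1)) fun x hx => comm_one (hE.ab r hr x hx.1)
  obtain ⟨b, hb, eb⟩ := inn hL.2 hS (abz ab) (two_of_sq (hT t ht)) (TL ht) fun x hx => comm_one (cen x (SP hx) t ht)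
  exact hz (e ▸ comm_ct ha.2 hb.2 (ab a ha b hb) ea eb)

theorem solvB0 (hR : IsSylowIn 2 R Q) (hn : T ≤ Nm Q) (h : TB R P T) : Q ≤ Nm R := by
  have cen : ∀ r ∈ R, ∀ p ∈ P, p * r = r * p := fun r hr => mem_centralizer_iff.1 (h.cen hr)
  have RR : ∀ r ∈ R, ∀ r' ∈ R, ⁅r, r'⁆ ∈ P := fun r hr r' hr' => by
    rw [show ⁅r, r'⁆ = r * r' * (r * r') * (r'⁻¹ * ((r * r)⁻¹ * r')) * (r' * r')⁻¹ by
      rw [commutatorElement_def]; group, cen r' hr' _ (inv_mem (h.sq r hr)), inv_mul_cancel_left]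
    exact mul_mem (mul_mem (h.sq _ (mul_mem hr hr')) (inv_mem (h.sq r hr))) (inv_mem (h.sq r' hr'))
  have nc : ∀ L, ¬ RC L Q := fun L hL => by
    have hS := syl_rc hR hL
    obtain ⟨s, hs, hz⟩ := SetLike.not_le_iff_exists.1 (qs_syl_not_le hL.2 hS)
    have key : ∀ x ∈ Nm Q, Two x → x ∈ Ct P → (∀ r ∈ R, ⁅x, r⁆ ∈ P) → ∃ a ∈ R ⊓ L, a⁻¹ * x ∈ Ct L :=
      fun x hx h2 hc hm => by
      have xL : x ∈ Nm L := by
        by_contra hv
        have ab : Ab (R ⊓ L) := fun a ha b hb => by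
          have k1 : Commute b (x * a * x⁻¹) := mem_centralizer_iff.1 (mv hL hx hv ha.2) b hb.2
          have k2 : Commute b ⁅x, a⁆ := (cen b hb.1 _ (hm a ha.1)).symm
          have := k2.inv_right.mul_right k1
          rw [show ⁅x, a⁆⁻¹ * (x * a * x⁻¹) = a by rw [commutatorElement_def]; group] at this
          exact this.symm
        exact hv (nm_of_fix hL hx hs.2 hz (mem_centralizer_iff.1 hc s ((h.om s hs.1).1
          (z_one hO hR hL ab (mul_mem hs.2 hs.2) (sqz hL.2 hS (abz ab) s hs)))).symm)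
      have hm' : ∀ a ∈ R ⊓ L, ⁅x, a⁆ ∈ P ⊓ L := fun a ha =>
        ⟨hm a ha.1, mul_mem (conj_mem_of_mem_normalizer xL ha.2) (L.inv_mem ha.2)⟩
      by_cases hP : P ⊓ L ≤ Ct L
      · exact inn hL.2 hS (fun a ha b hb => hP ⟨RR a ha.1 b hb.1,
          L.mul_mem (L.mul_mem (L.mul_mem ha.2 hb.2) (L.inv_mem ha.2)) (L.inv_mem hb.2)⟩) h2 xL fun a ha => hP (hm' a ha)
      · exact lq (P := P ⊓ L) hL.2 hS (fun r hr => (h.om r hr.1).trans ⟨fun k => ⟨k, hr.2⟩, fun k => k.1⟩)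
          (inf_le_inf_right L h.gr.le) (fun r hr => centralizer_le inf_le_left (h.cen hr.1)) hP h2 xL
          (fun a ha => mem_sup_left (hm' a ha)) fun p hp => comm_one (mem_centralizer_iff.1 hc p hp.1).symm
    have keyT : ∀ t ∈ T, ∃ a ∈ R ⊓ L, a⁻¹ * t ∈ Ct L := fun t ht =>
      key t (hn ht) (two_of_sq (h.elT t ht)) (le_ct_comm.1 h.gr.cent ht) fun r hr => by
        rw [← commutatorElement_inv]; exact inv_mem (h.comm r hr t ht)
    have SP : R ⊓ L ≤ P := fun b hb => by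
      obtain ⟨t, ht, t1, -⟩ := qs_three h.four 1 1
      obtain ⟨a, ha, e⟩ := keyT t ht
      have fx := h.gr.fix t ht (ord_two (h.elT t ht) t1)
      have k : ∀ y ∈ R ⊓ L, y * a = a * y → y ∈ P := fun y hy c => fx y hy.1 (by
        have := (show Commute y a from c).mul_right (show Commute y (a⁻¹ * t) from mem_centralizer_iff.1 e y hy.2)
        rwa [mul_inv_cancel_left] at this)
      exact k b hb (cen b hb.1 a (k a ha rfl)).symm
    obtain ⟨r, hr, rP⟩ := SetLike.not_le_iff_exists.1 fun k => h.ne (le_antisymm h.gr.le k)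
    obtain ⟨t, ht, e⟩ := GRaP.phi_surj h.gr hr rP (h.comm r hr) s (SP hs)
    obtain ⟨a, ha, ea⟩ := key r (le_normalizer (hR.le hr)) (two_of_mem hR.pgroup hr) (h.cen hr) (RR r hr)
    obtain ⟨b, hb, eb⟩ := keyT t ht
    exact hz (e ▸ comm_ct ha.2 hb.2 (cen b hb.1 a (SP ha)) ea eb)
  obtain ⟨O, h1, h2, h3, h4⟩ := exists_o2 hO nc
  have h5 := hR.le_of_le_normalizer h1 h2 h3
  have h6 : P ≤ O := fun p hp =>
    h4 ⟨hR.le (h.gr.le hp), mem_centralizer_iff.2 fun o ho => (cen o (h5 ho) p hp).symm⟩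
  obtain ⟨Y, y1, y2, y3, y4⟩ := exists_Y h1 h2 h3 h4 h6 fun q hq => mem_normalizer_of_forall fun p hp =>
    (h.om _ (h5 (conj_mem_of_mem_normalizer (h3 hq) (h6 hp)))).1 (by
      rw [conj_mul, (h.om p (h.gr.le hp)).2 hp, mul_one, mul_inv_cancel])
  rwa [hR.eq_of_le y1 (fun r hr => y4 r (hR.le hr) (h.cen hr) fun o ho => RR r hr o (h5 ho)) y2] at y3

theorem solvD0 {A : Subgroup G} {x : G} (hR : IsSylowIn 2 R Q) (h : TD R A P T x) :
    Group.IsSolvable Q := by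
  have nf : ∀ a ∈ A, ∀ q ∈ Q, q * a * q⁻¹ ∈ R → q * a * q⁻¹ ∈ A := fun a ha q hq k => by
    by_contra k'
    exact h.not_fused hR _ k k' q⁻¹ (inv_mem hq) (by simpa [mul_assoc] using ha)
  have pf : ∀ M ≤ Q, ⁅M, M⁆ = M → IsSylowIn 2 (R ⊓ M) M → R ⊓ M ≤ A := fun M hM hp hS y hy => by
    by_contra k
    obtain ⟨g, hg, e⟩ := thompson_in hp hS (inf_le_inf_right M h.le)
      (fun a ha b hb na nb => ⟨h.ll_idx a ha.1 b hb.1 (fun k => na ⟨k, ha.2⟩) fun k => nb ⟨k, hb.2⟩,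
        mul_mem ha.2 hb.2⟩) hy.2 (ord_two (h.out y hy.1 k) fun e => k (e ▸ one_mem _))
    exact h.not_fused hR y hy.1 k g (hM hg) e.1
  have nc : ∀ L, ¬ RC L Q := fun L hL => by
    have hS := syl_rc hR hL
    have SA := pf L hL.le (qs_perfect hL.2) hS
    have ab : Ab (R ⊓ L) := fun a ha b hb => h.ab a (SA ha) b (SA hb)
    obtain ⟨s, hs, hz⟩ := SetLike.not_le_iff_exists.1 (qs_syl_not_le hL.2 hS)
    obtain ⟨t, -, ha, e⟩ := h.sq s ((h.om s (SA hs)).1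
      (z_one hO hR hL ab (mul_mem hs.2 hs.2) (sqz hL.2 hS (abz ab) s hs)))
    generalize ⁅x, t⁆ = a at ha e
    obtain ⟨b, hb, eb⟩ := inn hL.2 hS (abz ab) (two_of_mem hR.pgroup (h.le ha))
      (nm_of_fix hL (le_normalizer (hR.le (h.le ha))) hs.2 hz (h.ab a ha s (SA hs)))
      fun y hy => comm_one (h.ab a ha y (SA hy))
    have := mul_mem (sqz hL.2 hS (abz ab) b hb) (mul_mem eb eb)
    rw [show b * b * (b⁻¹ * a * (b⁻¹ * a)) = b * a * b⁻¹ * a by group, h.ab b (SA hb) a ha,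
      mul_inv_cancel_right, e] at this
    exact hz this
  obtain ⟨O, h1, h2, h3, h4⟩ := exists_o2 hO nc
  have h5 := hR.le_of_le_normalizer h1 h2 h3
  obtain ⟨Y, y1, -, y3, y4⟩ := exists_Y (B := O ⊓ A) h1 h2 h3 h4 inf_le_left fun q hq =>
    mem_normalizer_of_forall fun b hb => ⟨conj_mem_of_mem_normalizer (h3 hq) hb.1,
      nf b hb.2 q hq (h5 (conj_mem_of_mem_normalizer (h3 hq) hb.1))⟩
  have AY : A ≤ Y := fun a ha => y4 a (hR.le (h.le ha)) (mem_centralizer_iff.2 fun b hb => h.ab b hb.2 a ha)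
    fun o ho => ⟨mul_mem (conj_mem_of_mem_normalizer (h3 (hR.le (h.le ha))) ho) (O.inv_mem ho), by
      rw [commutatorElement_def, mul_assoc, mul_assoc, ← mul_assoc o]
      exact mul_mem ha (nf _ (inv_mem ha) o (h2 ho)
        (mul_mem (mul_mem (h5 ho) (inv_mem (h.le ha))) (inv_mem (h5 ho))))⟩
  refine solv_of_perf fun M hM hn hp => ?_
  have hS : IsSylowIn 2 (R ⊓ M) M := by simpa only [inf_eq_right.2 hM] using hR.inf_of_le_normalizer hn
  exact solv_ext (hM.trans y3) (Coprime.isSolvable_of_isPGroup y1) hS ((pf M hM hp hS).trans AY)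

theorem efull0 (hR : IsSylowIn 2 R Q) (hE : El R) (hT : El T) (hn : T ≤ Nm Q) (hc : T ≤ Ct R)
    (hcard : Nat.card T = Nat.card R) (hC : ∀ t ∈ T, t ≠ 1 → NoInv ⁅Q ⊓ Cx t, T⁆) {L : Subgroup G}
    (hL : RC L Q) :
    (∃ t ∈ T, t ≠ 1 ∧ t ∈ Ct L) ∨ ∃ z ∈ R, orderOf z = 2 ∧ Group.IsSolvable ↥(Cx z ⊓ Q) := by
  refine or_iff_not_imp_left.2 fun h0 => ?_
  have hS := syl_rc hR hL
  have ab : Ab (R ⊓ L) := fun a ha b hb => hE.ab a ha.1 b hb.1
  have z1 := fun x => z_one hO hR hL ab (x := x)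
  obtain ⟨s, hs, hz⟩ := SetLike.not_le_iff_exists.1 (qs_syl_not_le hL.2 hS)
  have cen : ∀ t ∈ T, ∀ r ∈ R, t * r = r * t := fun t ht r hr => (mem_centralizer_iff.1 (hc ht) r hr).symm
  have := fun t : T => inn hL.2 hS (abz ab) (two_of_sq (hT t t.2)) (nm_of_fix hL (hn t.2) hs.2 hz (cen t t.2 s hs.1))
    fun y hy => comm_one (cen t t.2 y hy.1)
  choose f f1 f2 using this
  have sur : ∀ r ∈ R, r ∈ L ∧ ∃ t ∈ T, r⁻¹ * t ∈ Ct L := fun r hr => by
    obtain ⟨t, e⟩ := ((Nat.bijective_iff_injective_and_card (fun t : T => (⟨f t, (f1 t).1⟩ : R))).2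
      ⟨fun t t' e => by
        by_contra k
        have e' : f t = f t' := congrArg Subtype.val e
        refine h0 ⟨_, mul_mem (inv_mem t.2) t'.2, fun e => k (Subtype.ext (inv_mul_eq_one.1 e)), ?_⟩
        simpa [e', mul_assoc] using mul_mem (inv_mem (f2 t)) (f2 t'), hcard⟩).2 ⟨r, hr⟩
    obtain rfl : f t = r := congrArg Subtype.val e
    exact ⟨(f1 t).2, t, t.2, f2 t⟩
  have QL : Q ≤ Nm L := fun q hq => by
    by_contra k
    have hL' := rc_cj hL (le_normalizer hq)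
    refine qs_syl_not_le hL'.2 (syl_rc hR hL') fun y hy => ?_
    obtain ⟨l, hl, e⟩ := hy.2
    rw [z1 y (sur y hy.1).1 (e ▸ mv hL (le_normalizer hq) k hl)]
    exact one_mem _
  have QC : Q ⊓ Ct L ≤ ⊥ := hO ▸ le_opOf_of_noInv (fun u hu o => ne_one_of_ord o (z1 u (sur u (mem_of_central hR hu.1
      (two_of_sq (sq_of_ord o)) (ct_le_nm R (centralizer_le (fun r hr => (sur r hr).1) hu.2)))).1 hu.2))
    inf_le_left fun q hq => bas_nm_inf (le_normalizer hq) (qs_nm_ct L (QL hq))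
  have act : ∀ r ∈ R, ∀ t ∈ T, r⁻¹ * t ∈ Ct L → ∀ q ∈ Q, t * q * t⁻¹ = r * q * r⁻¹ := fun r hr t ht k q hq => by
    have : r⁻¹ * t * q * (r⁻¹ * t)⁻¹ * q⁻¹ = 1 := mem_bot.1 (QC ⟨mul_mem (conj_mem_of_mem_normalizer
      (mul_mem (inv_mem (le_normalizer (hR.le hr))) (hn ht)) hq) (Q.inv_mem hq), by
        rw [mul_assoc, mul_assoc, ← mul_assoc q]
        exact mul_mem k (conj_mem_of_mem_normalizer (qs_nm_ct L (QL hq)) (inv_mem k))⟩)
    rw [← mul_inv_eq_one.1 this]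
    conv_lhs => rw [mul_inv_eq_one.1 this]
    group
  obtain ⟨t, ht, k⟩ := (sur s hs.1).2
  have hN := hC t ht fun e => hz (by simpa [e] using k)
  have e : Cx s ⊓ Q = Q ⊓ Cx t := by
    ext q
    simp only [mem_inf, mem_centralizer_singleton_iff]
    refine and_comm.trans (and_congr_right fun hq => ?_)
    rw [eq_comm, ← mul_inv_eq_iff_eq_mul, ← act s hs.1 t ht k q hq, mul_inv_eq_iff_eq_mul, eq_comm]
  refine ⟨s, hs.1, ord_two (hE s hs.1) fun e => hz (e ▸ one_mem _), e ▸ ?_⟩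
  have RC' : R ≤ Q ⊓ Cx t := fun r hr => ⟨hR.le hr, mem_centralizer_singleton_iff.2 (cen t ht r hr).symm⟩
  have CN : Q ⊓ Cx t ≤ Nm ⁅Q ⊓ Cx t, T⁆ := normalizer_commutator_ge_left _ _
  haveI := FT.odd_order_solvable (noInv_iff.1 hN)
  haveI := Coprime.isSolvable_of_isPGroup hR.pgroup
  refine solv_ext (fun c hc' => mem_normalizer_of_cj_le ?_) (Core.isSolvable_sup_of_le_normalizer (RC'.trans CN))
    (hR.of_le RC' inf_le_left) le_sup_left
  rw [cj_sup, mem_normalizer_iff_cj.1 (CN hc')]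
  refine sup_le (cj_le_iff.2 fun r hr => ?_) le_sup_right
  obtain ⟨u, hu, k'⟩ := (sur r hr).2
  rw [show c * r * c⁻¹ = c * (r * c⁻¹ * r⁻¹) * r by group, ← act r hr u hu k' _ (inv_mem hc'.1),
    show c * (u * c⁻¹ * u⁻¹) = ⁅c, u⁆ by rw [commutatorElement_def]; group]
  exact mul_mem (mem_sup_right (commutator_mem_commutator hc' hu)) (mem_sup_left hr)

end CfsgLib.ACT
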