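import Cfsg.Agent.Lib.ACT.EG4
import Cfsg.Agent.Lib.ACT.SOLV1

/-! The endgame of type (B): the contradiction. See `plans/COMP.md`. -/

set_option autoImplicit false

namespace CfsgLib.ACT

open Subgroup Cfsg CfsgLib.Tech CfsgLib.PComp
open CfsgLib.LBal (RC)
open scoped commutatorElement

universe u

variable {G : Type u} [Group G] [Finite G]

variable {𝒬 : Set (Subgroup G)}

namespace EG5

/-- generated by pairwise commuting involutions of members -/
def DG (𝒬 : Set (Subgroup G)) (F : Subgroup G) : Prop :=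
  ∃ s ⊆ DD 𝒬, (∀ x ∈ s, ∀ y ∈ s, x * y = y * x) ∧ F = closure s

variable {F : Subgroup G}

theorem comm (hc : ∀ A ∈ 𝒬, ∀ g : G, cj g A ∈ 𝒬) (hv : NoViol 𝒬) {d d' : G} (hd : d ∈ DD 𝒬) (hd' : d' ∈ DD 𝒬)
    (h2 : Two (d * d')) : d * d' = d' * d := by
  obtain ⟨k, hk⟩ := h2
  have key : d * d' * (d * d') = 1 := by
    induction k generalizing d' with
    | zero => rw [show d * d' = 1 by simpa using hk, one_mul]
    | succ k ih =>
      have e : d * (d' * d * d'⁻¹) = d * d' * (d * d') := by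
        rw [inv_eq_of_mul_eq_one_right (sq_of_ord hd'.1)]; group
      have h1 := ih (dd_conj hc hd d') (by rw [e, ← pow_two, ← pow_mul, ← pow_succ', hk])
      by_contra h3
      obtain ⟨o1, A, hA, ha⟩ := hd
      obtain ⟨o2, B, hB, hb⟩ := hd'
      refine hv A B d d' ⟨hA, hB, ha, hb, o1, o2, orderOf_eq_prime_pow (p := 2) (n := 1) (by rwa [pow_one, pow_two]) ?_⟩
      rw [show 2 ^ (1 + 1) = 2 * 2 from rfl, pow_mul, pow_two, pow_two, ← e, h1]
  rw [← inv_eq_of_mul_eq_one_right key, mul_inv_rev, inv_eq_of_mul_eq_one_right (sq_of_ord hd.1),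
    inv_eq_of_mul_eq_one_right (sq_of_ord hd'.1)]

omit [Finite G] in
theorem DG.el (hF : DG 𝒬 F) : El F := by
  obtain ⟨s, h1, h2, rfl⟩ := hF
  have ab : Ab (closure s) := fun x hx y hy => congrArg Subtype.val
    ((isMulCommutative_closure (fun x hx y hy => h2 x hx y hy)).is_comm.comm ⟨x, hx⟩ ⟨y, hy⟩)
  intro x hx
  induction hx using closure_induction with
  | mem x hx => rw [← pow_two, ← (h1 hx).1, pow_orderOf_eq_one]
  | one => exact one_mul 1
  | mul x y hx hy k k' => rw [mul_assoc, ← mul_assoc y, ← ab x hx y hy, mul_assoc, k', mul_one, k]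
  | inv x _ k => rw [← mul_inv_rev, k, inv_one]

theorem DG.conj (hc : ∀ A ∈ 𝒬, ∀ g : G, cj g A ∈ 𝒬) (hF : DG 𝒬 F) (g : G) : DG 𝒬 (cj g F) := by
  obtain ⟨s, h1, h2, rfl⟩ := hF
  refine ⟨_, ?_, ?_, MonoidHom.map_closure _ _⟩
  · rintro _ ⟨x, hx, rfl⟩
    exact dd_conj hc (h1 hx) g
  · rintro _ ⟨x, hx, rfl⟩ _ ⟨y, hy, rfl⟩
    rw [← map_mul, ← map_mul, h2 x hx y hy]

theorem DG.cent (hc : ∀ A ∈ 𝒬, ∀ g : G, cj g A ∈ 𝒬) (hv : NoViol 𝒬) (hF : DG 𝒬 F) {M Y : Subgroup G}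
    (hM : F ≤ M) (hY : IsPGroup 2 Y) (hYM : Y ≤ M) : ∃ m ∈ M, ∀ d ∈ Y, d ∈ DD 𝒬 → cj m F ≤ Cx d := by
  obtain ⟨S, hS, hYS⟩ := exists_isSylowIn_ge hY hYM
  obtain ⟨m, hm, hle⟩ := hS.exists_cj_le hF.el.two hM
  obtain ⟨s, h1, -, e⟩ := hF.conj hc m
  refine ⟨m, hm, fun d hd hd' => e ▸ (closure_le _).2 fun x hx => mem_centralizer_singleton_iff.2 ?_⟩
  exact comm hc hv (h1 hx) hd' (two_of_mem hS.pgroup (mul_mem (hle (e ▸ subset_closure hx)) (hYS hd)))

theorem DG.le_cx (hF : DG 𝒬 F) {y : G} (hy : y ∈ F) : F ≤ Cx y := fun x hx =>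
  mem_centralizer_singleton_iff.2 (hF.el.ab x hx y hy)

omit [Finite G] in
theorem mem_cj_of {y c : G} (hy : y ∈ F) (hc : c ∈ Cx y) : y ∈ cj c F := by
  rw [mem_cj, mul_assoc, ← mem_centralizer_singleton_iff.1 hc, inv_mul_cancel_left]
  exact hy

theorem DG.py {q : ℕ} (h : EG 𝒬 q) (hv : NoViol 𝒬) (hF : DG 𝒬 F) {y : G} (hy : y ∈ F) : PY 𝒬 q y := by
  intro P hP V hV hn
  have y2 := (two_of_sq (hF.el y hy)).zpowers
  obtain ⟨v, hvV, ov, hc⟩ := exists_inv_fixed y2 (zpowers_le.2 hn) (h.pt_not_noInv hV)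
  obtain ⟨c, hcy, hle⟩ := hF.cent h.conj hv (hF.le_cx hy) (two_of_sq (sq_of_ord ov)).zpowers
    (zpowers_le.2 (mem_centralizer_singleton_iff.2 (mem_centralizer_iff.1 hc y (mem_zpowers y)).symm))
  have hF' := hF.conj h.conj c
  have hN := (hle v (mem_zpowers v) ⟨ov, P, hP, hV.le hvV⟩).trans (h.cx_le hP (hV.le hvV) ov)
  obtain ⟨f, f1, f2, -⟩ := h.exists_pts (𝒞 := {P}) (Set.singleton_subset_iff.2 hP)
    (fun A hA B hB hne => absurd (hA.trans hB.symm) hne) hF'.el.two fun x hx A hA => by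
      rw [hA]; exact mem_normalizer_iff_cj.1 (hN hx)
  have hn' : cj c F ≤ Nm (f P) := fun x hx => mem_normalizer_iff_cj.2 (by
    rw [f2 x hx P rfl, mem_normalizer_iff_cj.1 (hN hx)])
  have hc' : cj c F ≤ Ct (f P) := by
    obtain ⟨s, h1, -, e⟩ := hF'
    exact e ▸ (closure_le _).2 fun x hx => h.py_of_mem (h1 hx) P hP _ (f1 P rfl).1 (hn' (e ▸ subset_closure hx))
  have yF := mem_cj_of hy hcy
  obtain ⟨o, ho, e⟩ := h.pt_conj hP y2 (zpowers_le.2 (hN yF)) hV (f1 P rfl).1 (zpowers_le.2 hn)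
    (zpowers_le.2 (hn' yF))
  rw [← e, Ct, ← cj_centralizer]
  exact mem_cj_of (hc' yF) (mem_centralizer_singleton_iff.2 (mem_centralizer_iff.1 ho.2 y (mem_zpowers y)).symm)

theorem DG.not_diag (hc : ∀ A ∈ 𝒬, ∀ g : G, cj g A ∈ 𝒬) (hv : NoViol 𝒬) (hF : DG 𝒬 F) {x y : G} (hy : y ∈ F)
    (hx : x ∈ DD 𝒬) (h1 : x * (y * x * y⁻¹) = y * x * y⁻¹ * x) (h2 : F ≤ Cx (x * (y * x * y⁻¹))) :
    x * y = y * x := by
  have xx := sq_of_ord hx.1
  obtain ⟨δ, hδ⟩ : ∃ δ, δ = x * (y * x * y⁻¹) := ⟨_, rfl⟩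
  have c : Commute x δ := by rw [hδ]; exact (Commute.refl x).mul_right h1
  have zc : ∀ m, m * δ = δ * m → ∀ ζ ∈ zpowers δ, m * ζ * m⁻¹ = ζ := fun m hm ζ hζ => by
    obtain ⟨i, rfl⟩ := mem_zpowers_iff.1 hζ
    rw [(Commute.zpow_right hm i).eq, mul_inv_cancel_right]
  let M : Subgroup G :=
    { carrier := {m | m * δ = δ * m ∧ ⁅m, y⁆ ∈ zpowers δ}
      one_mem' := ⟨by simp, by simp⟩
      mul_mem' := fun {a b} ha hb => ⟨(Commute.mul_left ha.1 hb.1).eq, by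
        rw [show ⁅a * b, y⁆ = a * ⁅b, y⁆ * a⁻¹ * ⁅a, y⁆ by simp only [commutatorElement_def]; group,
          zc a ha.1 _ hb.2]
        exact mul_mem hb.2 ha.2⟩
      inv_mem' := fun {a} ha => ⟨(Commute.inv_left ha.1).eq, by
        rw [show ⁅a⁻¹, y⁆ = a⁻¹ * ⁅a, y⁆⁻¹ * a⁻¹⁻¹ by simp only [commutatorElement_def]; group,
          zc _ (Commute.inv_left ha.1).eq _ (inv_mem ha.2)]
        exact inv_mem ha.2⟩ }
  obtain ⟨m, hm, hle⟩ := hF.cent hc hv (M := M) (fun f hf => ⟨hδ ▸ mem_centralizer_singleton_iff.1 (h2 hf), by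
      rw [commutatorElement_eq_one_iff_mul_comm.2 (hF.el.ab f hf y hy)]; exact one_mem _⟩)
    (two_of_sq xx).zpowers (zpowers_le.2 ⟨c.eq, by
      rw [commutatorElement_def, inv_eq_of_mul_eq_one_right xx, show x * y * x * y⁻¹ = δ by rw [hδ]; group]
      exact mem_zpowers δ⟩)
  have k1 : Commute x (m * y * m⁻¹) :=
    (mem_centralizer_singleton_iff.1 (hle x (mem_zpowers x) hx (conj_mem_cj.2 hy))).symm
  have k2 : Commute x ⁅m, y⁆ := mul_inv_eq_iff_eq_mul.1 (zc x c.eq _ hm.2)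
  have := k2.inv_right.mul_right k1
  rwa [show ⁅m, y⁆⁻¹ * (m * y * m⁻¹) = y by rw [commutatorElement_def]; group] at this

theorem two_pair {u w : G} (hu : Two u) (hw : w * w = 1) (h : w * u * w⁻¹ = u ∨ w * u * w⁻¹ = u⁻¹) :
    IsPGroup 2 (zpowers u ⊔ zpowers w : Subgroup G) :=
  two_sup hu.zpowers (two_of_sq hw).zpowers (zpowers_le.2 (mem_normalizer_iff_cj.2 (by
    rcases h with h | h <;> rw [cj_zpowers, h]
    exact zpowers_inv)))

omit [Finite G] in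
theorem pair_perm {A : Subgroup G} {y : G} (hy : y * y = 1) {s : Set G}
    (h : ∀ x ∈ s, x = y ∨ (x ∈ Nm A ∧ x ∈ Nm (cj y A))) :
    ∀ x ∈ closure s, ∀ B ∈ ({A, cj y A} : Set (Subgroup G)), cj x B ∈ ({A, cj y A} : Set (Subgroup G)) := by
  have e : cj y (cj y A) = A := by rw [← cj_mul, hy, cj_one]
  have k : ∀ x : G, x = y ∨ (x ∈ Nm A ∧ x ∈ Nm (cj y A)) → ∀ B ∈ ({A, cj y A} : Set (Subgroup G)),
      cj x B ∈ ({A, cj y A} : Set (Subgroup G)) := by
    rintro x (rfl | ⟨h1, h2⟩) B (rfl | rfl)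
    exacts [Or.inr rfl, Or.inl e, Or.inl (mem_normalizer_iff_cj.1 h1), Or.inr (mem_normalizer_iff_cj.1 h2)]
  intro x hx
  induction hx using closure_induction'' with
  | mem x hx => exact k x (h x hx)
  | inv_mem x hx =>
    exact k _ ((h x hx).imp (fun e => by rw [e, inv_eq_of_mul_eq_one_right hy]) fun e => ⟨inv_mem e.1, inv_mem e.2⟩)
  | one => exact fun B hB => by rwa [cj_one]
  | mul x z _ _ h1 h2 => exact fun B hB => by rw [cj_mul]; exact h1 _ (h2 B hB)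

omit [Finite G] in
theorem closure_pair' (u w : G) : closure ({u, w} : Set G) = zpowers u ⊔ zpowers w := by
  rw [zpowers_eq_closure, zpowers_eq_closure, ← Subgroup.closure_union]; rfl

/-- An element of a D-generated group which centralises `Q` commutes with the involutions of bad neighbours. -/
theorem DG.key {q : ℕ} (h : EG 𝒬 q) (hv : NoViol 𝒬) (hF : DG 𝒬 F) {y : G} (hy : y ∈ F) {Q B T : Subgroup G}
    (hQ : Q ∈ 𝒬) (hB : B ∈ 𝒬) (hb : Bad Q B) (hyQ : y ∈ Ct Q) (hT : IsPGroup 2 T) (hyT : y ∈ T) {a : G}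
    (haT : a ∈ T) (ha : a ∈ B) (oa : orderOf a = 2) : a * y = y * a := by
  by_contra hn
  have yy := hF.el y hy
  have aa := sq_of_ord oa
  have py := hF.py h hv hy
  have aD : a ∈ DD 𝒬 := ⟨oa, B, hB, ha⟩
  have hB' := h.conj B hB y
  have ha' : y * a * y⁻¹ ∈ cj y B := conj_mem_cj.2 ha
  have oa' := (ord_conj y a).trans oa
  have c1 : a * (y * a * y⁻¹) = y * a * y⁻¹ * a := comm h.conj hv aD (dd_conj h.conj aD y)
    (two_of_mem hT (mul_mem haT (mul_mem (mul_mem hyT haT) (inv_mem hyT))))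
  have hne : B ≠ cj y B := fun e => by
    have yN : y ∈ Nm B := mem_normalizer_iff_cj.2 e.symm
    obtain ⟨f, f1, f2, -⟩ := h.exists_pts (𝒞 := {B}) (X := T ⊓ Nm B) (Set.singleton_subset_iff.2 hB)
      (fun A hA B hB hne => absurd (hA.trans hB.symm) hne) hT.to_inf_left fun x hx A hA => by
        rw [hA]; exact mem_normalizer_iff_cj.1 hx.2
    exact hn (mem_centralizer_iff.1 (py B hB _ (f1 B rfl).1 (mem_normalizer_iff_cj.2 (by
      rw [f2 y ⟨hyT, yN⟩ B rfl, ← e]))) a ((f1 B rfl).2 a ⟨haT, le_normalizer ha⟩ ha aa))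
  have hw := h.wadj_of_comm hB' hne ha ha' oa oa' c1
  have sw : ∀ x : G, y * (x * (y * x * y⁻¹)) * y⁻¹ = y * x * y⁻¹ * x := fun x => by
    rw [show y * (x * (y * x * y⁻¹)) * y⁻¹ = y * x * y⁻¹ * (y * y * x * (y * y)⁻¹) by group, yy]
    group
  have fin : ∀ x ∈ DD 𝒬, x * (y * x * y⁻¹) = y * x * y⁻¹ * x → ∀ c ∈ Cx y, cj c F ≤ Cx (x * (y * x * y⁻¹)) →
      x * y = y * x := fun x hx k c hc k' => (hF.conj h.conj c).not_diag h.conj hv (mem_cj_of hy hc) hx k k'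
  have sub : ({B, cj y B} : Set (Subgroup G)) ⊆ 𝒬 := by
    rintro _ (rfl | rfl)
    exacts [hB, hB']
  rcases h.dich B hB _ hB' hw with hadj | hbad
  · obtain ⟨v, hvQ, ov⟩ : ∃ v ∈ Q, orderOf v = 2 := by
      by_contra! k
      exact h.not_noInv hQ k
    have vv := sq_of_ord ov
    have vy : v * y = y * v := mem_centralizer_iff.1 hyQ v hvQ
    have vB := h.pt_le_nm hQ hB hb.1 hvQ vv
    have vB' : v ∈ Nm (cj y B) := by simpa only [← vy, mul_inv_cancel_right] using eg0_nm y vB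
    obtain ⟨f, f1, f2, f3⟩ := exists_syls (𝒞 := {B, cj y B}) (X := closure {v, y}) (by
        rintro _ (rfl | rfl) _ (rfl | rfl)
        exacts [le_normalizer, hadj.2.1, hadj.2.2, le_normalizer])
      (fun A hA A' hA' => h.ti A (sub hA) A' (sub hA'))
      (closure_pair' v y ▸ two_pair (two_of_sq vv) yy (Or.inl (by rw [← vy, mul_inv_cancel_right])))
      (pair_perm yy (by
        rintro _ (rfl | rfl)
        exacts [Or.inr ⟨vB, vB'⟩, Or.inl rfl]))
    have hR := (f1 B (Or.inl rfl)).1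
    have cc := f3 B (Or.inl rfl) _ (Or.inr rfl) hne
    rw [← f2 y (subset_closure (Or.inr rfl)) B (Or.inl rfl)] at cc
    have vR : v ∈ Nm (f B) := mem_normalizer_iff_cj.2 (by
      rw [f2 v (subset_closure (Or.inl rfl)) B (Or.inl rfl), mem_normalizer_iff_cj.1 vB])
    obtain ⟨r, hr, r4⟩ := h.exists_four hB hR
    obtain ⟨xx, x1⟩ := (h.bad_symm hQ hB hb).2 v hvQ ov _ hR vR r hr
    have xR : ⁅r, v⁆ ∈ f B := by
      rw [commutatorElement_def, mul_assoc, mul_assoc, ← mul_assoc v]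
      exact mul_mem hr (conj_mem_of_mem_normalizer vR (inv_mem hr))
    have ox := ord_two xx fun e => r4 (x1 (commutatorElement_eq_one_iff_mul_comm.1 e))
    have e1 : r * v * r⁻¹ = ⁅r, v⁆ * v := by rw [commutatorElement_def]; group
    have e2 : v * ⁅r, v⁆ * v⁻¹ = ⁅r, v⁆ := by
      rw [show v * ⁅r, v⁆ * v⁻¹ = ⁅r, v⁆⁻¹ * (r * (v * v) * r⁻¹) * (v * v)⁻¹ by rw [commutatorElement_def]; group, vv,
        inv_eq_of_mul_eq_one_right xx]
      group
    generalize ⁅r, v⁆ = x at xx xR ox e1 e2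
    have cm : ∀ a ∈ f B, ∀ b ∈ f B, a * (y * b * y⁻¹) = y * b * y⁻¹ * a := fun a ha b hb =>
      (mem_centralizer_iff.1 (cc ha) _ (conj_mem_cj.2 hb)).symm
    have xD : x ∈ DD 𝒬 := ⟨ox, B, hB, hR.le xR⟩
    have vD : v ∈ DD 𝒬 := ⟨ov, Q, hQ, hvQ⟩
    have e3 : r * (y * r * y⁻¹) * v * (r * (y * r * y⁻¹))⁻¹ = x * (y * x * y⁻¹) * v := by
      calc r * (y * r * y⁻¹) * v * (r * (y * r * y⁻¹))⁻¹ = r * (y * (r * (y⁻¹ * (v * y)) * r⁻¹) * y⁻¹) * r⁻¹ := by
            group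
        _ = r * (y * x * y⁻¹) * (y * v * y⁻¹) * r⁻¹ := by rw [vy, inv_mul_cancel_left, e1]; group
        _ = y * x * y⁻¹ * (r * v * r⁻¹) := by rw [cm r hr x xR, ← vy, mul_inv_cancel_right]; group
        _ = _ := by rw [e1, cm x xR x xR]; group
    have cvx : Commute v x := mul_inv_eq_iff_eq_mul.1 e2
    have cvy : Commute v y := vy
    have cvd : Commute v (x * (y * x * y⁻¹)) := cvx.mul_right ((cvy.mul_right cvx).mul_right cvy.inv_right)
    have dD := e3 ▸ dd_conj h.conj vD (r * (y * r * y⁻¹))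
    obtain ⟨c, hc, hle⟩ := hF.cent h.conj hv (hF.le_cx hy) (two_pair (two_of_sq (sq_of_ord dD.1)) vv
      (Or.inl (by rw [(cvd.mul_right (Commute.refl v)).eq, mul_inv_cancel_right])))
      (sup_le (zpowers_le.2 (mul_mem (mem_centralizer_singleton_iff.2
        (mul_inv_eq_iff_eq_mul.1 ((sw x).trans (cm x xR x xR).symm)).symm) (mem_centralizer_singleton_iff.2 vy)))
        (zpowers_le.2 (mem_centralizer_singleton_iff.2 vy)))
    have k := fin x xD (cm x xR x xR) c hc fun g hg => by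
      have k1 : Commute g _ := mem_centralizer_singleton_iff.1 (hle _ (mem_sup_left (mem_zpowers _)) dD hg)
      have k2 : Commute g v := mem_centralizer_singleton_iff.1 (hle _ (mem_sup_right (mem_zpowers _)) vD hg)
      simpa only [mul_inv_cancel_right] using mem_centralizer_singleton_iff.2 (k1.mul_right k2.inv_right).eq
    exact hne (h.eq_of_mem hB hB' (hR.le xR) (by
      simpa only [← k, mul_inv_cancel_right] using (conj_mem_cj (g := y)).2 (hR.le xR)) (two_of_sq xx)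
      (ne_one_of_ord ox))
  · obtain ⟨f, f1, f2, f3⟩ := h.exists_pts sub (X := closure {a, y}) (by
        rintro _ (rfl | rfl) _ (rfl | rfl) k
        exacts [absurd rfl k, hw, h.wadj_symm hB hB' hw, absurd rfl k])
      (hT.to_le ((closure_le _).2 (by
        rintro _ (rfl | rfl)
        exacts [haT, hyT])))
      (pair_perm yy (by
        rintro _ (rfl | rfl)
        exacts [Or.inr ⟨le_normalizer ha, h.pt_le_nm hB hB' hw ha aa⟩, Or.inl rfl]))
    have cc := f3 B (Or.inl rfl) _ (Or.inr rfl)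
    rw [← f2 y (subset_closure (Or.inr rfl)) B (Or.inl rfl)] at cc
    obtain ⟨P, hP, V, hV, -, hm⟩ := h.ax hB (f1 B (Or.inl rfl)).1 yy py hbad cc
    have dV := hm a ((f1 B (Or.inl rfl)).2 a (subset_closure (Or.inl rfl)) ha aa)
    have od := ord_two (hV.el _ dV) fun e => hn (by
      rw [← aa, mul_right_inj, mul_inv_eq_iff_eq_mul] at e
      exact e.symm)
    obtain ⟨c, hc, hle⟩ := hF.cent h.conj hv (hF.le_cx hy) (two_of_sq (hV.el _ dV)).zpowers
      (zpowers_le.2 (mem_centralizer_singleton_iff.2 (mul_inv_eq_iff_eq_mul.1 ((sw a).trans c1.symm)).symm))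
    exact hn (fin a aD c1 c hc (hle _ (mem_zpowers _) ⟨od, P, hP, hV.le dV⟩))

end EG5

namespace EG

variable {q : ℕ} (h : EG 𝒬 q) {A B : Subgroup G}
include h

open EG5 in
theorem false_of_noViol (hK : HasK 𝒬) (hv : NoViol 𝒬) (hA : A ∈ 𝒬) (hB : B ∈ 𝒬) (hb : Bad A B) :
    False := by
  obtain ⟨K, qs, rfl, hN⟩ := hK A hA
  obtain ⟨-, a, ha, oa, aA⟩ := h.wadj_symm hA hB hb.1
  have aa := sq_of_ord oa
  have aK : zpowers a ≤ Nm K := zpowers_le.2 (hN aA)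
  obtain ⟨S, hS, aS, -⟩ := exists_syl_norm (two_of_sq aa).zpowers aK
  have XN : K ⊔ zpowers a ≤ Nm K := sup_le le_normalizer aK
  have KC : K ≤ Ct (Ct K) := le_ct_comm.1 le_rfl
  have inf : ∀ R : Subgroup G, IsPGroup 2 R → S ≤ R → ∀ x ∈ R, x ∈ K → x ∈ S := fun R hR h1 x k k' =>
    (hS.eq_of_le (Q := R ⊓ K) hR.to_inf_left (le_inf h1 hS.le) inf_le_right).le ⟨k, k'⟩
  have hD : IsSylowIn 2 (S ⊔ zpowers a) (K ⊔ zpowers a) := by
    refine isSylowIn_of_maximal (two_sup hS.pgroup (two_of_sq aa).zpowers aS)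
      (sup_le_sup_right hS.le _) fun R hR h1 h3 x hx => ?_
    obtain ⟨k, hk, b, hb, rfl⟩ := (mem_sup_nm aK).1 (h3 hx)
    exact mul_mem (mem_sup_left (inf R hR (le_sup_left.trans h1) k
      (by simpa using mul_mem hx (inv_mem (h1 (mem_sup_right hb)))) hk)) (mem_sup_right hb)
  obtain ⟨D, hD'⟩ : ∃ D : Set G, ∀ d, d ∈ D ↔ ∃ k ∈ K, d = k * a * k⁻¹ := ⟨{d | _}, fun _ => Iff.rfl⟩
  have aD : a ∈ D := (hD' a).2 ⟨1, one_mem _, by simp⟩
  have DX : ∀ w ∈ K ⊔ zpowers a, ∀ d ∈ D, w * d * w⁻¹ ∈ D := fun w hw d hd => by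
    obtain ⟨k, hk, b, hb, rfl⟩ := (mem_sup_nm aK).1 hw
    obtain ⟨l, hl, rfl⟩ := (hD' d).1 hd
    refine (hD' _).2 ⟨_, mul_mem hk (conj_mem_of_mem_normalizer (aK hb) hl), ?_⟩
    obtain ⟨i, rfl⟩ := mem_zpowers_iff.1 hb
    group
  have DD' : D ⊆ DD 𝒬 := fun d hd => by
    obtain ⟨l, -, rfl⟩ := (hD' d).1 hd
    exact dd_conj h.conj ⟨oa, B, hB, ha⟩ l
  obtain ⟨F, eF⟩ : ∃ F, F = closure (D ∩ (S ⊔ zpowers a : Subgroup G)) := ⟨_, rfl⟩
  have hF : DG 𝒬 F := ⟨_, Set.inter_subset_left.trans DD', fun x hx y hy => comm h.conj hv (DD' hx.1) (DD' hy.1)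
    (two_of_mem hD.pgroup (mul_mem hx.2 hy.2)), eF⟩
  have FS : F ≤ S ⊔ zpowers a := eF ▸ (closure_le _).2 Set.inter_subset_right
  have mF : ∀ d ∈ D, d ∈ S ⊔ zpowers a → d ∈ F := fun d k k' => eF ▸ subset_closure ⟨k, k'⟩
  have aF := mF a aD (mem_sup_right (mem_zpowers a))
  have nF : ∀ w ∈ K ⊔ zpowers a, cj w F ≤ S ⊔ zpowers a → cj w F = F := fun w hw hle =>
    mem_normalizer_iff_cj.1 (mem_normalizer_of_cj_le (by
      nth_rewrite 1 [eF]
      refine map_le_iff_le_comap.2 ((closure_le _).2 fun d hd => ?_)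
      exact mF _ (DX w hw d hd.1) (hle (conj_mem_cj.2 (mF d hd.1 hd.2)))))
  refine (lq2 (B := F ⊓ K) qs hS (fun x hx => inf _ hD.pgroup le_sup_left x (FS hx.1) hx.2)
    (fun x hx y hy => hF.el.ab x hx.1 y hy.1) (fun b hb' g hg hy => ?_) (fun hle => ?_) (two_of_sq aa) (hN aA)
    (fun s hs => mem_sup_left ⟨?_, mul_mem (conj_mem_of_mem_normalizer (hN aA) (hS.le hs)) (K.inv_mem (hS.le hs))⟩)
    fun b hb => SV.comm_one (hF.el.ab a aF b hb.1)).elim fun s hs =>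
      h.not_inner hA hB hb ha oa (KC (hS.le hs.1)) hs.2
  · refine ⟨?_, hS.le hy⟩
    have hF' := hF.conj h.conj g
    have yF : g * b * g⁻¹ ∈ cj g F := conj_mem_cj.2 hb'.1
    generalize g * b * g⁻¹ = y at hy yF
    have h1 : F ≤ (K ⊔ zpowers a) ⊓ Cx y := le_inf (FS.trans hD.le) (eF ▸ (closure_le _).2 fun d hd => by
      obtain ⟨l, hl, rfl⟩ := (hD' d).1 hd.1
      have := hb.cj l
      rw [mem_normalizer_iff_cj.1 (ct_le_nm _ (KC hl))] at this
      exact mem_centralizer_singleton_iff.2 (hF'.key h hv yF hA (h.conj B hB l) this (KC (hS.le hy)) hD.pgroup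
        (mem_sup_left hy) hd.2 (conj_mem_cj.2 ha) ((ord_conj l a).trans oa)))
    obtain ⟨R, hR, h2⟩ := exists_isSylowIn_ge hF.el.two h1
    obtain ⟨c, hc, h3⟩ := hR.exists_cj_le hF'.el.two (le_inf (cj_le_iff.2 fun x hx => mul_mem (mul_mem
      (mem_sup_left hg) (h1 hx).1) (inv_mem (mem_sup_left hg))) (hF'.le_cx yF))
    obtain ⟨w, hw, h4⟩ := hD.exists_cj_le hR.pgroup (hR.le.trans inf_le_left)
    have h5 := nF _ (mul_mem hw (mul_mem hc.1 (mem_sup_left hg))) (by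
      rw [cj_mul, cj_mul]; exact (cj_mono w h3).trans h4)
    rw [cj_mul, cj_mul] at h5
    exact cj_injective w (h5.trans (nF w hw ((cj_mono w h2).trans h4)).symm) ▸ mem_cj_of yF hc.2
  · obtain ⟨k, hk, h1, h2⟩ := zq qs oa (hN aA) fun k => hb.1.1 (h.eq_of_mem hA hB k ha (two_of_sq aa) (ne_one_of_ord oa))
    have kK : ⁅a, k⁆ ∈ K := mul_mem (conj_mem_of_mem_normalizer (hN aA) hk) (inv_mem hk)
    rw [show ⁅a, k⁆ = a * (k * a * k⁻¹) by
      rw [commutatorElement_def, inv_eq_of_mul_eq_one_right aa]; group] at h1 h2 kK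
    have bD := DX k (mem_sup_left hk) a aD
    have bN : k * a * k⁻¹ ∈ Nm K := mul_mem (mul_mem (le_normalizer hk) (hN aA)) (inv_mem (le_normalizer hk))
    generalize k * a * k⁻¹ = b at h1 h2 kK bD bN
    have bb := sq_of_ord (DD' bD).1
    obtain ⟨i, hi⟩ := exists_two_prod aa bb
    have cK : (a * b) ^ (2 * i) ∈ K := pow_mem kK _
    have cQ : (a * b) ^ (2 * i) ∈ Ct K := by rw [pow_mul, pow_two]; exact pow_mem h2 _
    generalize (a * b) ^ (2 * i) = c at hi cK cQ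
    have dD := DX c (mem_sup_left cK) b bD
    have sK : a * (c * b * c⁻¹) ∈ K := by
      rw [show a * (c * b * c⁻¹) = a * c * a⁻¹ * (a * b) * c⁻¹ by group]
      exact mul_mem (mul_mem (conj_mem_of_mem_normalizer (hN aA) cK) kK) (inv_mem cK)
    obtain ⟨w, hw, h4⟩ := hD.exists_cj_le (two_pair hi aa (Or.inr (by
      rw [mul_inv_rev, inv_eq_of_mul_eq_one_right (sq_of_ord (DD' dD).1), ← mul_assoc a a, aa, one_mul])))
      (sup_le (zpowers_le.2 (mem_sup_left sK)) le_sup_right)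
    have k1 := h4 (conj_mem_cj.2 (mem_sup_left (mem_zpowers _)))
    have k2 := h4 (conj_mem_cj.2 (mem_sup_right (mem_zpowers _)))
    have e : w * (a * (c * b * c⁻¹)) * w⁻¹ = w * a * w⁻¹ * (w * (c * b * c⁻¹) * w⁻¹) := by group
    have k3 := conj_mem_of_mem_normalizer' (qs_nm_ct K (XN hw)) (hle (x := w * (a * (c * b * c⁻¹)) * w⁻¹) ⟨by
      rw [e]
      exact mul_mem (mF _ (DX w hw a aD) k2) (mF _ (DX w hw _ dD) ((mul_mem_cancel_left k2).1 (e ▸ k1))),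
      conj_mem_of_mem_normalizer (XN hw) sK⟩)
    refine h1 ?_
    rw [show a * b = w⁻¹ * (w * (a * (c * b * c⁻¹)) * w⁻¹) * w * c * (b⁻¹ * c⁻¹ * b) by group]
    exact mul_mem (mul_mem k3 cQ) (conj_mem_of_mem_normalizer' (qs_nm_ct K bN) (inv_mem cQ))
  · rw [show ⁅a, s⁆ = a * (s * a * s⁻¹) by rw [commutatorElement_def, inv_eq_of_mul_eq_one_right aa]; group]
    exact mul_mem aF (mF _ (DX s (mem_sup_left (hS.le hs)) a aD) (mul_mem (mul_mem (mem_sup_left hs)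
      (mem_sup_right (mem_zpowers a))) (inv_mem (mem_sup_left hs))))

theorem false (hK : HasK 𝒬) (hA : A ∈ 𝒬) (hB : B ∈ 𝒬) (hb : Bad A B) : False :=
  h.false_of_noViol hK (h.noViol hK) hA hB hb

end EG

end CfsgLib.ACT
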