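import Cfsg.Agent.Lib.ACT.SOLV1
import Cfsg.Agent.S0514

/-! The conclusion of the component theorem in the easy cases. See `plans/COMP.md`. -/

set_option autoImplicit false
set_option linter.unusedVariables false

namespace CfsgLib.ACT

open Subgroup Cfsg CfsgLib.Tech CfsgLib.PComp
open CfsgLib.LBal (RC)
open scoped commutatorElement

universe u

variable {G : Type u} [Group G] [Finite G]

variable {Q R P T : Subgroup G}

/-- the property of `C_Q(z)` in `Concl` -/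
def S2P (X : Type u) [Group X] : Prop := PRankLE 2 1 X ∨ (Group.IsSolvable X ∧ ∀ S : Sylow 2 X,
    IsElementaryAbelian 2 (S : Subgroup X) ∨ ∃ n : ℕ, Nonempty (↥(S : Subgroup X) ≃* DihedralGroup n))

theorem S2P.congr {X Y : Type u} [Group X] [Group Y] [Finite X] [Finite Y] (e : X ≃* Y) (h : S2P X) : S2P Y := by
  rcases h with h | ⟨h, h'⟩
  · left
    intro A hA h2
    rw [← card_map_of_injective (f := e.symm.toMonoidHom) e.symm.injective]
    exact h _ (LBal.isElementaryAbelian_map ⟨hA, h2⟩ _).1 (LBal.isElementaryAbelian_map ⟨hA, h2⟩ _).2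
  · refine Or.inr ⟨Group.isSolvable_of_surjective (f := e.toMonoidHom) e.surjective, fun S => ?_⟩
    rcases h' (S.mapSurjective (f := e.symm.toMonoidHom) e.symm.surjective) with k | ⟨n, ⟨k⟩⟩
    · left
      have : IsElementaryAbelian 2 (((S : Subgroup Y).map e.symm.toMonoidHom).map e.toMonoidHom) :=
        LBal.isElementaryAbelian_map k e.toMonoidHom
      rwa [map_map, show e.toMonoidHom.comp e.symm.toMonoidHom = MonoidHom.id _ by
        ext; simp, Subgroup.map_id] at this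
    · exact Or.inr ⟨n, ⟨(e.symm.subgroupMap (S : Subgroup Y)).trans k⟩⟩

omit [Finite G] in
theorem s2_ea {X : Subgroup G} {S : Subgroup X} (h : El (S.map X.subtype)) : IsElementaryAbelian 2 S := by
  refine ⟨⟨⟨fun a b => Subtype.ext (Subtype.ext ?_)⟩⟩, fun a ha => Subtype.ext ?_⟩
  · exact h.ab _ ⟨_, a.2, rfl⟩ _ ⟨_, b.2, rfl⟩
  · rw [pow_two]; exact h _ ⟨a, ha, rfl⟩

theorem s2_concl {z : G} (hz : z ∈ Q) (h2 : orderOf z = 2) (hs : Group.IsSolvable ↥(Cx z ⊓ Q))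
    (h : ∀ S : Subgroup G, IsSylowIn 2 S (Cx z ⊓ Q) → El S ∨ ∃ n : ℕ, Nonempty (S ≃* DihedralGroup n)) :
    Concl Q := by
  refine ⟨z, hz, h2, Or.inr ⟨hs, fun S => ?_⟩⟩
  rcases h _ (IsSylowIn.of_sylow_subgroup S) with k | ⟨n, ⟨k⟩⟩
  · exact Or.inl (s2_ea k)
  · exact Or.inr ⟨n, ⟨((S : Subgroup ↥(Cx z ⊓ Q)).equivMapOfInjective _ (subtype_injective _)).trans k⟩⟩

omit [Finite G] in
theorem s2_el_of_cj {S R : Subgroup G} {g : G} (hE : El R) (h : cj g S ≤ R) : El S := fun x hx => by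
  have := hE _ (h (conj_mem_cj.2 hx))
  rwa [conj_mul, conj_eq_one_iff] at this

theorem s2_el (hR : IsSylowIn 2 R Q) (hE : El R) {S : Subgroup G} (hS : IsPGroup 2 S) (hle : S ≤ Q) : El S := by
  obtain ⟨g, -, hg⟩ := hR.exists_cj_le hS hle
  exact s2_el_of_cj hE hg

theorem s2_inv {R : Subgroup G} (hR : IsPGroup 2 R) (h1 : R ≠ ⊥) : ∃ z ∈ R, orderOf z = 2 := by
  by_contra h
  exact h1 (NoInv.eq_bot (A := R) (fun x hx e => h ⟨x, hx, e⟩) hR le_rfl)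

/-! The quotient by `O(Q)`. -/

instance s2_normal (Q : Subgroup G) : ((opOf 2 Q).subgroupOf (Nm Q)).Normal :=
  normal_subgroupOf_of_le_normalizer (normalizer_le_normalizer_opOf Q)

abbrev S2G (Q : Subgroup G) : Type u := ↥(Nm Q) ⧸ (opOf 2 Q).subgroupOf (Nm Q)

abbrev s2π (Q : Subgroup G) : Nm Q →* S2G Q := QuotientGroup.mk' _

def s2b (Q A : Subgroup G) : Subgroup (S2G Q) := (A.subgroupOf (Nm Q)).map (s2π Q)

theorem mem_s2b {A : Subgroup G} {y : S2G Q} : y ∈ s2b Q A ↔ ∃ x : Nm Q, (x : G) ∈ A ∧ s2π Q x = y := Iff.rfl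

theorem s2b_mem {A : Subgroup G} {x : Nm Q} (h : (x : G) ∈ A) : s2π Q x ∈ s2b Q A := ⟨x, h, rfl⟩

theorem s2π_one {x : Nm Q} : s2π Q x = 1 ↔ (x : G) ∈ opOf 2 Q := QuotientGroup.eq_one_iff x

theorem s2π_eq {x y : Nm Q} (e : s2π Q x = s2π Q y) : (x : G)⁻¹ * y ∈ opOf 2 Q :=
  (s2π_one (x := x⁻¹ * y)).1 (by rw [map_mul, map_inv, e, inv_mul_cancel])

theorem s2π_inj {X : Subgroup G} (hX : IsPGroup 2 X) {x y : Nm Q} (hx : (x : G) ∈ X) (hy : (y : G) ∈ X)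
    (e : s2π Q x = s2π Q y) : x = y :=
  Subtype.ext (inv_mul_eq_one.1 ((noInv_opOf Q).eq_one (s2π_eq e) (two_of_mem hX (mul_mem (inv_mem hx) hy))))

theorem s2π_one' {X : Subgroup G} (hX : IsPGroup 2 X) {x : Nm Q} (hx : (x : G) ∈ X) (e : s2π Q x = 1) : x = 1 :=
  s2π_inj hX hx (one_mem _) (e.trans (map_one _).symm)

theorem s2b_iff {X P : Subgroup G} (hX : IsPGroup 2 X) (hP : P ≤ X) {x : Nm Q} (hx : (x : G) ∈ X) :
    s2π Q x ∈ s2b Q P ↔ (x : G) ∈ P :=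
  ⟨fun ⟨_, hy, e⟩ => s2π_inj hX (hP hy) hx e ▸ hy, s2b_mem⟩

theorem s2π_sq {X : Subgroup G} (hX : IsPGroup 2 X) {x : Nm Q} (hx : (x : G) ∈ X) :
    s2π Q x * s2π Q x = 1 ↔ (x : G) * x = 1 := by
  rw [← map_mul]
  exact ⟨fun e => congrArg Subtype.val (s2π_one' hX (mul_mem hx hx) e),
    fun e => by rw [show x * x = 1 from Subtype.ext e, map_one]⟩

theorem s2π_ord {X : Subgroup G} (hX : IsPGroup 2 X) {x : Nm Q} (hx : (x : G) ∈ X) :
    orderOf (s2π Q x) = 2 ↔ orderOf (x : G) = 2 :=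
  ⟨fun e => ord_two ((s2π_sq hX hx).1 (sq_of_ord e)) fun k =>
    ne_one_of_ord e (by rw [show x = 1 from Subtype.ext k, map_one]),
   fun e => ord_two ((s2π_sq hX hx).2 (sq_of_ord e)) fun k =>
    ne_one_of_ord e (congrArg Subtype.val (s2π_one' hX hx k))⟩

theorem s2π_comm {X : Subgroup G} (hX : IsPGroup 2 X) {x y : Nm Q} (hx : (x : G) ∈ X) (hy : (y : G) ∈ X) :
    s2π Q x * s2π Q y = s2π Q y * s2π Q x ↔ (x : G) * y = y * x := by
  rw [← map_mul, ← map_mul]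
  exact ⟨fun e => congrArg Subtype.val (s2π_inj hX (mul_mem hx hy) (mul_mem hy hx) e),
    fun e => by rw [show x * y = y * x from Subtype.ext e]⟩

theorem s2b_two {X : Subgroup G} (hX : IsPGroup 2 X) : IsPGroup 2 (s2b Q X) := hX.comap_subtype.map _

theorem s2b_mono {A B : Subgroup G} (h : A ≤ B) : s2b Q A ≤ s2b Q B := fun _ ⟨x, hx, e⟩ => ⟨x, h hx, e⟩

theorem s2b_card {X : Subgroup G} (hX : IsPGroup 2 X) (hle : X ≤ Nm Q) : Nat.card (s2b Q X) = Nat.card X :=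
  (Nat.card_congr (Equiv.ofBijective (fun x : X => (⟨s2π Q ⟨x, hle x.2⟩, s2b_mem x.2⟩ : s2b Q X))
    ⟨fun x y e => Subtype.ext (congrArg (fun a : Nm Q => (a : G))
      (s2π_inj hX (x := ⟨x, hle x.2⟩) (y := ⟨y, hle y.2⟩) x.2 y.2 (congrArg Subtype.val e))),
     fun ⟨_, x, hx, e⟩ => ⟨⟨x, hx⟩, Subtype.ext e⟩⟩)).symm

theorem s2b_nm {A B : Subgroup G} (h : A ≤ Nm B) : s2b Q A ≤ Nm (s2b Q B) := by
  rintro _ ⟨x, hx, rfl⟩
  refine mem_normalizer_of_forall ?_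
  rintro _ ⟨y, hy, rfl⟩
  exact ⟨x * y * x⁻¹, conj_mem_of_mem_normalizer (g := (x : G)) (x := (y : G)) (h hx) hy, by simp⟩

theorem s2b_ct {A B : Subgroup G} (h : A ≤ Ct B) : s2b Q A ≤ Ct (s2b Q B) := by
  rintro _ ⟨x, hx, rfl⟩
  refine mem_centralizer_iff.2 ?_
  rintro _ ⟨y, hy, rfl⟩
  rw [← map_mul, ← map_mul, show y * x = x * y from Subtype.ext (mem_centralizer_iff.1 (h hx) _ hy)]

theorem s2b_el {A : Subgroup G} (h : El A) : El (s2b Q A) := by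
  rintro _ ⟨x, hx, rfl⟩
  rw [← map_mul, show x * x = 1 from Subtype.ext (h _ hx), map_one]

theorem s2b_ab {A : Subgroup G} (h : Ab A) : Ab (s2b Q A) := by
  rintro _ ⟨x, hx, rfl⟩ _ ⟨y, hy, rfl⟩
  rw [← map_mul, ← map_mul, show x * y = y * x from Subtype.ext (h _ hx _ hy)]

theorem s2b_syl {S A : Subgroup G} (h : IsSylowIn 2 S A) (hA : A ≤ Nm Q) : IsSylowIn 2 (s2b Q S) (s2b Q A) :=
  ⟨s2b_mono h.le, s2b_two h.pgroup, fun k => h.not_dvd (by
    rw [← relIndex_subgroupOf hA]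
    exact k.trans (relIndex_map_dvd _ fun _ hx => h.le hx))⟩

theorem s2b_noInv {A : Subgroup G} (h : NoInv A) : NoInv (s2b Q A) := by
  rintro _ ⟨x, hx, rfl⟩ e
  have h1 : 2 ∣ orderOf (x : G) := by
    rw [← e, Subgroup.orderOf_coe]; exact orderOf_map_dvd _ _
  exact (noInv_iff.1 h).not_two_dvd_nat (h1.trans (orderOf_dvd_natCard _ hx))

theorem s2_cop (A : Subgroup (Nm Q)) : (Nat.card (A ⊓ (s2π Q).ker : Subgroup (Nm Q))).Coprime 2 := by
  refine LBal.coprime_inf_of_coprime ?_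
  rw [QuotientGroup.ker_mk', Nat.card_congr (subgroupOfEquivOfLe ((opOf_le Q).trans le_normalizer)).toEquiv]
  exact coprime_card_opOf Q

theorem s2b_O : opOf 2 (s2b Q Q) = ⊥ := by
  rw [s2b, ← map_opOf_of_coprime _ _ (s2_cop _), Subgroup.map_eq_bot_iff]
  intro x hx
  have : (x : G) ∈ (opOf 2 (Q.subgroupOf (Nm Q))).map (Nm Q).subtype := ⟨x, hx, rfl⟩
  rw [opOf_map_subtype, map_subgroupOf_eq_of_le le_normalizer] at this
  exact s2π_one.2 this

theorem s2_solv {A : Subgroup G} (hA : A ≤ Nm Q) (h : Group.IsSolvable (s2b Q A)) : Group.IsSolvable A := by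
  let f : A →* s2b Q A := ((s2π Q).comp (inclusion hA)).codRestrict _ fun x => s2b_mem x.2
  have : Group.IsSolvable f.ker := FT.odd_order_solvable (noInv_iff.1 fun x hx e =>
    noInv_opOf Q x (s2π_one.1 (congrArg Subtype.val hx)) (by rw [← e, Subgroup.orderOf_coe]))
  exact Group.isSolvable_of_ker_le_range f.ker.subtype f (by simp)

theorem s2_lift {t : Nm Q} (ht : Two (t : G)) {y : S2G Q} (hy : y ∈ s2b Q Q) (hc : y ∈ Cx (s2π Q t)) :
    ∃ x : Nm Q, (x : G) ∈ Q ⊓ Cx (t : G) ∧ s2π Q x = y := by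
  have h2 : IsPGroup 2 (zpowers t) := by
    obtain ⟨k, hk⟩ := ht
    exact isPGroup_zpowers_of_pow (k := k) (Subtype.ext (by simpa using hk))
  have := Coprime.map_inf_centralizer (s2π Q) (K := Q.subgroupOf (Nm Q)) (A := zpowers t)
    (by rw [normalizer_eq_top]; exact le_top) (LBal.coprime_card_of_isPGroup h2 (s2_cop _))
    (Or.inl (Coprime.isSolvable_of_isPGroup h2))
  have h3 : y ∈ (Q.subgroupOf (Nm Q) ⊓ centralizer (zpowers t : Set (Nm Q))).map (s2π Q) := by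
    rw [this]
    refine ⟨hy, mem_centralizer_iff.2 ?_⟩
    rintro _ ⟨_, ⟨k, rfl⟩, rfl⟩
    rw [map_zpow]
    exact ((show Commute y (s2π Q t) from mem_centralizer_singleton_iff.1 hc).zpow_right k).eq.symm
  obtain ⟨x, hx, e⟩ := h3
  exact ⟨x, ⟨hx.1, mem_centralizer_singleton_iff.2
    (congrArg Subtype.val (mem_centralizer_iff.1 hx.2 t (mem_zpowers t))).symm⟩, e⟩

theorem s2b_comm (A B : Subgroup G) : ⁅s2b Q A, s2b Q B⁆ ≤ s2b Q ⁅A, B⁆ := by
  rw [commutator_le]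
  rintro _ ⟨x, hx, rfl⟩ _ ⟨y, hy, rfl⟩
  exact ⟨⁅x, y⁆, commutator_mem_commutator hx hy, map_commutatorElement _ _ _⟩

theorem s2b_rc {K : Subgroup G} (h : LBal.PC 2 K Q) : RC (s2b Q K) (s2b Q Q) := by
  have := (h.subgroupOf (h.le.trans le_normalizer)).map (s2π Q) (s2_cop _)
  exact ⟨this.subn, this.pqs.qs_of_opOf_eq_bot (le_bot_iff.1 (this.opOf_le.trans s2b_O.le))⟩

theorem GR.s2b (h : GR R P T) (hR : R ≤ Nm Q) (hT : T ≤ Nm Q) : GR (s2b Q R) (s2b Q P) (s2b Q T) := by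
  have hX := two_sup h.twoR h.twoT h.nrm
  refine ⟨s2b_two h.twoR, s2b_two h.twoT, s2b_nm h.nrm, ?_, s2b_mono h.le, s2b_ct h.cent, ?_, ?_, ?_⟩
  · rw [eq_bot_iff]
    rintro _ ⟨⟨r, hr, rfl⟩, ht⟩
    have := (s2b_iff hX le_sup_right (mem_sup_left hr)).1 ht
    have h1 : (r : G) ∈ R ⊓ T := ⟨hr, this⟩
    rw [h.disj, mem_bot] at h1
    rw [show r = 1 from Subtype.ext h1, map_one]; exact one_mem _
  · rintro _ ⟨t, ht, rfl⟩ h2 _ ⟨r, hr, rfl⟩ e
    exact s2b_mem (h.fix _ ht ((s2π_ord h.twoT ht).1 h2) _ hr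
      ((s2π_comm hX (mem_sup_left hr) (mem_sup_right ht)).1 e))
  · rw [s2b_card (h.twoR.to_le h.le) (h.le.trans hR), s2b_card h.twoT hT, h.card]
  · intro e
    have := s2b_card h.twoT hT
    rw [e, card_bot] at this
    exact h.ne (card_eq_one.1 this.symm)

theorem s2b_ne {R P : Subgroup G} (h : IsPGroup 2 R) (hle : P ≤ R) (hR : R ≤ Nm Q) (hne : P ≠ R) :
    s2b Q P ≠ s2b Q R := fun e => hne (le_antisymm hle fun r hr =>
  (s2b_iff h hle (x := ⟨r, hR hr⟩) hr).1 (e ▸ s2b_mem hr))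

theorem TB.s2b (h : TB R P T) (hR : R ≤ Nm Q) (hT : T ≤ Nm Q) : TB (s2b Q R) (s2b Q P) (s2b Q T) := by
  refine ⟨h.gr.s2b hR hT, s2b_el h.elT, by rw [s2b_card h.gr.twoT hT]; exact h.four,
    s2b_ne h.gr.twoR h.gr.le hR h.ne, ?_, s2b_ct h.cen, ?_, ?_⟩
  · rintro _ ⟨r, hr, rfl⟩
    rw [s2π_sq h.gr.twoR hr, s2b_iff h.gr.twoR h.gr.le hr]
    exact h.om _ hr
  · rintro _ ⟨r, hr, rfl⟩
    exact ⟨r * r, h.sq _ hr, map_mul _ _ _⟩
  · rintro _ ⟨r, hr, rfl⟩ _ ⟨t, ht, rfl⟩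
    exact ⟨⁅r, t⁆, h.comm _ hr _ ht, map_commutatorElement _ _ _⟩

theorem TD.s2b {A : Subgroup G} {x : G} (h : TD R A P T x) (hR : R ≤ Nm Q) (hT : T ≤ Nm Q) :
    TD (s2b Q R) (s2b Q A) (s2b Q P) (s2b Q T) (s2π Q ⟨x, hR h.mem⟩) := by
  have h2 := h.gr.twoR
  refine ⟨h.gr.s2b hR hT, s2b_el h.elT, by rw [s2b_card h.gr.twoT hT]; exact h.four, s2b_mono h.le, s2b_ab h.ab,
    s2b_mem h.mem, fun e => h.notMem ((s2b_iff h2 h.le (x := ⟨x, hR h.mem⟩) h.mem).1 e), ?_, ?_, ?_,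
    s2b_mono h.leP, ?_⟩
  · rintro _ ⟨r, hr, rfl⟩
    exact (h.cover _ hr).imp s2b_mem fun e => ⟨⟨x, hR h.mem⟩ * r, e, map_mul _ _ _⟩
  · rintro _ ⟨r, hr, rfl⟩ e
    exact (s2π_sq h2 hr).2 (h.out _ hr fun k => e (s2b_mem k))
  · rintro _ ⟨r, hr, rfl⟩
    rw [s2π_sq h2 (h.le hr), s2b_iff h2 h.gr.le (h.le hr)]
    exact h.om _ hr
  · rintro _ ⟨p, hp, rfl⟩
    obtain ⟨t, ht, h3, h4⟩ := h.sq _ hp
    refine ⟨_, s2b_mem (x := ⟨t, hT ht⟩) ht, ?_, ?_⟩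
    · exact ⟨⁅(⟨x, hR h.mem⟩ : Nm Q), (⟨t, hT ht⟩ : Nm Q)⁆, h3, map_commutatorElement _ _ _⟩
    · rw [← map_commutatorElement, ← map_mul]
      exact congrArg _ (Subtype.ext h4)

theorem Concl.cj (h : Concl Q) (g : G) : Concl (cj g Q) := by
  obtain ⟨z, hz, h2, h3⟩ := h
  refine ⟨g * z * g⁻¹, conj_mem_cj.2 hz, (ord_conj g z).trans h2, ?_⟩
  have e : Cx (g * z * g⁻¹) ⊓ Tech.cj g Q = Tech.cj g (Cx z ⊓ Q) := by rw [cj_inf, cj_centralizer_singleton]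
  exact S2P.congr ((cjEquiv g _).trans (MulEquiv.subgroupCongr e.symm)) h3

theorem concl_rk1 (he : ¬ NoInv Q) (hr : ¬ Rk2 Q) : Concl Q := by
  obtain ⟨z, hz, h2⟩ : ∃ z ∈ Q, orderOf z = 2 := by
    by_contra k
    exact he fun x hx e => k ⟨x, hx, e⟩
  refine ⟨z, hz, h2, Or.inl fun A _ hA => ?_⟩
  have hE : El (A.map (Cx z ⊓ Q).subtype) := by
    rintro _ ⟨a, ha, rfl⟩
    rw [← map_mul, ← pow_two, hA a ha, map_one]
  rw [← card_map_of_injective (subtype_injective _)]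
  by_contra hc
  obtain ⟨k, hk⟩ := hE.two.exists_card_eq
  have h4 : 4 ≤ Nat.card (A.map (Cx z ⊓ Q).subtype) := by
    rw [hk] at hc ⊢
    have : 2 ≤ k := by
      by_contra h
      exact hc (Nat.pow_le_pow_right (by norm_num) (by omega))
    exact Nat.pow_le_pow_right (n := 2) (by norm_num) this
  obtain ⟨a, ha, b, hb, h⟩ := hE.rk2 h4
  exact hr ⟨a, ((map_subtype_le _) ha).2, b, ((map_subtype_le _) hb).2, h⟩

theorem concl_el (hR : IsSylowIn 2 R Q) (hE : El R) {z : G} (hz : z ∈ Q) (h2 : orderOf z = 2)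
    (hs : Group.IsSolvable ↥(Cx z ⊓ Q)) : Concl Q := s2_concl hz h2 hs fun _ hS => Or.inl (s2_el hR hE hS.pgroup (hS.le.trans inf_le_right))

theorem concl_dih (hR : IsSylowIn 2 R Q) {n : ℕ} {r s : G} (hd : DihSyl.IsDih R n r s)
    (h2 : 2 ≤ n) : Concl Q := by
  obtain ⟨k, hk⟩ := hd.exists_pow_of_isPGroup hR.pgroup
  obtain ⟨m, hm⟩ : ∃ m, n = 2 * m := by
    rcases k with _ | k
    · omega
    · exact ⟨2 ^ k, by rw [hk, pow_succ']⟩
  obtain ⟨z1, z2⟩ := hd.half hm (by omega)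
  have zr : r ^ (m : ℤ) ∈ zpowers r := ⟨m, rfl⟩
  generalize r ^ (m : ℤ) = z at z1 z2 zr
  have zR := hd.zpowers_le zr
  have hS : IsSylowIn 2 R (Cx z ⊓ Q) := hR.of_le
    (fun g hg => ⟨mem_centralizer_singleton_iff.2 (hd.commute_of_sq zr z1 hg), hR.le hg⟩) inf_le_right
  obtain ⟨e⟩ := TwoGrp.nonempty_mulEquiv_dihedral hd.ord hd.ss hd.conj hd.notMem hd.mem
  refine s2_concl (hR.le zR) (ord_two z1 z2) ?_ fun S h => ?_
  · obtain ⟨N, hN, h3, j, h4⟩ := Cfsg.Agent.S0514.result hS.toSylow n h2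
      ⟨(subgroupOfEquivOfLe hS.le).trans e⟩ ⟨z, hS.le zR⟩ (by rw [← Subgroup.orderOf_coe]; exact ord_two z1 z2)
    have h5 := FT.odd_order_solvable h3
    have h6 : Group.IsSolvable (_ ⧸ N) := Coprime.isSolvable_of_isPGroup (p := 2) (IsPGroup.of_card h4)
    have h7 := (Group.isSolvable_iff_subgroup_quotient N).2 ⟨h5, h6⟩
    refine Group.isSolvable_of_surjective (f := (centralizer ({⟨z, hS.le zR⟩} : Set ↥(Cx z ⊓ Q))).subtype)
      fun x => ⟨⟨x, mem_centralizer_singleton_iff.2 (Subtype.ext (mem_centralizer_singleton_iff.1 x.2.1))⟩, rfl⟩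
  · obtain ⟨g, -, rfl⟩ := hS.exists_cj_eq h
    exact Or.inr ⟨n, ⟨(cjEquiv g R).symm.trans e⟩⟩

theorem concl_E (hR : IsSylowIn 2 R Q) (hn : T ≤ Nm Q) (hd : Q ⊓ T = ⊥) (h : GR R P T) (hE : El R)
    (hT : El T) (h4 : 4 ≤ Nat.card T) (hne : P ≠ R) : Concl Q := by
  have hRN := hR.le.trans (le_normalizer (H := Q))
  have hs := s2_solv le_normalizer (solvE0 s2b_O (s2b_syl hR le_normalizer) (s2b_nm hn) (h.s2b hRN hn) (s2b_el hE)
    (s2b_el hT) (by rw [s2b_card h.twoT hn]; exact h4) (s2b_ne h.twoR h.le hRN hne))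
  obtain ⟨z, hz, h2⟩ := s2_inv h.twoR fun e => hne (le_antisymm h.le (e.le.trans bot_le))
  exact concl_el hR hE (hR.le hz) h2 (Coprime.isSolvable_of_le hs inf_le_right)

theorem concl_D {A : Subgroup G} {x : G} (hR : IsSylowIn 2 R Q) (hn : T ≤ Nm Q) (hd : Q ⊓ T = ⊥)
    (h : TD R A P T x) : Concl Q := by
  have hRN := hR.le.trans (le_normalizer (H := Q))
  have hs := s2_solv le_normalizer (solvD0 s2b_O (s2b_syl hR le_normalizer) (h.s2b hRN hn))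
  have xx := h.out x h.mem h.notMem
  refine s2_concl (hR.le h.mem) (ord_two xx fun e => h.notMem (e ▸ one_mem _))
    (Coprime.isSolvable_of_le hs inf_le_right) fun S hS => Or.inl ?_
  have xS : x ∈ S := mem_of_central hS ⟨mem_centralizer_singleton_iff.2 rfl, hR.le h.mem⟩ (two_of_sq xx)
    (ct_le_nm S (mem_centralizer_iff.2 fun s hs => mem_centralizer_singleton_iff.1 (hS.le hs).1))
  obtain ⟨g, hg, hle⟩ := hR.exists_cj_le hS.pgroup (hS.le.trans inf_le_right)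
  intro s hs
  have h1 := h.not_fused hR x h.mem h.notMem g hg
  have h2 : g * s * g⁻¹ * (g * s * g⁻¹) = 1 := by
    by_cases e : g * s * g⁻¹ ∈ A
    · have h3 := h.ll_inv (hle (conj_mem_cj.2 xS)) h1 e
      have h4 : s * x = x * s := mem_centralizer_singleton_iff.1 (hS.le hs).1
      rw [conj_mul, conj_mul, mul_left_inj, mul_right_inj, mul_assoc, ← h4, ← mul_assoc, mul_eq_right] at h3
      rw [conj_mul, h3, mul_one, mul_inv_cancel]
    · exact h.out _ (hle (conj_mem_cj.2 hs)) e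
  rwa [conj_mul, conj_eq_one_iff] at h2

theorem core_B (hR : IsSylowIn 2 R Q) (hn : T ≤ Nm Q) (hd : Q ⊓ T = ⊥) (h : TB R P T) :
    ∀ x ∈ Q, Two x → x ∈ opOf 2 Q ⊔ R := by
  intro x hx h2
  have hRN := hR.le.trans (le_normalizer (H := Q))
  have h1 := solvB0 s2b_O (s2b_syl hR le_normalizer) (s2b_nm hn) (h.s2b hRN hn)
  have hx' : s2π Q ⟨x, le_normalizer hx⟩ ∈ s2b Q Q := s2b_mem hx
  obtain ⟨r, hr, e⟩ := mem_of_central (s2b_syl hR le_normalizer) hx' (h2.imp fun k hk => by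
    rw [← map_pow, show (⟨x, le_normalizer hx⟩ : Nm Q) ^ 2 ^ k = 1 from Subtype.ext hk, map_one]) (h1 hx')
  have := mul_mem (mem_sup_right hr : (r : G) ∈ opOf 2 Q ⊔ R) (mem_sup_left (s2π_eq e))
  rwa [mul_inv_cancel_left] at this

theorem efull_pair {H : Subgroup G} (hR : IsSylowIn 2 R Q) (hE : El R) (hT : El T) (hn : T ≤ Nm Q)
    (hd : Q ⊓ T = ⊥) (hc : T ≤ Ct R) (hcard : Nat.card T = Nat.card R) (h1 : R ≠ ⊥)
    (hO : opOf 2 Q ≤ H) (hH : ∀ t ∈ T, t ≠ 1 → Q ⊓ Cx t ≤ H) (ho : NoInv ⁅Q ⊓ H, T⁆) :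
    Concl Q ∨ pLayerOf 2 Q ≤ H := by
  by_cases hq : Concl Q
  · exact Or.inl hq
  refine Or.inr (LBal.pLayerOf_le_iff.2 fun K hK => ?_)
  have hRN := hR.le.trans (le_normalizer (H := Q))
  have ne1 : ∀ {t : Nm Q}, s2π Q t ≠ 1 → (t : G) ≠ 1 := fun {t} h e =>
    h (by rw [show t = 1 from Subtype.ext e, map_one])
  rcases efull0 s2b_O (s2b_syl hR le_normalizer) (s2b_el hE) (s2b_el hT) (s2b_nm hn) (s2b_ct hc)
    (by rw [s2b_card hT.two hn, s2b_card hE.two hRN, hcard]) (by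
      rintro _ ⟨t, ht, rfl⟩ h1
      refine (s2b_noInv ho).mono (le_trans (commutator_mono (fun y hy => ?_) le_rfl) (s2b_comm _ _))
      obtain ⟨x, hx, rfl⟩ := s2_lift (two_of_mem hT.two ht) hy.1 hy.2
      exact s2b_mem ⟨hx.1, hH _ ht (ne1 h1) hx⟩) (s2b_rc hK) with ⟨_, ⟨t, ht, rfl⟩, h2, h3⟩ | ⟨_, ⟨z, hz, rfl⟩, h2, h3⟩
  · intro l hl
    have hl' : s2π Q ⟨l, le_normalizer (hK.le hl)⟩ ∈ s2b Q K := s2b_mem hl
    obtain ⟨x, hx, e⟩ := s2_lift (two_of_mem hT.two ht) (s2b_mono hK.le hl')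
      (mem_centralizer_singleton_iff.2 (mem_centralizer_iff.1 h3 _ hl'))
    have := mul_mem (hH _ ht (ne1 h2) hx) (hO (s2π_eq e))
    rwa [mul_inv_cancel_left] at this
  · refine absurd (concl_el hR hE (hR.le hz) ((s2π_ord hR.pgroup hz).1 h2)
      (s2_solv (inf_le_right.trans le_normalizer) (Coprime.isSolvable_of_le h3 ?_))) hq
    rintro _ ⟨x, hx, rfl⟩
    refine ⟨mem_centralizer_singleton_iff.2 ?_, s2b_mem hx.2⟩
    rw [← map_mul, ← map_mul, show x * z = z * x from Subtype.ext (mem_centralizer_singleton_iff.1 hx.1)]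

theorem layer_facts (hR : IsSylowIn 2 R Q) (hE : El R) (h1 : R ≠ ⊥) :
    Concl Q ∨ (Rk2 (pLayerOf 2 Q) ∧ SS (pLayerOf 2 Q)) := by
  by_cases hK : ∃ K, LBal.PC 2 K Q
  · obtain ⟨K, hK⟩ := hK
    refine Or.inr ⟨?_, fun x hx h2 hc => ?_⟩
    · obtain ⟨S, hS⟩ := exists_isSylowIn 2 K
      have hE' := s2_el hR hE hS.pgroup (hS.le.trans hK.le)
      obtain ⟨_, ⟨a, ha, rfl⟩, _, ⟨b, hb, rfl⟩, h2, h3, h4⟩ := four (s2b_rc hK).2
        (s2b_syl hS (hK.le.trans le_normalizer))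
      refine ⟨a, hK.le_pLayerOf (hS.le ha), b, hK.le_pLayerOf (hS.le hb), ord_two (hE' _ ha) fun e => h2 ?_,
        ord_two (hE' _ hb) fun e => h3 ?_, fun e => h4 ?_, hE'.ab _ ha _ hb⟩
      · rw [show a = 1 from Subtype.ext e, map_one]; exact one_mem _
      · rw [show b = 1 from Subtype.ext e, map_one]; exact one_mem _
      · rw [show a = b from Subtype.ext e, (s2π_sq hS.pgroup hb).2 (hE' _ hb)]; exact one_mem _
    · have hle := LBal.pLayerOf_le (p := 2) Q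
      have hN := hle.trans (le_normalizer (H := Q))
      have hQ : Q ≤ Nm (pLayerOf 2 Q) := fun q hq => mem_normalizer_of_forall (by
        rintro _ ⟨y, hy, rfl⟩
        exact ⟨_, pLayer_normal.conj_mem y hy ⟨q, hq⟩, rfl⟩)
      have hp : ⁅pLayerOf 2 Q, pLayerOf 2 Q⁆ = pLayerOf 2 Q := by
        rw [pLayerOf, ← map_commutator, pLayer_perfect]
      have hp' : ⁅s2b Q (pLayerOf 2 Q), s2b Q (pLayerOf 2 Q)⁆ = s2b Q (pLayerOf 2 Q) := by
        rw [s2b, ← map_commutator]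
        congr 1
        refine map_injective (subtype_injective _) ?_
        rw [LBal.map_subgroupOf_commutator hN hN, hp, map_subgroupOf_eq_of_le hN]
      obtain ⟨S, hS⟩ := exists_isSylowIn 2 (pLayerOf 2 Q)
      refine zab hp' (s2b_syl hS hN) (s2b_ab (s2_el hR hE hS.pgroup (hS.le.trans hle)).ab)
        (s2π Q ⟨x, hN hx⟩) ⟨s2b_mem hx, mem_centralizer_iff.2 ?_⟩
        ((s2π_ord (two_of_sq (sq_of_ord h2)).zpowers (x := ⟨x, hN hx⟩) (mem_zpowers x)).2 h2)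
      rintro _ ⟨a, ha, rfl⟩
      rw [eq_comm, ← commutatorElement_eq_one_iff_mul_comm, ← map_commutatorElement, s2π_one]
      exact opOf_le_opOf_of_le_normalizer hle hQ (hc _ ha)
  · have hs : Group.IsSolvable (⊤ : Subgroup (Q ⧸ pPrimeCore 2 Q)) := solv_of_noComp
      (opOf_top.trans LBal.pPrimeCore_quotient)
      (IsSylowIn.of_sylow_top (hR.toSylow.mapSurjective piO_surjective)) (by
        rintro _ ⟨x, hx, rfl⟩ _ ⟨y, hy, rfl⟩
        rw [← map_mul, ← map_mul, show x * y = y * x from Subtype.ext (hE.ab _ hx _ hy)]) fun L hL => by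
        obtain ⟨K, h, -⟩ := exists_pc_map_eq (LBal.rc_top.1 hL)
        exact hK ⟨_, LBal.pc_map_subtype.2 h⟩
    have h2 : Group.IsSolvable (Q ⧸ pPrimeCore 2 Q) :=
      Group.isSolvable_of_surjective (f := (⊤ : Subgroup (Q ⧸ pPrimeCore 2 Q)).subtype) fun x => ⟨⟨x, trivial⟩, rfl⟩
    have h3 : Group.IsSolvable (pPrimeCore 2 Q) := FT.odd_order_solvable (by
      have := coprime_ker_piO (p := 2) (G := Q)
      rwa [ker_piO, Nat.coprime_two_right] at this)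
    obtain ⟨z, hz, h4⟩ := s2_inv hR.pgroup h1
    exact Or.inl (concl_el hR hE (hR.le hz) h4 (Coprime.isSolvable_of_le
      ((Group.isSolvable_iff_subgroup_quotient _).2 ⟨h3, h2⟩) inf_le_right))

end CfsgLib.ACT
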