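import Cfsg.Agent.Lib.ACT.Defs3
import Cfsg.Agent.Lib.ACT.GT2
import Cfsg.Agent.Lib.Gold.All
import Cfsg.Agent.Lib.Gold.BT2

/-! Tight families with elementary abelian Sylow subgroups and trivial centres. See `plans/COMP.md`. -/

set_option autoImplicit false
set_option linter.unusedSectionVars false

namespace CfsgLib.ACT

open Subgroup Cfsg CfsgLib.Tech CfsgLib.PComp
open CfsgLib.LBal (RC)
open scoped commutatorElement

universe u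

variable {G : Type u} [Group G] [Finite G]

variable {𝒬 : Set (Subgroup G)}

/-- the elements acting trivially on `A / O(A)` -/
def SkC (A : Subgroup G) : Subgroup G where
  carrier := {x | x ∈ Nm A ∧ ∀ a ∈ A, ⁅x, a⁆ ∈ opOf 2 A}
  one_mem' := ⟨one_mem _, fun _ _ => by simp⟩
  mul_mem' := fun {x y} hx hy => ⟨mul_mem hx.1 hy.1, fun a ha => by
    convert mul_mem (conj_mem_of_mem_normalizer (normalizer_le_normalizer_opOf A hx.1) (hy.2 a ha)) (hx.2 a ha)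
      using 1
    simp only [commutatorElement_def]; group⟩
  inv_mem' := fun {x} hx => ⟨inv_mem hx.1, fun a ha => by
    convert conj_mem_of_mem_normalizer' (normalizer_le_normalizer_opOf A hx.1) (inv_mem (hx.2 a ha)) using 1
    simp only [commutatorElement_def]; group⟩

/-- the hypotheses of `ssk` -/
structure SkH (𝒬 : Set (Subgroup G)) : Prop where
  fam : Fam 𝒬
  sf : SF 𝒬
  ss : ∀ A ∈ 𝒬, SS A
  el : ∀ A ∈ 𝒬, ¬ NE A

/-- the subgroup generated by the intersections of a Sylow subgroup with the members -/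
def SkW (𝒬 : Set (Subgroup G)) (W : Subgroup G) : Prop := ∃ S : Sylow 2 G, W = WS 𝒬 S

theorem sk_le (S : Subgroup G) {B : Subgroup G} (hB : B ∈ 𝒬) : S ⊓ B ≤ WS 𝒬 S :=
  le_iSup₂_of_le (f := fun A (_ : A ∈ 𝒬) => S ⊓ A) B hB le_rfl

theorem sk_le_iff {S K : Subgroup G} : WS 𝒬 S ≤ K ↔ ∀ B ∈ 𝒬, S ⊓ B ≤ K := iSup₂_le_iff

theorem sk_meets {S B K : Subgroup G} (hS : IsPGroup 2 S) (h : Meets S B → S ⊓ B ≤ K) : S ⊓ B ≤ K := by
  refine fun x hx => by_contra fun k => k (h ?_ hx)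
  obtain ⟨i, hi⟩ := (two_of_mem hS hx.1).exists_inv fun e => k (e ▸ one_mem K)
  exact ⟨_, pow_mem hx.2 i, pow_mem hx.1 i, hi⟩

namespace SkH

variable (H : SkH 𝒬) {A₁ A₂ B₁ B₂ W : Subgroup G} {a₁ a₂ b₁ b₂ : G}
include H

theorem co {A C : Subgroup G} (hA : A ∈ 𝒬) (hC : C ∈ 𝒬) (adj : Adj A C) {x : G} (hx : x ∈ C) : x ∈ SkC A :=
  ⟨adj.2.2 hx, fun a ha => le_opOf_of_noInv (H.fam.ti _ hC _ hA adj.1.symm) inf_le_right
    (fun _ hy => bas_nm_inf (adj.2.1 hy) (le_normalizer hy)) (comm_mem_inf hx ha (adj.2.2 hx) (adj.2.1 ha))⟩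

theorem e1 (E : Gt2E 𝒬 A₁ A₂ a₁ a₂) (F : Gt2E 𝒬 B₁ B₂ b₁ b₂) (e : a₁ * a₂ = b₁ * b₂) :
    A₁ = B₁ ∨ A₁ = B₂ := by
  have h := H.fam
  obtain ⟨R, hR, l, hc⟩ := h.exists_syl_ct E.m₂ E.m₁ E.adj.symm
    (two_of_sq (sq_of_ord E.o₂)).zpowers (zpowers_le.2 E.h₂)
    (two_of_sq (sq_of_ord E.o₁)).zpowers (zpowers_le.2 E.h₁) (zpowers_le.2 (gt2_ct E.c.symm))
  obtain ⟨v, hv, v2, va, cv⟩ := exists_four hR.pgroup ((h.rk _ E.m₁).syl hR)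
    (l (mem_zpowers _)) E.o₁
  have cv2 : a₂ * v = v * a₂ := mem_centralizer_iff.1 (hc hv) a₂ (mem_zpowers _)
  obtain ⟨i, hi⟩ := exists_two_prod (sq_of_ord v2) (sq_of_ord F.o₁)
  have d2 := E.ord h
  have dv : Commute (a₁ * a₂) v := Commute.mul_left cv cv2
  have db : Commute (a₁ * a₂) b₁ := e ▸ Commute.mul_left (Commute.refl b₁) F.c.symm
  have dc : Commute (a₁ * a₂) ((v * b₁) ^ (2 * i)) := (dv.mul_right db).pow_right _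
  have e0 : v * (v * b₁) * v⁻¹ = (v * b₁)⁻¹ := by
    rw [← mul_assoc, sq_of_ord v2, one_mul, mul_inv_rev,
      inv_eq_of_mul_eq_one_right (sq_of_ord F.o₁)]
  have e1 : Commute (v * ((v * b₁) ^ (2 * i) * b₁ * ((v * b₁) ^ (2 * i))⁻¹))
      ((v * b₁) ^ (2 * i)) := by
    rw [show v * ((v * b₁) ^ (2 * i) * b₁ * ((v * b₁) ^ (2 * i))⁻¹) =
      v * (v * b₁) ^ (2 * i) * v⁻¹ * (v * b₁) * ((v * b₁) ^ (2 * i))⁻¹ by group, ← conj_pow, e0]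
    exact (((Commute.refl _).inv_left.pow_pow _ _).mul_left
      ((Commute.refl _).pow_right _)).mul_left (Commute.refl _).inv_left
  generalize (v * b₁) ^ (2 * i) = c at hi dc e1
  have d₁ : a₁ * a₂ * (c * b₁ * c⁻¹) = c * b₂ * c⁻¹ := by
    rw [← mul_assoc, ← mul_assoc, dc.eq, mul_assoc c, e, F.c, mul_assoc b₂, sq_of_ord F.o₁, mul_one]
  have d₂ : a₁ * a₂ * (c * b₂ * c⁻¹) = c * b₁ * c⁻¹ := by
    rw [← d₁, ← mul_assoc (a₁ * a₂), sq_of_ord d2, one_mul]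
  have dx : Commute (a₁ * a₂) (c * b₁ * c⁻¹) := (dc.mul_right db).mul_right dc.inv_right
  have e2 : v * (c * b₂ * c⁻¹) = a₁ * a₂ * (v * (c * b₁ * c⁻¹)) := by
    rw [← d₁, ← mul_assoc, ← dv.eq, mul_assoc]
  have t2 : Two (v * (c * b₂ * c⁻¹)) :=
    e2 ▸ (two_of_sq (sq_of_ord d2)).mul hi (dv.mul_right dx).eq
  have key : ∀ {B B' : Subgroup G} {x : G}, B' ∈ 𝒬 → A₁ = cj c B → x ∈ A₁ → Adj A₁ B' →
      a₁ * a₂ * x ∈ B' → Two (v * x) → Commute (v * x) c → A₁ = B := by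
    intro B B' x mB eB hx adj hx' tw cm
    have ne : v * x ≠ 1 := fun e1 => by
      have : x = v := by rw [← inv_eq_of_mul_eq_one_right e1,
        inv_eq_of_mul_eq_one_right (sq_of_ord v2)]
      subst this
      refine H.ss _ E.m₁ _ (mul_mem E.h₁ hx) (gt2_inv E.o₁ v2 va.symm cv) ?_
      have := (mul_mem (inv_mem (H.co E.m₁ E.m₂ E.adj E.h₂)) (H.co E.m₁ mB adj hx')).2
      rwa [E.c, mul_assoc, inv_mul_cancel_left] at this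
    obtain ⟨k, hk⟩ := tw.exists_inv ne
    have := h.cx_le E.m₁ (pow_mem (mul_mem (hR.le hv) hx) k) hk
      (mem_centralizer_singleton_iff.2 (cm.pow_left k).symm.eq)
    exact cj_injective c ((mem_normalizer_iff_cj.1 this).trans eB)
  have F' := F.cj h c
  by_cases q₁ : A₁ = cj c B₁
  · exact Or.inl (key F'.m₂ q₁ (q₁ ▸ F'.h₁) (q₁ ▸ F'.adj) (d₁ ▸ F'.h₂) hi e1)
  by_cases q₂ : A₁ = cj c B₂
  · exact Or.inr (key F'.m₁ q₂ (q₂ ▸ F'.h₂) (q₂ ▸ F'.adj.symm) (d₂ ▸ F'.h₁) t2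
      (e2 ▸ dc.mul_left e1))
  refine (H.ss _ E.m₁ _ E.h₁ E.o₁ ?_).elim
  have := (mul_mem (mul_mem (H.co E.m₁ F'.m₂ (h.cl H.sf E.m₁ F'.m₂ q₂ (hR.le hv) F'.h₂ v2 F'.o₂ t2) F'.h₂)
    (inv_mem (H.co E.m₁ F'.m₁ (h.cl H.sf E.m₁ F'.m₁ q₁ (hR.le hv) F'.h₁ v2 F'.o₁ hi) F'.h₁)))
    (inv_mem (H.co E.m₁ E.m₂ E.adj E.h₂))).2
  rwa [← d₁, mul_inv_cancel_right, mul_inv_cancel_right] at this

theorem perm (E : Gt2E 𝒬 A₁ A₂ a₁ a₂) {y : G} (hy : y * (a₁ * a₂) = a₁ * a₂ * y) :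
    (y ∈ Nm A₁ ∧ y ∈ Nm A₂) ∨ (cj y A₁ = A₂ ∧ cj y A₂ = A₁) := by
  have e : y * a₁ * y⁻¹ * (y * a₂ * y⁻¹) = a₁ * a₂ := by rw [conj_mul, hy, mul_inv_cancel_right]
  exact gt2_perm (H.e1 (E.cj H.fam y) E e)
    (H.e1 (E.cj H.fam y).symm E ((E.cj H.fam y).c.symm.trans e)) E.adj.1

theorem nm_symm {A B : Subgroup G} (hA : A ∈ 𝒬) (hB : B ∈ 𝒬) {a : G} (ha : a ∈ A) (o : orderOf a = 2)
    (hn : a ∈ Nm B) : B ≤ Nm A := by
  by_cases e : A = B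
  exacts [e ▸ le_normalizer, (H.fam.adj_of_inv hA hB e ha o hn).2.2]

theorem e2 (E : Gt2E 𝒬 A₁ A₂ a₁ a₂) {C : Subgroup G} (hC : C ∈ 𝒬) (hn : a₁ * a₂ ∈ Nm C) :
    A₁ ≤ Nm C ∧ A₂ ≤ Nm C := by
  have h := H.fam
  obtain ⟨c, hc, c2, cc⟩ := exists_inv_fixed (two_of_sq (sq_of_ord (E.ord h))).zpowers
    (zpowers_le.2 hn) (h.not_noInv hC)
  rcases H.perm E (mem_centralizer_iff.1 cc _ (mem_zpowers _)).symm with ⟨n₁, n₂⟩ | ⟨s, -⟩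
  · exact ⟨H.nm_symm hC E.m₁ hc c2 n₁, H.nm_symm hC E.m₂ hc c2 n₂⟩
  · exact (H.sf _ E.m₁ _ hC c hc c2 (s.symm ▸ E.adj)).elim

theorem e3_aux (E : Gt2E 𝒬 A₁ A₂ a₁ a₂) (F : Gt2E 𝒬 B₁ B₂ b₁ b₂) (S : Sylow 2 G)
    (s₁ : a₁ ∈ (S : Subgroup G)) (s₂ : a₂ ∈ (S : Subgroup G)) (s : b₁ * b₂ ∈ (S : Subgroup G))
    (hc : b₁ * b₂ * (a₁ * a₂) = a₁ * a₂ * (b₁ * b₂)) (hw : cj (a₁ * a₂) B₁ = B₂) : False := by
  have h := H.fam
  have nf : ¬(A₁ ≤ Nm B₁ ∧ A₂ ≤ Nm B₁) := fun n =>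
    F.adj.1 ((mem_normalizer_iff_cj.1 (mul_mem (n.1 E.h₁) (n.2 E.h₂))).symm.trans hw)
  rcases H.perm E hc with ⟨n₁, n₂⟩ | ⟨w₁, w₂⟩
  · exact nf ⟨H.nm_symm F.m₁ E.m₁ F.h₁ F.o₁ ((H.e2 F E.m₁ n₁).1 F.h₁),
      H.nm_symm F.m₁ E.m₂ F.h₁ F.o₁ ((H.e2 F E.m₂ n₂).1 F.h₁)⟩
  have pF := fun y hy => H.perm F (y := y) hy
  have ε2 := sq_of_ord (F.ord h)
  generalize b₁ * b₂ = ε at s hc w₁ w₂ pF ε2
  have cS : ∀ x ∈ (S : Subgroup G), ε * x * ε⁻¹ ∈ (S : Subgroup G) := fun x hx =>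
    mul_mem (mul_mem s hx) (inv_mem s)
  have c₁ : ∀ x ∈ A₁, ε * x * ε⁻¹ ∈ A₂ := fun x hx => w₁ ▸ conj_mem_cj.2 hx
  have cc : ∀ x ∈ A₁, x ∈ (S : Subgroup G) → ∀ y ∈ A₂, y ∈ (S : Subgroup G) → Commute x y :=
    fun x hx sx y hy sy => (mem_centralizer_iff.1
      (h.inf_le_ct H.sf E.m₁ E.m₂ E.adj.1 S.isPGroup' ⟨sx, hx⟩) y ⟨sy, hy⟩).symm
  have q : ε * a₁ * ε⁻¹ = a₂ := by
    have e : ε * a₂ * ε⁻¹ * (ε * a₁ * ε⁻¹) = a₁ * a₂ := by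
      rw [conj_mul, ← E.c, hc, mul_inv_cancel_right]
    have m : a₂ * (ε * a₁ * ε⁻¹)⁻¹ ∈ A₁ ⊓ A₂ := ⟨by
      rw [show a₂ * (ε * a₁ * ε⁻¹)⁻¹ = a₁⁻¹ * (a₁ * a₂) * (ε * a₁ * ε⁻¹)⁻¹ by group, ← e,
        mul_assoc, mul_inv_cancel_right]
      exact A₁.mul_mem (A₁.inv_mem E.h₁) (w₂ ▸ conj_mem_cj.2 E.h₂),
      A₂.mul_mem E.h₂ (A₂.inv_mem (c₁ _ E.h₁))⟩
    exact (mul_inv_eq_one.1 ((h.ti _ E.m₁ _ E.m₂ E.adj.1).eq_one m
      (two_of_mem S.isPGroup' (mul_mem s₂ (inv_mem (cS _ s₁)))))).symm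
  have hR := h.syl_of_meets H.sf E.m₁ S ⟨a₁, E.h₁, s₁, E.o₁⟩
  obtain ⟨v, ⟨sv, hv⟩, v2, va, cv⟩ := exists_four hR.pgroup ((h.rk _ E.m₁).syl hR)
    (a := a₁) ⟨s₁, E.h₁⟩ E.o₁
  have key : ∀ x ∈ A₁, x ∈ (S : Subgroup G) → orderOf x = 2 →
      cj (x * (ε * x * ε⁻¹)) B₁ = B₂ ∧ cj (x * (ε * x * ε⁻¹)) B₂ = B₁ := fun x hx sx x2 => by
    have c := cc x hx sx _ (c₁ x hx) (cS x sx)
    have εi : ε⁻¹ = ε := inv_eq_of_mul_eq_one_right ε2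
    refine (pF _ ?_).resolve_left fun n => ?_
    · calc x * (ε * x * ε⁻¹) * ε = ε * (ε⁻¹ * x * ε) * x := by group
        _ = ε * (ε * x * ε⁻¹ * x) := by rw [εi, mul_assoc]
        _ = _ := by rw [← c.eq]
    · exact nf (H.e2 ⟨E.m₁, E.m₂, E.adj, hx, c₁ x hx, x2, (ord_conj _ _).trans x2, c.eq⟩ F.m₁ n.1)
  have k₁ := key v hv sv v2
  have k₂ := key _ (mul_mem E.h₁ hv) (mul_mem s₁ sv) (gt2_inv E.o₁ v2 va.symm cv)
  have e : a₁ * v * (ε * (a₁ * v) * ε⁻¹) * (v * (ε * v * ε⁻¹)) = a₁ * a₂ := by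
    have u₁ := (cc v hv sv _ (c₁ v hv) (cS v sv)).eq
    have u₂ := (cc v hv sv _ E.h₂ s₂).eq
    have u₃ := sq_of_ord ((ord_conj ε v).trans v2)
    rw [← conj_mul, q]
    calc a₁ * v * (a₂ * (ε * v * ε⁻¹)) * (v * (ε * v * ε⁻¹))
        = a₁ * (v * a₂) * (ε * v * ε⁻¹ * v) * (ε * v * ε⁻¹) := by group
      _ = a₁ * a₂ * (v * v) * (ε * v * ε⁻¹ * (ε * v * ε⁻¹)) := by rw [← u₁, u₂]; group
      _ = _ := by rw [u₃, sq_of_ord v2, mul_one, mul_one]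
  exact F.adj.1 (by rw [← hw, ← e, cj_mul, k₁.1, k₂.2])

theorem e3 (E : Gt2E 𝒬 A₁ A₂ a₁ a₂) (m₁ : B₁ ∈ 𝒬) (adj : Adj B₁ (cj (a₁ * a₂) B₁)) : False := by
  have h := H.fam
  have d2 := E.ord h
  have t2 := two_of_sq (sq_of_ord d2)
  obtain ⟨R, hR, nR, -, sR⟩ := Fam.fam_syl_pair adj t2.zpowers
    (zpowers_le.2 (Fam.fam_nm_pair (sq_of_ord d2) B₁))
  obtain ⟨c, ⟨cR, hc⟩, -, -, c2, -⟩ := (h.rk _ m₁).syl sR
  have cR' := conj_mem_of_mem_normalizer (nR (mem_zpowers _)) cR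
  have F : Gt2E 𝒬 B₁ _ c _ := ⟨m₁, h.conj _ m₁ _, adj, hc, conj_mem_cj.2 hc, c2,
    (ord_conj _ _).trans c2, h.comm_of_adj m₁ (h.conj _ m₁ _) adj hc (conj_mem_cj.2 hc)
      (two_of_mem hR (mul_mem (mul_mem (mul_mem cR cR') (inv_mem cR)) (inv_mem cR')))⟩
  have e : c * (a₁ * a₂ * c * (a₁ * a₂)⁻¹) ∈ Cx (a₁ * a₂) := by
    have δi := inv_eq_of_mul_eq_one_right (sq_of_ord d2)
    have := F.c
    generalize a₁ * a₂ = δ at this δi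
    refine mem_centralizer_singleton_iff.2 ?_
    calc c * (δ * c * δ⁻¹) * δ = δ * (δ⁻¹ * c * δ) * c := by group
      _ = δ * (δ * c * δ⁻¹ * c) := by rw [δi, mul_assoc]
      _ = _ := by rw [← this]
  have x₁ : a₁ ∈ Cx (a₁ * a₂) := mem_centralizer_singleton_iff.2
    ((Commute.refl a₁).mul_right E.c).eq
  have x₂ : a₂ ∈ Cx (a₁ * a₂) := mem_centralizer_singleton_iff.2
    ((Commute.symm E.c).mul_right (Commute.refl a₂)).eq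
  obtain ⟨T, hT, l⟩ := exists_isSylowIn_ge (two_sup (two_of_sq (sq_of_ord E.o₁)).zpowers
    (two_of_sq (sq_of_ord E.o₂)).zpowers (zpowers_le.2 (ct_le_nm _ (gt2_ct E.c))))
    (sup_le (zpowers_le.2 x₁) (zpowers_le.2 x₂))
  obtain ⟨y, hy, my⟩ := hT.exists_conj_mem e (two_of_sq (sq_of_ord (F.ord h))).zpowers
  obtain ⟨S, hS⟩ := hT.pgroup.exists_le_sylow
  rw [← conj_mul] at my
  refine H.e3_aux E (F.cj h y) S (hS (l (mem_sup_left (mem_zpowers _))))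
    (hS (l (mem_sup_right (mem_zpowers _)))) (hS my)
    (mem_centralizer_singleton_iff.1 (hT.le my)) ?_
  rw [← cj_mul, ← cj_mul, mem_centralizer_singleton_iff.1 hy]

theorem ws_cj (S : Subgroup G) (g : G) : cj g (WS 𝒬 S) = WS 𝒬 (cj g S) := by
  have k : ∀ (S : Subgroup G) (g : G), WS 𝒬 (cj g S) ≤ cj g (WS 𝒬 S) := fun S g => sk_le_iff.2 fun B hB => by
    rw [← cj_cj_inv g B, ← cj_inf]
    exact cj_mono g (sk_le S (H.fam.conj B hB g⁻¹))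
  refine le_antisymm ?_ (k S g)
  have := cj_mono g (k (cj g S) g⁻¹)
  rwa [cj_inv_cj, cj_cj_inv] at this

theorem w_cj (w : SkW 𝒬 W) (g : G) : SkW 𝒬 (cj g W) := by
  obtain ⟨S, rfl⟩ := w
  exact ⟨g • S, H.ws_cj S g⟩

theorem w_ct (w : SkW 𝒬 W) : W ≤ Ct W := by
  obtain ⟨S, rfl⟩ := w
  refine sk_le_iff.2 fun A hA => le_ct_comm.1 (sk_le_iff.2 fun B hB => ?_)
  by_cases e : B = A
  · subst e
    have : El ((S : Subgroup G) ⊓ B) := by_contra fun k =>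
      let ⟨x, hx, o⟩ := ne_of_not_el (S.isPGroup'.to_le inf_le_left) k; H.el B hB ⟨x, hx.2, o⟩
    exact fun x hx y hy => this.ab y hy x hx
  · exact H.fam.inf_le_ct H.sf hB hA e S.isPGroup'

theorem w_el (w : SkW 𝒬 W) : El W := by
  have c := H.w_ct w
  let K : Subgroup G :=
    { carrier := {x | x ∈ W ∧ x * x = 1}
      one_mem' := ⟨one_mem _, one_mul 1⟩
      mul_mem' := fun {a b} ha hb => ⟨mul_mem ha.1 hb.1, by
        rw [Commute.mul_mul_mul_comm (c ha.1 b hb.1), ha.2, hb.2, one_mul]⟩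
      inv_mem' := fun {a} ha => ⟨inv_mem ha.1, by rw [← mul_inv_rev, ha.2, inv_one]⟩ }
  obtain ⟨S, rfl⟩ := w
  have : WS 𝒬 S ≤ K := sk_le_iff.2 fun A hA x hx => ⟨sk_le _ hA hx, by_contra fun k =>
    let ⟨y, hy, o⟩ := ne_of_not_el (S.isPGroup'.to_le (inf_le_left (b := A))) fun e => k (e x hx); H.el A hA ⟨y, hy.2, o⟩⟩
  exact fun x hx => (this hx).2

theorem w_max (w : SkW 𝒬 W) {Y A : Subgroup G} (hY : IsPGroup 2 Y) (le : W ≤ Y) (hA : A ∈ 𝒬) : Y ⊓ A ≤ W := by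
  obtain ⟨S, rfl⟩ := w
  obtain ⟨T, hT⟩ := hY.exists_le_sylow
  obtain ⟨g, rfl⟩ := MulAction.exists_smul_eq G S T
  have : WS 𝒬 S = WS 𝒬 (g • S : Sylow 2 G) := eq_of_le_of_card_ge
    (sk_le_iff.2 fun B hB => (le_inf ((sk_le _ hB).trans (le.trans hT)) inf_le_right).trans (sk_le _ hB))
    (by rw [coe_smul_sylow, ← H.ws_cj, card_cj])
  exact this ▸ (inf_le_inf_right A hT).trans (sk_le _ hA)

theorem w_into (w : SkW 𝒬 W) {M A : Subgroup G} (le : W ≤ M) (hA : A ∈ 𝒬) {x : G} (hx : x ∈ A) (hM : x ∈ M)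
    (h2 : Two x) : ∃ m ∈ M, x ∈ cj m W := by
  obtain ⟨T, hT, l⟩ := exists_isSylowIn_ge (H.w_el w).two le
  obtain ⟨m, hm, k⟩ := hT.exists_conj_mem hM h2.zpowers
  exact ⟨m⁻¹, inv_mem hm, mem_cj.2 (by
    simpa using H.w_max w hT.pgroup l (H.fam.conj A hA m) ⟨k, conj_mem_cj.2 hx⟩)⟩

theorem w_cx (w : SkW 𝒬 W) {y : G} (hy : y ∈ W) : W ≤ Cx y :=
  fun x hx => mem_centralizer_singleton_iff.2 (H.w_ct w hy x hx)

theorem pp (w : SkW 𝒬 W) {y : G} (hy : y ∈ W) {S A : Subgroup G} (hS : IsPGroup 2 S) (hA : A ∈ 𝒬) (yS : y ∈ S)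
    (hn : Meets S A → y ∈ Nm A) : S ⊓ A ≤ Cx y := sk_meets hS fun m s hs => by
  obtain ⟨v, hv, -, o, c⟩ := Gt2.fixed hS m yS (hn m)
  obtain ⟨c, hc, k⟩ := H.w_into w (H.w_cx w hy) hA hv (mem_centralizer_singleton_iff.2 c.symm) (two_of_sq (sq_of_ord o))
  have w' := H.w_cj w c
  have hy' : y ∈ cj c W := by
    have := conj_mem_cj (g := c).2 hy
    rwa [mem_centralizer_singleton_iff.1 hc, mul_inv_cancel_right] at this
  generalize cj c W = W' at k w' hy'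
  have n : W' ≤ Nm A := (H.w_cx w' k).trans (H.fam.cx_le hA hv o)
  obtain ⟨T, hT, l⟩ := exists_isSylowIn_ge (H.w_el w').two (le_sup_right (a := A))
  obtain ⟨g, hg, k'⟩ := hT.exists_cj_le (Q := S ⊓ (A ⊔ W')) (hS.to_le inf_le_left) inf_le_right
  obtain ⟨a, ha, u, hu, rfl⟩ := (mem_sup_nm n).1 hg
  have h1 : a * u * s * (a * u)⁻¹ ∈ W' := H.w_max w' hT.pgroup l hA
    ⟨k' (conj_mem_cj.2 ⟨hs.1, mem_sup_left hs.2⟩), conj_mem_of_mem_normalizer (mul_mem (le_normalizer ha) (n hu)) hs.2⟩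
  have e : a * u * y * (a * u)⁻¹ = ⁅a, y⁆ * y := by
    rw [mul_assoc a, ← H.w_ct w' hu y hy', commutatorElement_def]; group
  have h2 : a * u * y * (a * u)⁻¹ ∈ W' := by
    have h3 := k' (conj_mem_cj.2 ⟨yS, mem_sup_right hy'⟩)
    rw [e] at h3 ⊢
    refine mul_mem (H.w_max w' hT.pgroup l hA (mem_inf.2 ⟨(mul_mem_cancel_right (l hy')).1 h3, ?_⟩)) hy'
    simpa only [commutatorElement_def, mul_assoc] using mul_mem ha (conj_mem_of_mem_normalizer (n hy') (inv_mem ha))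
  have := H.w_ct w' h2 _ h1
  rw [conj_mul, conj_mul] at this
  exact mem_centralizer_singleton_iff.2 (by simpa using this)

theorem nm_of (S : Sylow 2 G) (w : SkW 𝒬 W) {y : G} (hy : y ∈ W) (yS : y ∈ (S : Subgroup G)) (m₁ : A₁ ∈ 𝒬)
    (m : Meets S A₁) : y ∈ Nm A₁ := by
  have h := H.fam
  have hS := S.isPGroup'
  by_contra hn
  have ne : A₁ ≠ cj y A₁ := fun e => hn (mem_normalizer_iff_cj.2 e.symm)
  have m₂ := h.conj _ m₁ y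
  have adj := h.adj_of_meets H.sf m₁ m₂ ne hS m (cj_eq_of_mem yS ▸ m.cj y)
  obtain ⟨a, ha, aS, o⟩ := m
  have aS' : y * a * y⁻¹ ∈ (S : Subgroup G) := mul_mem (mul_mem yS aS) (inv_mem yS)
  have E : Gt2E 𝒬 A₁ _ a _ := ⟨m₁, m₂, adj, ha, conj_mem_cj.2 ha, o, (ord_conj y a).trans o,
    (h.inf_le_ct H.sf m₁ m₂ ne hS ⟨aS, ha⟩ _ ⟨aS', conj_mem_cj.2 ha⟩).symm⟩
  have yi := inv_eq_of_mul_eq_one_right (H.w_el w y hy)
  have dW : a * (y * a * y⁻¹) ∈ WS 𝒬 S := mul_mem (sk_le _ m₁ ⟨aS, ha⟩) (sk_le _ m₂ ⟨aS', conj_mem_cj.2 ha⟩)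
  have ad : a * (a * (y * a * y⁻¹)) = a * (y * a * y⁻¹) * a := by rw [mul_assoc a _ a, E.c]
  have ay : a * y * a⁻¹ = a * (y * a * y⁻¹) * y := by
    rw [inv_eq_of_mul_eq_one_right (sq_of_ord o)]; group
  have dy : a * (y * a * y⁻¹) ∈ Cx y := mem_centralizer_singleton_iff.2 (by
    calc _ = y * (y⁻¹ * a * y) * a := by group
      _ = y * (y * a * y⁻¹ * a) := by rw [yi, mul_assoc]
      _ = _ := by rw [← E.c])
  have e3 := fun B hB => H.e3 (B₁ := B) E hB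
  have d2 := two_of_sq (sq_of_ord (E.ord h))
  generalize a * (y * a * y⁻¹) = δ at dW ad ay dy e3 d2
  obtain ⟨T, hT, l⟩ := exists_isSylowIn_ge (H.w_el w).two (H.w_cx w hy)
  obtain ⟨c, hc, k⟩ := hT.exists_conj_mem dy d2.zpowers
  have p := isPGroup_cj c⁻¹ hT.pgroup
  have l' := cj_mono c⁻¹ l
  have dT : δ ∈ cj c⁻¹ T := mem_cj.2 (by simpa using k)
  have w' := H.w_cj w c⁻¹
  have hy' : y ∈ cj c⁻¹ W := mem_cj.2 (by
    rwa [inv_inv, mem_centralizer_singleton_iff.1 hc, mul_inv_cancel_right])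
  generalize cj c⁻¹ W = W' at l' w' hy'
  generalize cj c⁻¹ T = T' at l' p dT
  have cd : W' ≤ Cx δ := by
    obtain ⟨S', e⟩ := w'
    refine e.le.trans (sk_le_iff.2 fun B hB => (le_inf ((sk_le _ hB).trans (e.ge.trans l')) inf_le_right).trans
      (H.pp ⟨S, rfl⟩ dW p hB dT fun m => by_contra fun k => e3 B hB (h.adj_of_meets H.sf hB (h.conj _ hB δ)
        (fun e => k (mem_normalizer_iff_cj.2 e.symm)) p m (cj_eq_of_mem dT ▸ m.cj δ))))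
  have ct : ∀ {x δ y : G}, x * δ = δ * x → x * y = y * x → x ∈ Ct (zpowers δ ⊔ zpowers y) := fun a b =>
    zpowers_le.1 (le_ct_comm.1 (sup_le (zpowers_le.2 (gt2_ct a)) (zpowers_le.2 (gt2_ct b))))
  obtain ⟨m, hm, k⟩ := H.w_into w' (M := Cx δ ⊓ Nm (zpowers δ ⊔ zpowers y)) (fun x hx => ⟨cd hx, ct_le_nm _
      (ct (mem_centralizer_singleton_iff.1 (cd hx)) (H.w_ct w' hy' x hx))⟩) m₁ ha
    ⟨mem_centralizer_singleton_iff.2 ad, mem_normalizer_of_cj_le (by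
      rw [cj_sup, cj_zpowers, cj_zpowers, ay, ad, mul_inv_cancel_right]
      exact sup_le le_sup_left (zpowers_le.2 (mul_mem_sup (mem_zpowers δ) (mem_zpowers y))))⟩ (two_of_sq (sq_of_ord o))
  have := ct ad (H.w_ct (H.w_cj w' m) (conj_mem_cj.2 hy') a k)
  nth_rw 1 [← mul_inv_cancel_right δ m, ← mem_centralizer_singleton_iff.1 hm.1] at this
  rw [← cj_zpowers, ← cj_zpowers, ← cj_sup, mem_normalizer_iff_cj.1 hm.2] at this
  exact hn (h.cx_le m₁ ha o (mem_centralizer_singleton_iff.2 (this y (mem_sup_right (mem_zpowers y)))))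

theorem sc (S : Sylow 2 G) : IsStronglyClosed (WS 𝒬 S) S := by
  refine ⟨sk_le_iff.2 fun _ _ => inf_le_left, fun x hx g yS => ?_⟩
  have w : SkW 𝒬 (WS 𝒬 S) := ⟨S, rfl⟩
  have w' := H.w_cj w g
  have hy := conj_mem_cj (g := g).2 hx
  generalize g * x * g⁻¹ = y at yS hy
  generalize cj g (WS 𝒬 S) = W' at w' hy
  obtain ⟨T, hT, l⟩ := exists_isSylowIn_ge (H := Cx y) (H.w_el w).two
    (sk_le_iff.2 fun A hA => H.pp w' hy S.isPGroup' hA yS (H.nm_of S w' hy yS hA))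
  obtain ⟨c, hc, k⟩ := hT.exists_cj_le (H.w_el w').two (H.w_cx w' hy)
  obtain ⟨S', e⟩ := H.w_cj w' c
  have := (e.le.trans (sk_le_iff.2 fun B hB => (le_inf ((sk_le _ hB).trans (e.ge.trans k)) inf_le_right).trans
    (H.w_max w hT.pgroup l hB))) (conj_mem_cj.2 hy)
  rwa [mem_centralizer_singleton_iff.1 hc, mul_inv_cancel_right] at this

end SkH

theorem ssk [IsSimpleGroup G] (hG : NSE G) (h : Fam 𝒬) (hss : ∀ A ∈ 𝒬, SS A)
    (hel : ∀ A ∈ 𝒬, ¬ NE A) {A B : Subgroup G} (hA : A ∈ 𝒬) (hB : B ∈ 𝒬) (hAB : Adj A B) :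
    False := by
  have H : SkH 𝒬 := ⟨h, h.sf_of_ss hss, hss, hel⟩
  obtain ⟨S, sA, sB⟩ := h.exists_meets₂ hA hB hAB
  obtain ⟨a, ha, aS, o⟩ := id sA
  have hn : ¬IsMulCommutative G := fun c => hss A hA a ha o fun b _ => by
    rw [commutatorElement_eq_one_iff_mul_comm.2 (c.1.1 a b)]; exact one_mem _
  rcases (Gold.gstar Gold.inputs G).gt inferInstance hn (Gold.Cor.hasSC_of S
    (fun e => ne_one_of_ord o (mem_bot.1 (e ▸ sk_le _ hA ⟨aS, ha⟩)))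
    ⟨⟨fun x y => Subtype.ext (H.w_ct ⟨S, rfl⟩ y.2 x x.2)⟩⟩ (H.sc S)) with k | k
  · exact hG _ (k.isStronglyEmbedded S)
  have h1 := ((h.rk A hA).syl (h.syl_of_meets H.sf hA S sA)).four_le
  have h2 := ((h.rk B hB).syl (h.syl_of_meets H.sf hB S sB)).four_le
  have h3 := card_sup_of_disj ((h.inf_le_ct H.sf hB hA hAB.1.symm S.isPGroup').trans (ct_le_nm _))
    ((h.ti A hA B hB hAB.1).eq_bot (S.isPGroup'.to_le (inf_le_left.trans inf_le_left))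
      (inf_le_inf inf_le_right inf_le_right))
  have h4 := card_le_of_le (sup_le inf_le_left inf_le_left : (S : Subgroup G) ⊓ A ⊔ (S : Subgroup G) ⊓ B ≤ S)
  have h5 := Nat.mul_le_mul h1 h2
  rcases k.big S with k | ⟨k, -⟩ <;> omega

end CfsgLib.ACT
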