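import Cfsg.Agent.Lib.ACT.BADP
import Cfsg.Agent.Lib.ACT.SSK
import Cfsg.Agent.Lib.ACT.EG5
import Cfsg.Agent.Lib.ACT.FTOP
import Cfsg.Agent.S3121

/-! The centraliser of a standard subgroup. See `plans/COMP.md`. -/

set_option autoImplicit false

namespace CfsgLib.ACT

open Subgroup Cfsg CfsgLib.Tech CfsgLib.PComp
open CfsgLib.LBal (RC)
open scoped commutatorElement

universe u

variable {G : Type u} [Group G] [Finite G]

variable {𝒬 : Set (Subgroup G)}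

theorem stop_le (g : G) (H : Subgroup G) : cj g (pLayerOf 2 H) ≤ pLayerOf 2 (cj g H) :=
  map_le_iff_le_comap.2 (LBal.pLayerOf_le_iff.2 fun _ hK => map_le_iff_le_comap.1 (hK.conj g).le_pLayerOf)

theorem stop_cj (g : G) (H : Subgroup G) : cj g (pLayerOf 2 H) = pLayerOf 2 (cj g H) :=
  le_antisymm (stop_le g H) (by simpa only [cj_cj_inv, cj_inv_cj] using cj_mono g (stop_le g⁻¹ (cj g H)))

theorem stop_nm (H : Subgroup G) : Nm H ≤ Nm (pLayerOf 2 H) := fun g hg =>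
  mem_normalizer_iff_cj.2 (by rw [stop_cj, mem_normalizer_iff_cj.1 hg])

omit [Finite G] in
theorem stop_rk {A : Subgroup G} (h : Rk2 A) (g : G) : Rk2 (cj g A) := by
  obtain ⟨a, ha, b, hb, h1, h2, h3, h4⟩ := h
  exact ⟨_, conj_mem_cj.2 ha, _, conj_mem_cj.2 hb, by rw [ord_conj, h1], by rw [ord_conj, h2],
    fun e => h3 (by simpa using e), by rw [conj_mul, conj_mul, h4]⟩

theorem SK.sup (h : SK 𝒬) {A : Subgroup G} (hA : A ∈ 𝒬) : sSup 𝒬 = ⊤ := by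
  have := h.simple
  have hn : (sSup 𝒬).Normal := normalizer_eq_top_iff.1 (eq_top_iff.2 fun g _ => mem_normalizer_of_cj_le
    (map_le_iff_le_comap.2 (sSup_le fun B hB => map_le_iff_le_comap.1 (le_sSup (h.conj B hB g)))))
  refine hn.eq_bot_or_eq_top.resolve_left fun e => ?_
  obtain ⟨a, ha, -, -, h2, -⟩ := h.rk A hA
  exact ne_one_of_ord h2 (mem_bot.1 (e ▸ (le_sSup hA : A ≤ sSup 𝒬) ha))

theorem SK.concl (h : SK 𝒬) {A B : Subgroup G} (hA : A ∈ 𝒬) (hB : B ∈ 𝒬) (hw : WAdj A B) :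
    Concl A := by
  by_contra h0
  have hc : ∀ C ∈ 𝒬, ¬ Concl C := fun C hC e => by
    obtain ⟨g, rfl⟩ := h.trans C hC A hA
    exact h0 (e.cj g)
  have hs : ∀ C ∈ 𝒬, ∀ D ∈ 𝒬, C ≠ D → ∀ P T, PT C D P T → IsSylowIn 2 P C := fun C hC D hD hne P T hp => by
    by_contra hn
    obtain ⟨q, e, b⟩ := h.eg hc hC hD hne hp hn
    exact e.false h.hasK hC hD b
  have full : ∀ C ∈ 𝒬, ∀ D ∈ 𝒬, WAdj C D → ∃ P T, PT C D P T ∧ IsSylowIn 2 P C ∧ IsSylowIn 2 T D :=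
    fun C hC D hD w => by
      obtain ⟨P, T, hp⟩ := h.exists_pt hC hD w
      exact ⟨P, T, hp, hs C hC D hD w.1 P T hp, hs D hD C hC w.1.symm T P hp.symm⟩
  have tr : ∀ C ∈ 𝒬, ∀ D ∈ 𝒬, NE C → NE D := fun C hC D hD ⟨x, hx, e⟩ => by
    obtain ⟨g, rfl⟩ := h.trans C hC D hD
    exact ⟨_, conj_mem_cj.2 hx, by rw [ord_conj, e]⟩
  by_cases hne : NE A
  · have nm : ∀ C ∈ 𝒬, ∀ D ∈ 𝒬, WAdj C D → C ≤ Nm D := fun C hC D hD w => by
      obtain ⟨P, T, hp, -, sT⟩ := full C hC D hD w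
      by_contra hn
      exact (h.ab_of_not_le hC hD w.1 hp hn).2 ⟨(h.rk D hD).syl sT, (tr A hA D hD hne).syl sT⟩
    have hf : Fam 𝒬 := ⟨h.conj, h.ti, fun C hC D hD a ha h2 hn => by
      by_cases e : C = D
      exacts [e ▸ le_normalizer, nm C hC D hD ⟨e, a, ha, h2, hn⟩], h.rk⟩
    exact no_edge h.conj (gt hf fun C hC => tr A hA C hC hne) (h.sup hA) h.trans A hA B hB
      ⟨hw.1, nm A hA B hB hw, nm B hB A hA (h.wadj_symm hA hB hw)⟩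
  have el : ∀ C ∈ 𝒬, ∀ R, IsSylowIn 2 R C → El R ∧ R ≠ ⊥ := fun C hC R hR => by
    refine ⟨by_contra fun e => ?_, fun e => ?_⟩
    · obtain ⟨x, hx, h4⟩ := ne_of_not_el hR.pgroup e
      exact hne (tr C hC A hA ⟨x, hR.le hx, h4⟩)
    · obtain ⟨a, ha, -, -, h2, -⟩ := (h.rk C hC).syl hR
      exact ne_one_of_ord h2 (mem_bot.1 (e ▸ ha))
  have nm : ∀ C ∈ 𝒬, ∀ D ∈ 𝒬, WAdj C D → pLayerOf 2 C ≤ Nm (pLayerOf 2 D) := fun C hC D hD w => by
    obtain ⟨P, T, hp, sP, sT⟩ := full C hC D hD w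
    have nT : T ≤ Nm C := hp.sT.le.trans inf_le_right
    have ti := h.ti C hC D hD w.1
    refine ((efull_pair sP (el C hC P sP).1 (el D hD T sT).1 nT
      (ti.eq_bot (sT.pgroup.to_le inf_le_right) (inf_le_inf_left _ sT.le)) (le_ct_comm.1 hp.cent) hp.card.symm
      (el C hC P sP).2 (h.core_le hC hD hp ((h.rk D hD).syl sT)) (fun t ht t1 => inf_le_right.trans
        (h.cx_le hD (sT.le ht) (ord_two ((el D hD T sT).1 t ht) t1)))
      (ti.mono (commutator_le.2 fun c hc t ht => ?_))).resolve_left (hc C hC)).trans (stop_nm D)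
    exact comm_mem_inf (mem_inf.1 hc).1 (sT.le ht) (mem_inf.1 hc).2 (nT ht)
  have lf : ∀ C ∈ 𝒬, Rk2 (pLayerOf 2 C) ∧ SS (pLayerOf 2 C) := fun C hC => by
    obtain ⟨R, hR⟩ := exists_isSylowIn 2 C
    exact (layer_facts hR (el C hC R hR).1 (el C hC R hR).2).resolve_left (hc C hC)
  have := h.simple
  refine ssk (𝒬 := pLayerOf 2 '' 𝒬) h.nse ⟨?_, ?_, ?_, ?_⟩ ?_ ?_ ⟨A, hA, rfl⟩ ⟨B, hB, rfl⟩
    ⟨fun e => ?_, nm A hA B hB hw, nm B hB A hA (h.wadj_symm hA hB hw)⟩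
  · rintro _ ⟨C, hC, rfl⟩ g
    exact ⟨_, h.conj C hC g, (stop_cj g C).symm⟩
  · rintro _ ⟨C, hC, rfl⟩ _ ⟨D, hD, rfl⟩ e
    exact (h.ti C hC D hD fun e' => e (e' ▸ rfl)).mono (inf_le_inf (LBal.pLayerOf_le C) (LBal.pLayerOf_le D))
  · rintro _ ⟨C, hC, rfl⟩ _ ⟨D, hD, rfl⟩ a ha h2 hn
    by_cases e : C = D
    · exact e ▸ le_normalizer
    obtain ⟨d, hd, -, -, d2, -⟩ := (lf D hD).1
    obtain ⟨b, hb, b2, hab⟩ := exists_inv_fixed (two_of_sq (sq_of_ord h2)).zpowers (zpowers_le.2 hn) fun o => o d hd d2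
    exact nm C hC D hD ⟨e, a, LBal.pLayerOf_le C ha, h2, h.cx_le hD (LBal.pLayerOf_le D hb) b2
      (mem_centralizer_singleton_iff.2 (mem_centralizer_iff.1 hab a (mem_zpowers a)))⟩
  · rintro _ ⟨C, hC, rfl⟩
    exact (lf C hC).1
  · rintro _ ⟨C, hC, rfl⟩
    exact (lf C hC).2
  · rintro _ ⟨C, hC, rfl⟩ ⟨x, hx, e⟩
    exact hne (tr C hC A hA ⟨x, LBal.pLayerOf_le C hx, e⟩)
  · obtain ⟨a, ha, -, -, a2, -⟩ := (lf A hA).1
    exact h.ti A hA B hB hw.1 a (mem_inf.2 ⟨LBal.pLayerOf_le A ha, LBal.pLayerOf_le B (e ▸ ha)⟩) a2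

theorem second [IsSimpleGroup G] {K : Subgroup G} (hK : IsStandardSubgroup K) : Concl (Ct K) := by
  obtain ⟨qs, te, -, hn⟩ := hK
  have he : ¬ NoInv (Ct K) := fun o => Nat.not_even_iff_odd.2 (noInv_iff.1 o) te.1
  by_cases hr : Rk2 (Ct K)
  swap
  · exact concl_rk1 he hr
  obtain ⟨y, hy, -, -, y2, -⟩ := id hr
  have nse : NSE G := nse_of_comp qs y2 fun k hk => mem_centralizer_singleton_iff.2 (mem_centralizer_iff.1 hy k hk)
  have h : SK {Q | ∃ g : G, cj g (Ct K) = Q} := by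
    refine ⟨inferInstance, nse, ?_, ?_, ?_, ?_, ?_⟩
    · rintro _ ⟨g, rfl⟩ k
      exact ⟨k * g, cj_mul k g _⟩
    · rintro _ ⟨g, rfl⟩ _ ⟨k, rfl⟩
      exact ⟨k * g⁻¹, by rw [cj_mul, cj_inv_cj]⟩
    · rintro _ ⟨g, rfl⟩ _ ⟨k, rfl⟩ e
      have := (noInv_iff.2 (te.2 (g⁻¹ * k) fun m => e (by
        have := congrArg (cj g) (mem_normalizer_iff_cj.1 m)
        rw [← cj_mul, mul_inv_cancel_left] at this
        exact this.symm))).cj g
      rwa [cj_inf, ← cj_mul, mul_inv_cancel_left] at this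
    · rintro _ ⟨g, rfl⟩
      exact ⟨cj g K, qs_cj qs g, (cj_centralizer g K).symm, by rw [Nm, Nm, ← cj_normalizer, ← cj_normalizer, hn]⟩
    · rintro _ ⟨g, rfl⟩
      exact stop_rk hr g
  obtain ⟨g, g1, g2⟩ := ftop_tight nse te fun e => by
    rcases (normalizer_eq_top_iff.1 e).eq_bot_or_eq_top with e | e
    · exact ne_one_of_ord y2 (mem_bot.1 (e ▸ hy))
    · exact qs_not_le_ct qs (le_top.trans e.ge)
  have w : WAdj (cj g (Ct K)) (Ct K) := ⟨fun e => g1 (mem_normalizer_iff_cj.2 e), by_contra fun o => g2 fun x hx x2 =>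
    o ⟨x, (mem_inf.1 hx).1, x2, (mem_inf.1 hx).2⟩⟩
  simpa only [cj_inv_cj] using (h.concl ⟨g, rfl⟩ ⟨1, cj_one _⟩ w).cj g⁻¹

end CfsgLib.ACT
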